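import Groth.Agent.AlgSpB.Points
import Mathlib.AlgebraicGeometry.Morphisms.QuasiFinite
import Mathlib.RingTheory.Unramified.LocalStructure
import Mathlib.AlgebraicGeometry.Morphisms.FinitePresentation

/-!
# Affine charts
-/

universe u

open CategoryTheory CategoryTheory.Limits AlgebraicGeometry Opposite Topology TopologicalSpace
  Set.Notation

set_option backward.isDefEq.respectTransparency false

namespace Groth.Agent.AlgSpB

open AlgSp

variable {S : Scheme.{u}} {F : Sp S}

theorem locallyQuasiFinite_of_etale {X Y : Scheme.{u}} (f : X ⟶ Y) [Etale f] :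
    LocallyQuasiFinite f := by
  refine ⟨fun {U} hU {V} hV e => ?_⟩
  have h := f.etale_appLE hU hV e
  have h1 := h.formallyUnramified
  algebraize [(f.appLE U V e).hom]
  exact (RingHom.quasiFinite_algebraMap).2 inferInstance

/-- A chart with affine source from a chart and compactness of the space of points. -/
theorem exists_affine_chart_of_compactSpace [CompactSpace (Points F)] {U : Over S}
    {p : (yon S).obj U ⟶ F} (hp : RepWith @Etale p) (hs : RepWith @Surjective p) :
    ∃ (V : Over S) (g : V ⟶ U), IsAffine V.left ∧ RepWith @Etale ((yon S).map g ≫ p) ∧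
      RepWith @Surjective ((yon S).map g ≫ p) := by
  let W : U.left.affineOpens → Set (Points F) := fun V => Points.ofPt p '' (V.1 : Set ↥U.left)
  have hWo : ∀ V, IsOpen (W V) := fun V => isOpenMap_ofPt hp _ V.1.isOpen
  have hWc : (Set.univ : Set (Points F)) ⊆ ⋃ V, W V := by
    intro x _
    obtain ⟨u, rfl⟩ := surjective_ofPt hs x
    obtain ⟨V, hV, hu, -⟩ := exists_isAffineOpen_mem_and_subset (x := u) (U := ⊤) trivial
    exact Set.mem_iUnion.2 ⟨⟨V, hV⟩, u, hu, rfl⟩
  obtain ⟨t, ht⟩ := isCompact_univ.elim_finite_subcover W hWo hWc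
  let X : {i // i ∈ t} → Scheme.{u} := fun i => (i.1.1 : Scheme.{u})
  have hX : ∀ i, IsAffine (X i) := fun i => i.1.2
  let q : (∐ X) ⟶ U.left := Sigma.desc fun i : {i // i ∈ t} => i.1.1.ι
  have hq : Etale q :=
    IsZariskiLocalAtSource.sigmaDesc (P := @Etale) fun i =>
      (inferInstance : Etale (i.1.1 : U.left.Opens).ι)
  let V : Over S := Over.mk (q ≫ U.hom)
  let g : V ⟶ U := Over.homMk q rfl
  have : Etale g.left := hq
  have he := repWith_etale_map_comp g hp
  refine ⟨V, g, inferInstanceAs (IsAffine (∐ X)), he, repWith_surjective_of_surjective_ofPt he.1 ?_⟩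
  intro x
  obtain ⟨i, hi⟩ := Set.mem_iUnion₂.1 (ht (Set.mem_univ x))
  obtain ⟨u, hu, rfl⟩ := hi.2
  refine ⟨Sigma.ι X ⟨i, hi.1⟩ ⟨u, hu⟩, ?_⟩
  rw [ofPt_map_comp]
  congr 1
  change q (Sigma.ι X ⟨i, hi.1⟩ ⟨u, hu⟩) = u
  rw [← Scheme.Hom.comp_apply, Sigma.ι_desc]
  rfl

theorem compactSpace_points_of_isQuasiCompactSp (h : IsQuasiCompactSp F) :
    CompactSpace (Points F) := by
  obtain ⟨U, p, -, hs, hc⟩ := h
  exact isCompact_univ_iff.1 ((surjective_ofPt hs).range_eq ▸
    isCompact_range (Points.continuous_ofPt p))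

/-- Compact open neighbourhoods of points. -/
theorem exists_isOpen_isCompact_nhd {U : Over S} {p : (yon S).obj U ⟶ F} (hp : RepWith @Etale p)
    (hs : RepWith @Surjective p) (x : Points F) (W : Set (Points F)) (hW : IsOpen W) (hx : x ∈ W) :
    ∃ V : Set (Points F), IsOpen V ∧ IsCompact V ∧ x ∈ V ∧ V ⊆ W := by
  obtain ⟨u, rfl⟩ := surjective_ofPt hs x
  obtain ⟨V, hV, hu, hVW⟩ := exists_isAffineOpen_mem_and_subset (x := u)
    (U := ⟨_, hW.preimage (Points.continuous_ofPt p)⟩) hx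
  refine ⟨Points.ofPt p '' V, isOpenMap_ofPt hp _ V.isOpen,
    hV.isCompact.image (Points.continuous_ofPt p), ⟨u, hu, rfl⟩, ?_⟩
  rintro _ ⟨v, hv, rfl⟩
  exact hVW hv

theorem isLocallyConstructible_preimage {X Y : Scheme.{u}} (f : X ⟶ Y) {s : Set ↥Y}
    (hs : IsLocallyConstructible s) : IsLocallyConstructible (f ⁻¹' s) := by
  intro x
  obtain ⟨V, hV, hxV, -⟩ := exists_isAffineOpen_mem_and_subset (x := f x) (U := ⊤) trivial
  obtain ⟨W, hW, hxW, hWV⟩ := exists_isAffineOpen_mem_and_subset (x := x) (U := f ⁻¹ᵁ V) hxV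
  refine ⟨W, W.isOpen.mem_nhds hxW, W.isOpen, ?_⟩
  have : IsAffine (W : Scheme.{u}) := hW
  have : IsAffine (V : Scheme.{u}) := hV
  have hV' : IsConstructible (V.ι ⁻¹' s) :=
    (hs.preimage_of_isOpenEmbedding V.ι.isOpenEmbedding).isConstructible
  have h := (f.resLE V W hWV).isConstructible_preimage hV'
  have e : f.resLE V W hWV ⁻¹' (V.ι ⁻¹' s) = W.ι ⁻¹' (f ⁻¹' s) := by
    ext w
    simp only [Set.mem_preimage, ← Scheme.Hom.comp_apply, Scheme.Hom.resLE_comp_ι]
  rw [e] at h
  exact h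

/-- Descent of local constructibility along an open morphism locally of finite presentation. -/
theorem isLocallyConstructible_of_preimage {X Y : Scheme.{u}} (f : X ⟶ Y)
    [LocallyOfFinitePresentation f] [Surjective f] (hf : IsOpenMap f)
    {s : Set ↥Y} (hs : IsLocallyConstructible (f ⁻¹' s)) : IsLocallyConstructible s := by
  have H : ∀ y : ↥Y, ∃ O : Opens ↥Y, y ∈ O ∧ IsLocallyConstructible ((O : Set ↥Y) ↓∩ s) := by
    intro y
    obtain ⟨x, rfl⟩ := f.surjective y
    obtain ⟨V, hV, hxV, -⟩ := exists_isAffineOpen_mem_and_subset (x := f x) (U := ⊤) trivial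
    obtain ⟨W, hW, hxW, hWV⟩ :=
      exists_isAffineOpen_mem_and_subset (x := x) (U := f ⁻¹ᵁ V) hxV
    have hO : IsOpen (f '' W) := hf _ W.isOpen
    have : IsAffine (W : Scheme.{u}) := hW
    have : IsAffine (V : Scheme.{u}) := hV
    let g := f.resLE V W hWV
    have h1 : IsConstructible (W.ι ⁻¹' (f ⁻¹' s)) :=
      (hs.preimage_of_isOpenEmbedding W.ι.isOpenEmbedding).isConstructible
    have h2 : IsLocallyConstructible (g '' (W.ι ⁻¹' (f ⁻¹' s))) :=
      (g.isConstructible_image h1).isLocallyConstructible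
    have hsub : (f '' W : Set ↥Y) ⊆ V := by
      rintro _ ⟨w, hw, rfl⟩
      exact hWV hw
    refine ⟨⟨f '' W, hO⟩, ⟨x, hxW, rfl⟩, ?_⟩
    have he : IsOpenEmbedding (fun o : ↥(f '' W : Set ↥Y) => (⟨o.1, hsub o.2⟩ : ↥(V : Scheme.{u}))) :=
      IsOpenEmbedding.id.restrict hsub hO
    have hg : ∀ w : ↥(W : Scheme.{u}), V.ι (g w) = f (W.ι w) := fun w => by
      rw [← Scheme.Hom.comp_apply, ← Scheme.Hom.comp_apply, Scheme.Hom.resLE_comp_ι]
    convert! h2.preimage_of_isOpenEmbedding he using 1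
    ext ⟨o, w, hw, rfl⟩
    constructor
    · intro ho
      exact ⟨⟨w, hw⟩, ho, Subtype.ext (hg ⟨w, hw⟩)⟩
    · rintro ⟨w', hw', e⟩
      have : f (W.ι w') = f w := (hg w').symm.trans (congrArg Subtype.val e)
      simpa [← this] using hw'
  choose O hO hO' using H
  exact IsLocallyConstructible.of_isOpenCover (U := O) (IsOpenCover.mk (Opens.ext (Set.eq_univ_of_forall fun y => by simpa using ⟨y, hO y⟩))) hO' 

end Groth.Agent.AlgSpB
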