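import Groth.Agent.AlgSpB.Charts

/-!
# Diagonals of algebraic spaces through pairs of charts
-/

universe u

open CategoryTheory CategoryTheory.Limits AlgebraicGeometry Opposite

set_option backward.isDefEq.respectTransparency false

namespace Groth.Agent.AlgSpB

open AlgSp

variable {S : Scheme.{u}}

theorem isPullback_diag {X U V P : Sp S} {a : U ⟶ X} {b : V ⟶ X} {fst : P ⟶ U} {snd : P ⟶ V}
    (h : IsPullback fst snd a b) :
    IsPullback (fst ≫ a) (prod.lift fst snd) (Limits.diag X) (prod.map a b) := by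
  have w : (fst ≫ a) ≫ Limits.diag X = prod.lift fst snd ≫ prod.map a b := by
    ext <;> simp [h.w]
  refine IsPullback.of_isLimit (h := PullbackCone.IsLimit.mk w (fun s =>
    h.lift (s.snd ≫ prod.fst) (s.snd ≫ prod.snd) ?_) ?_ ?_ ?_)
  · have e1 := congrArg (fun k => k ≫ prod.fst) s.condition
    have e2 := congrArg (fun k => k ≫ prod.snd) s.condition
    simp only [Category.assoc, prod.lift_fst, prod.lift_snd, Category.comp_id, prod.map_fst,
      prod.map_snd] at e1 e2
    simp only [Category.assoc, ← e1, ← e2]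
  · intro s
    have e1 := congrArg (fun k => k ≫ prod.fst) s.condition
    simp only [Category.assoc, prod.lift_fst, Category.comp_id, prod.map_fst] at e1
    rw [← Category.assoc, h.lift_fst, Category.assoc, e1]
  · intro s
    ext <;> simp
  · intro s m _ hm
    apply h.hom_ext
    · simp [← hm]
    · simp [← hm]

/-- `RepWith P` can be tested on affine schemes for `P` Zariski local at the target. -/
theorem repWith_of_affine {P : MorphismProperty Scheme.{u}} [IsZariskiLocalAtTarget P]
    [P.IsStableUnderBaseChange] {F G : Sp S} {f : F ⟶ G} (hf : Representable f)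
    (h : ∀ ⦃U V : Over S⦄ (g : (yon S).obj U ⟶ G) (fst : (yon S).obj V ⟶ F) (snd : V ⟶ U),
      IsAffine U.left → IsPullback fst ((yon S).map snd) f g → P snd.left) :
    RepWith P f := by
  refine ⟨hf, fun U V g fst snd sq => ?_⟩
  change P snd.left
  rw [IsZariskiLocalAtTarget.iff_of_openCover (P := P) U.left.affineCover]
  intro i
  let Ui : Over S := Over.mk (U.left.affineCover.f i ≫ U.hom)
  let ι : Ui ⟶ U := Over.homMk (U.left.affineCover.f i) rfl
  have sq' := (IsPullback.of_hasPullback snd ι).map (yon S)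
  have hP := h ((yon S).map ι ≫ g) _ _ (inferInstanceAs (IsAffine (U.left.affineCover.X i)))
    (sq'.paste_horiz sq)
  have sq'' : IsPullback (pullback.fst snd ι).left (pullback.snd snd ι).left snd.left
      (U.left.affineCover.f i) := (IsPullback.of_hasPullback snd ι).map (Over.forget S)
  rw [show Scheme.Cover.pullbackHom U.left.affineCover snd.left i =
    pullback.snd snd.left (U.left.affineCover.f i) from rfl]
  rw [← sq''.isoPullback_inv_snd]
  exact (P.cancel_left_of_respectsIso _ _).2 hP

/-- The morphism `W ⟶ U ×_S V` of schemes underlying a pair of morphisms over `S`. -/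
noncomputable abbrev pairHom {U V W : Over S} (fst : W ⟶ U) (snd : W ⟶ V) :
    W.left ⟶ pullback U.hom V.hom :=
  pullback.lift fst.left snd.left (by rw [Over.w fst, Over.w snd])

theorem lift_left_comp_iso {U V W : Over S} (fst : W ⟶ U) (snd : W ⟶ V) :
    (prod.lift fst snd).left ≫ (Over.prodLeftIsoPullback U V).hom = pairHom fst snd := by
  apply pullback.hom_ext
  · simp only [Category.assoc, Over.prodLeftIsoPullback_hom_fst, pullback.lift_fst]
    rw [← Over.comp_left, prod.lift_fst]
  · simp only [Category.assoc, Over.prodLeftIsoPullback_hom_snd, pullback.lift_snd]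
    rw [← Over.comp_left, prod.lift_snd]

theorem yon_lift_comp {U V W : Over S} (fst : W ⟶ U) (snd : W ⟶ V) :
    (yon S).map (prod.lift fst snd) ≫ prodComparison (yon S) U V =
      prod.lift ((yon S).map fst) ((yon S).map snd) := by
  ext <;> simp [← Functor.map_comp]

/-- A property of the diagonal passes to `U ×_X V ⟶ U ×_S V`. -/
theorem prop_pairHom {P : MorphismProperty Scheme.{u}} [P.IsStableUnderBaseChange] {X : Sp S}
    (hX : RepWith P (Limits.diag X)) {U V W : Over S} {a : (yon S).obj U ⟶ X}
    {b : (yon S).obj V ⟶ X} {fst : W ⟶ U} {snd : W ⟶ V}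
    (h : IsPullback ((yon S).map fst) ((yon S).map snd) a b) : P (pairHom fst snd) := by
  have : P.RespectsIso := MorphismProperty.IsStableUnderBaseChange.respectsIso
  have sq := isPullback_diag h
  rw [← yon_lift_comp] at sq
  have sq' : IsPullback ((yon S).map fst ≫ a) ((yon S).map (prod.lift fst snd)) (Limits.diag X)
      (prodComparison (yon S) U V ≫ prod.map a b) := by
    refine sq.of_iso (Iso.refl _) (Iso.refl _) (asIso (prodComparison (yon S) U V)).symm
      (Iso.refl _) ?_ ?_ ?_ ?_ <;> simp
  have := hX.2 _ _ _ sq'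
  rw [← lift_left_comp_iso]
  exact (P.cancel_right_of_respectsIso _ _).2 this

/-- The diagonal of an algebraic space has `P` when all `U ×_X V ⟶ U ×_S V`, `U`, `V` affine, have. -/
theorem repWith_diag {P : MorphismProperty Scheme.{u}} [IsZariskiLocalAtTarget P]
    [P.IsStableUnderBaseChange] (X : Space S)
    (h : ∀ (U W : Over S) (a b : (yon S).obj U ⟶ X.obj) (fst snd : W ⟶ U), IsAffine U.left →
      IsPullback ((yon S).map fst) ((yon S).map snd) a b → P (pairHom fst snd)) :
    RepWith P (Limits.diag X.obj) := by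
  refine repWith_of_affine X.property.diag fun U Z g z1 z2 hU sq => ?_
  let a : (yon S).obj U ⟶ X.obj := g ≫ prod.fst
  let b : (yon S).obj U ⟶ X.obj := g ≫ prod.snd
  obtain ⟨W, fst, snd, h0⟩ := exists_pullback_yon (X.property.representable_from_yon a) b
  have sqD := isPullback_diag h0
  rw [← yon_lift_comp] at sqD
  have sqD' : IsPullback ((yon S).map fst ≫ a) ((yon S).map (prod.lift fst snd)) (Limits.diag X.obj)
      (prodComparison (yon S) U U ≫ prod.map a b) := by
    refine sqD.of_iso (Iso.refl _) (Iso.refl _) (asIso (prodComparison (yon S) U U)).symm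
      (Iso.refl _) ?_ ?_ ?_ ?_ <;> simp
  have hg : (yon S).map (Limits.diag U) ≫ prodComparison (yon S) U U ≫ prod.map a b = g := by
    rw [← Category.assoc]
    erw [yon_lift_comp]
    ext <;> simp [a, b]
  let l : (yon S).obj Z ⟶ (yon S).obj W :=
    sqD'.lift z1 ((yon S).map (z2 ≫ Limits.diag U)) (by
      rw [sq.w, Functor.map_comp, Category.assoc, hg])
  have h1 : l ≫ (yon S).map fst ≫ a = z1 := sqD'.lift_fst _ _ _
  have h2 : l ≫ (yon S).map (prod.lift fst snd) = (yon S).map z2 ≫ (yon S).map (Limits.diag U) := by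
    rw [sqD'.lift_snd, Functor.map_comp]
  have sq2 : IsPullback l ((yon S).map z2) ((yon S).map (prod.lift fst snd))
      ((yon S).map (Limits.diag U)) :=
    IsPullback.of_right (by rw [h1, hg]; exact sq) h2 sqD'
  obtain ⟨l', hl'⟩ := (yon S).map_surjective l
  rw [← hl'] at sq2
  have sq3 := (IsPullback.of_map (yon S) ((yon S).map_injective (by
      rw [Functor.map_comp, Functor.map_comp]; exact sq2.w)) sq2).map (Over.forget S)
  have hP : P (prod.lift fst snd).left := by
    have : P.RespectsIso := MorphismProperty.IsStableUnderBaseChange.respectsIso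
    rw [← MorphismProperty.cancel_right_of_respectsIso P _ (Over.prodLeftIsoPullback U U).hom,
      lift_left_comp_iso]
    exact h U W a b fst snd hU h0
  exact P.of_isPullback sq3 hP

end Groth.Agent.AlgSpB

namespace Groth.Agent.AlgSpB

open AlgSp

variable {S : Scheme.{u}}

theorem mono_lift {X : Sp S} {U V W : Over S} {a : (yon S).obj U ⟶ X} {b : (yon S).obj V ⟶ X}
    {fst : W ⟶ U} {snd : W ⟶ V}
    (h : IsPullback ((yon S).map fst) ((yon S).map snd) a b) : Mono (prod.lift fst snd) := by
  refine ⟨fun m₁ m₂ e => (yon S).map_injective (h.hom_ext ?_ ?_)⟩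
  · rw [← Functor.map_comp, ← Functor.map_comp]
    have := congrArg (fun k => k ≫ prod.fst) e
    simp only [Category.assoc, prod.lift_fst] at this
    rw [this]
  · rw [← Functor.map_comp, ← Functor.map_comp]
    have := congrArg (fun k => k ≫ prod.snd) e
    simp only [Category.assoc, prod.lift_snd] at this
    rw [this]

/-- `U ×_X V ⟶ U ×_S V` is a monomorphism. -/
theorem mono_pairHom {X : Sp S} {U V W : Over S} {a : (yon S).obj U ⟶ X} {b : (yon S).obj V ⟶ X}
    {fst : W ⟶ U} {snd : W ⟶ V}
    (h : IsPullback ((yon S).map fst) ((yon S).map snd) a b) : Mono (pairHom fst snd) := by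
  have := mono_lift h
  rw [← lift_left_comp_iso]
  infer_instance

theorem isPullback_yon_lift {X : Sp S} {U V W : Over S} {a : (yon S).obj U ⟶ X}
    {b : (yon S).obj V ⟶ X} {fst : W ⟶ U} {snd : W ⟶ V}
    (h : IsPullback ((yon S).map fst) ((yon S).map snd) a b) :
    IsPullback ((yon S).map fst ≫ a) ((yon S).map (prod.lift fst snd)) (Limits.diag X)
      (prodComparison (yon S) U V ≫ prod.map a b) := by
  have sq := isPullback_diag h
  rw [← yon_lift_comp] at sq
  refine sq.of_iso (Iso.refl _) (Iso.refl _) (asIso (prodComparison (yon S) U V)).symm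
      (Iso.refl _) ?_ ?_ ?_ ?_ <;> simp

/-- Functoriality of `U ×_X V ⟶ U ×_S V` in the two schemes: the comparison square is cartesian. -/
theorem isPullback_pairHom {X : Sp S} {U V U' V' W W' : Over S} {a : (yon S).obj U ⟶ X}
    {b : (yon S).obj V ⟶ X} {fst : W ⟶ U} {snd : W ⟶ V}
    (h : IsPullback ((yon S).map fst) ((yon S).map snd) a b) (φ : U' ⟶ U) (ψ : V' ⟶ V)
    {fst' : W' ⟶ U'} {snd' : W' ⟶ V'}
    (h' : IsPullback ((yon S).map fst') ((yon S).map snd') ((yon S).map φ ≫ a)
      ((yon S).map ψ ≫ b)) :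
    ∃ q : W'.left ⟶ W.left, IsPullback q (pairHom fst' snd') (pairHom fst snd)
      (pullback.map U'.hom V'.hom U.hom V.hom φ.left ψ.left (𝟙 S) (by simp) (by simp)) := by
  have hc : ((yon S).map fst' ≫ (yon S).map φ) ≫ a = ((yon S).map snd' ≫ (yon S).map ψ) ≫ b := by
    simpa only [Category.assoc] using h'.w
  obtain ⟨q, hq⟩ := (yon S).map_surjective (h.lift _ _ hc)
  have q1 : q ≫ fst = fst' ≫ φ := (yon S).map_injective (by
    rw [Functor.map_comp, hq, h.lift_fst, Functor.map_comp])
  have q2 : q ≫ snd = snd' ≫ ψ := (yon S).map_injective (by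
    rw [Functor.map_comp, hq, h.lift_snd, Functor.map_comp])
  have hw : q ≫ prod.lift fst snd = prod.lift fst' snd' ≫ prod.map φ ψ := by
    rw [prod.comp_lift, prod.lift_map, q1, q2]
  have big := isPullback_yon_lift h'
  have hbot : (yon S).map (prod.map φ ψ) ≫ prodComparison (yon S) U V ≫ prod.map a b =
      prodComparison (yon S) U' V' ≫ prod.map ((yon S).map φ ≫ a) ((yon S).map ψ ≫ b) := by
    rw [← prod.map_map, ← prodComparison_natural_assoc]
  have sq : IsPullback ((yon S).map q) ((yon S).map (prod.lift fst' snd'))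
      ((yon S).map (prod.lift fst snd)) ((yon S).map (prod.map φ ψ)) := by
    refine IsPullback.of_right ?_ ?_ (isPullback_yon_lift h)
    · rw [← Category.assoc, ← Functor.map_comp, q1, hbot, Functor.map_comp, Category.assoc]
      exact big
    · rw [← Functor.map_comp, ← Functor.map_comp, hw]
  have sq' := (IsPullback.of_map (yon S) hw sq).map (Over.forget S)
  refine ⟨q.left, sq'.of_iso (Iso.refl _) (Iso.refl _) (Over.prodLeftIsoPullback U' V')
    (Over.prodLeftIsoPullback U V) ?_ ?_ ?_ ?_⟩
  · simp
  · simp [lift_left_comp_iso]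
  · simp [lift_left_comp_iso]
  · apply pullback.hom_ext
    · simp only [Over.forget_map, Category.assoc, Over.prodLeftIsoPullback_hom_fst,
        pullback.lift_fst]
      rw [Over.prodLeftIsoPullback_hom_fst_assoc, ← Over.comp_left, prod.map_fst, Over.comp_left]
    · simp only [Over.forget_map, Category.assoc, Over.prodLeftIsoPullback_hom_snd,
        pullback.lift_snd]
      rw [Over.prodLeftIsoPullback_hom_snd_assoc, ← Over.comp_left, prod.map_snd, Over.comp_left]

theorem exists_isCompact_lift {X Y : Scheme.{u}} (π : X ⟶ Y) (hπ : IsOpenMap π)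
    (C : Set ↥Y) (hCo : IsOpen C) (hC : IsCompact C) (hsub : C ⊆ Set.range π) :
    ∃ C' : Set ↥X, IsOpen C' ∧ IsCompact C' ∧ π '' C' = C := by
  let I := {V : X.affineOpens // π '' (V.1 : Set ↥X) ⊆ C}
  have hc : C ⊆ ⋃ i : I, π '' (i.1.1 : Set ↥X) := by
    intro y hy
    obtain ⟨x, rfl⟩ := hsub hy
    obtain ⟨V, hV, hx, hVC⟩ := exists_isAffineOpen_mem_and_subset (x := x)
      (U := ⟨_, hCo.preimage π.continuous⟩) hy
    exact Set.mem_iUnion.2 ⟨⟨⟨V, hV⟩, Set.image_subset_iff.2 hVC⟩, x, hx, rfl⟩
  obtain ⟨t, ht⟩ := hC.elim_finite_subcover (fun i : I => π '' (i.1.1 : Set ↥X))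
    (fun i => hπ _ i.1.1.isOpen) hc
  refine ⟨⋃ i ∈ t, (i.1.1 : Set ↥X), isOpen_biUnion fun i _ => i.1.1.isOpen,
    t.finite_toSet.isCompact_biUnion fun i _ => i.1.2.isCompact, ?_⟩
  refine Set.Subset.antisymm ?_ (by rwa [Set.image_iUnion₂])
  rw [Set.image_iUnion₂]
  exact Set.iUnion₂_subset fun i _ => i.2

/-- Quasi-compactness descends along open surjective morphisms. -/
theorem quasiCompact_of_isPullback {X Y X' Y' : Scheme.{u}} {q : X' ⟶ X} {f' : X' ⟶ Y'}
    {f : X ⟶ Y} {π : Y' ⟶ Y} (sq : IsPullback q f' f π) [Surjective π] (hπ : IsOpenMap π)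
    [QuasiCompact f'] : QuasiCompact f := by
  refine ⟨fun C hCo hC => ?_⟩
  obtain ⟨C', hC'o, hC', hCC'⟩ := exists_isCompact_lift π hπ C hCo hC
    (fun y _ => π.surjective y)
  have hk : IsCompact (f' ⁻¹' C') := QuasiCompact.isCompact_preimage _ hC'o hC'
  have he : q '' (f' ⁻¹' C') = f ⁻¹' C := by
    ext x
    constructor
    · rintro ⟨x', hx', rfl⟩
      have := congrArg (fun k => k x') sq.w
      simp only [Scheme.Hom.comp_apply] at this
      rw [Set.mem_preimage, this, ← hCC']
      exact ⟨_, hx', rfl⟩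
    · intro hx
      rw [Set.mem_preimage, ← hCC'] at hx
      obtain ⟨y', hy', e⟩ := hx
      obtain ⟨x', h1, h2⟩ := Scheme.Pullback.exists_preimage_pullback (f := f) (g := π) x y' e.symm
      refine ⟨sq.isoPullback.inv x', ?_, ?_⟩
      · rw [Set.mem_preimage, ← Scheme.Hom.comp_apply, sq.isoPullback_inv_snd, h2]
        exact hy'
      · rw [← Scheme.Hom.comp_apply, sq.isoPullback_inv_fst, h1]
  exact he ▸ hk.image q.continuous

end Groth.Agent.AlgSpB
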