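import Groth.Prelude.Def_AlgSpDec
import Groth.Prelude.Def_AlgSp2
import Mathlib.AlgebraicGeometry.Morphisms.UniversallyOpen

/-!
# Points of sheaves on the fppf site: pullbacks, charts

General facts about `AlgSp.Points` valid for arbitrary sheaves.
-/

universe u

open CategoryTheory CategoryTheory.Limits AlgebraicGeometry Opposite Topology TopologicalSpace

set_option backward.isDefEq.respectTransparency false

namespace Groth.Agent.AlgSpB

open AlgSp

variable {S : Scheme.{u}} {F G : Sp S}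

theorem ofPt_map_comp {T T' : Over S} (φ : T ⟶ T') (g : (yon S).obj T' ⟶ F) (t : ↥T.left) :
    Points.ofPt ((yon S).map φ ≫ g) t = Points.ofPt g (φ.left t) := by
  rw [← Points.map_ofPt, Points.ofPt_eq_map_ofScheme g]
  congr 1
  rw [← Points.ofScheme_toScheme T' (Points.ofPt ((yon S).map φ) t), Points.toScheme_ofPt]

theorem exists_eq_ofPt_toHom (x : Points F) :
    ∃ (p : FieldPt F), ∀ s : ↥p.pt.left, Points.ofPt p.toHom s = x := by
  obtain ⟨p, rfl⟩ := Points.mk_surjective x
  exact ⟨p, fun s => Points.ofPt_toHom p s⟩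

/-- The map on points to a fibre product of sets is surjective, for every pullback square of sheaves. -/
theorem exists_of_isPullback {X Y Z P : Sp S} {f : X ⟶ Y} {g : Z ⟶ Y} {fst : P ⟶ Z} {snd : P ⟶ X}
    (h : IsPullback fst snd g f) (z : Points Z) (x : Points X)
    (e : Points.map g z = Points.map f x) :
    ∃ p : Points P, Points.map fst p = z ∧ Points.map snd p = x := by
  obtain ⟨pz, rfl⟩ := Points.mk_surjective z
  obtain ⟨px, rfl⟩ := Points.mk_surjective x
  rw [Points.map_mk, Points.map_mk, Points.mk_eq_mk_iff] at e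
  obtain ⟨Ω, hΩ, w, a, b, he⟩ := e
  have a' : Over.mk w ⟶ pz.pt := a
  let T : Over S := Over.mk w
  let gz : (yon S).obj T ⟶ Z := (yon S).map (a : T ⟶ pz.pt) ≫ pz.toHom
  let gx : (yon S).obj T ⟶ X := (yon S).map (b : T ⟶ px.pt) ≫ px.toHom
  have hgz : gz ≫ g = (yon S).map (a : T ⟶ pz.pt) ≫ (pz.map g).toHom := by
    simp only [gz, FieldPt.toHom_map, Category.assoc]
  have hgx : gx ≫ f = (yon S).map (b : T ⟶ px.pt) ≫ (px.map f).toHom := by
    simp only [gx, FieldPt.toHom_map, Category.assoc]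
  have hw : gz ≫ g = gx ≫ f := by
    rw [hgz, hgx]
    change (yon S).map (a : T ⟶ (pz.map g).pt) ≫ _ = (yon S).map (b : T ⟶ (px.map f).pt) ≫ _
    unfold FieldPt.toHom
    erw [← (J S).uliftYonedaEquiv_symm_map a.op, ← (J S).uliftYonedaEquiv_symm_map b.op, he]
  let l := h.lift gz gx hw
  let s : ↥T.left := IsLocalRing.closedPoint Ω
  refine ⟨Points.ofPt l s, ?_, ?_⟩
  · rw [Points.map_ofPt, h.lift_fst, ofPt_map_comp, Points.ofPt_toHom]
  · rw [Points.map_ofPt, h.lift_snd, ofPt_map_comp, Points.ofPt_toHom]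

/-- Two scheme points have the same image exactly when they come from one point of a represented fibre product. -/
theorem ofPt_eq_ofPt_iff {U V W : Over S} {a : (yon S).obj U ⟶ F} {b : (yon S).obj V ⟶ F}
    {fst : W ⟶ U} {snd : W ⟶ V} (h : IsPullback ((yon S).map fst) ((yon S).map snd) a b)
    (x : ↥U.left) (y : ↥V.left) :
    Points.ofPt a x = Points.ofPt b y ↔ ∃ w : ↥W.left, fst.left w = x ∧ snd.left w = y := by
  constructor
  · intro e
    rw [Points.ofPt_eq_map_ofScheme, Points.ofPt_eq_map_ofScheme] at e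
    obtain ⟨p, hp1, hp2⟩ := exists_of_isPullback h _ _ e
    refine ⟨Points.toScheme W p, ?_, ?_⟩
    · rw [← Points.toScheme_ofPt, Points.ofPt_eq_map_ofScheme, Points.ofScheme_toScheme, hp1,
        Points.toScheme_ofScheme]
    · rw [← Points.toScheme_ofPt, Points.ofPt_eq_map_ofScheme, Points.ofScheme_toScheme, hp2,
        Points.toScheme_ofScheme]
  · rintro ⟨w, rfl, rfl⟩
    rw [← ofPt_map_comp, ← ofPt_map_comp, h.w]

/-- The mixed form: the top map is `(yon S).map`, the other map is arbitrary. -/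
theorem ofPt_eq_ofPt_iff' {U V W : Over S} {a : (yon S).obj U ⟶ F} {b : (yon S).obj V ⟶ F}
    {fst : (yon S).obj W ⟶ (yon S).obj U} {snd : W ⟶ V} (h : IsPullback fst ((yon S).map snd) a b)
    (x : ↥U.left) (y : ↥V.left) :
    Points.ofPt a x = Points.ofPt b y ↔
      ∃ w : ↥W.left, Points.ofPt fst w = Points.ofScheme U x ∧ snd.left w = y := by
  obtain ⟨fst', rfl⟩ := (yon S).map_surjective fst
  rw [ofPt_eq_ofPt_iff h]
  refine exists_congr fun w => and_congr_left fun _ => ⟨fun e => ?_, fun e => ?_⟩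
  · subst e
    change Points.ofPt _ _ = Points.ofPt (𝟙 _) (fst'.left w)
    rw [← ofPt_map_comp, Category.comp_id]
  · rw [← Points.toScheme_ofPt, e, Points.toScheme_ofScheme]

/-- The preimage, along a map from a scheme, of the image of a chart, is the image of the projection. -/
theorem preimage_range_ofPt {U V W : Over S} {a : (yon S).obj U ⟶ F} {b : (yon S).obj V ⟶ F}
    {fst : W ⟶ U} {snd : W ⟶ V} (h : IsPullback ((yon S).map fst) ((yon S).map snd) a b)
    (E : Set ↥U.left) :
    Points.ofPt b ⁻¹' (Points.ofPt a '' E) = snd.left '' (fst.left ⁻¹' E) := by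
  ext y
  constructor
  · rintro ⟨x, hx, e⟩
    obtain ⟨w, hw1, hw2⟩ := (ofPt_eq_ofPt_iff h x y).1 e
    exact ⟨w, by simpa [hw1] using hx, hw2⟩
  · rintro ⟨w, hw, rfl⟩
    exact ⟨_, hw, (ofPt_eq_ofPt_iff h _ _).2 ⟨w, rfl, rfl⟩⟩

theorem exists_pullback_yon {U V : Over S} {a : (yon S).obj U ⟶ F} (ha : Representable a)
    (b : (yon S).obj V ⟶ F) :
    ∃ (W : Over S) (fst : W ⟶ U) (snd : W ⟶ V),
      IsPullback ((yon S).map fst) ((yon S).map snd) a b := by
  obtain ⟨W, snd, fst, h⟩ := ha b
  obtain ⟨fst', rfl⟩ := (yon S).map_surjective fst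
  exact ⟨W, fst', snd, h⟩

theorem isOpenMap_ofPt_of_universallyOpen {U : Over S} {a : (yon S).obj U ⟶ F}
    (ha : RepWith @UniversallyOpen a) : IsOpenMap (Points.ofPt a) := by
  intro E hE
  rw [Points.isOpen_iff]
  intro T g
  obtain ⟨W, fst, snd, h⟩ := exists_pullback_yon ha.1 g
  rw [preimage_range_ofPt h]
  have : UniversallyOpen snd.left := ha.2 g _ snd h
  exact (Scheme.Hom.isOpenMap snd.left) _ (hE.preimage fst.left.continuous)

theorem repWith_universallyOpen_of_etale {U : Over S} {a : (yon S).obj U ⟶ F}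
    (ha : RepWith @Etale a) : RepWith @UniversallyOpen a :=
  ⟨ha.1, fun _ _ g fst snd h => by
    have : Etale snd.left := ha.2 g fst snd h
    change UniversallyOpen snd.left
    infer_instance⟩

theorem isOpenMap_ofPt {U : Over S} {a : (yon S).obj U ⟶ F} (ha : RepWith @Etale a) :
    IsOpenMap (Points.ofPt a) :=
  isOpenMap_ofPt_of_universallyOpen (repWith_universallyOpen_of_etale ha)

theorem surjective_ofPt {U : Over S} {a : (yon S).obj U ⟶ F} (ha : RepWith @Surjective a) :
    Function.Surjective (Points.ofPt a) := by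
  intro x
  obtain ⟨p, hp⟩ := exists_eq_ofPt_toHom x
  obtain ⟨W, fst, snd, h⟩ := exists_pullback_yon ha.1 p.toHom
  have : Surjective snd.left := ha.2 _ _ snd h
  obtain ⟨w, -⟩ := snd.left.surjective (IsLocalRing.closedPoint p.K)
  exact ⟨fst.left w, ((ofPt_eq_ofPt_iff h _ _).2 ⟨w, rfl, rfl⟩).trans (hp _)⟩

theorem repWith_surjective_of_surjective_ofPt {U : Over S} {a : (yon S).obj U ⟶ F}
    (ha : Representable a) (hs : Function.Surjective (Points.ofPt a)) : RepWith @Surjective a := by
  refine ⟨ha, fun V W g fst snd h => ⟨fun y => ?_⟩⟩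
  obtain ⟨x, hx⟩ := hs (Points.ofPt g y)
  obtain ⟨w, -, hw⟩ := (ofPt_eq_ofPt_iff' h x y).1 hx
  exact ⟨w, hw⟩

theorem isOpenQuotientMap_ofPt {U : Over S} {a : (yon S).obj U ⟶ F} (ha : RepWith @Etale a)
    (hs : RepWith @Surjective a) : IsOpenQuotientMap (Points.ofPt a) :=
  ⟨surjective_ofPt hs, Points.continuous_ofPt a, isOpenMap_ofPt ha⟩

/-- Composite of a chart with an etale morphism of schemes is a chart. -/
theorem repWith_etale_map_comp {U V : Over S} (φ : U ⟶ V) [Etale φ.left] {a : (yon S).obj V ⟶ F}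
    (ha : RepWith @Etale a) : RepWith @Etale ((yon S).map φ ≫ a) :=
  (repWith_isMultiplicative (S := S) @Etale).comp_mem _ _ ((repWith_yon_map_iff _ _).2 ‹_›) ha

theorem range_ofPt_map_comp {U V : Over S} (φ : U ⟶ V) (a : (yon S).obj V ⟶ F) :
    Set.range (Points.ofPt ((yon S).map φ ≫ a)) = Points.ofPt a '' Set.range φ.left := by
  rw [← Set.range_comp]
  exact congrArg Set.range (funext fun t => ofPt_map_comp φ a t)

end Groth.Agent.AlgSpB
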