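import Groth.Agent.AlgSp.Basic
import Groth.Agent.AlgSpB.Points
import Groth.Prelude.Def_Grpd

/-!
# The groupoid scheme of a kernel pair of schemes over a sheaf
-/

universe u

open CategoryTheory CategoryTheory.Limits AlgebraicGeometry Opposite

set_option backward.isDefEq.respectTransparency false
set_option backward.isDefEq.respectTransparency.types false
set_option autoImplicit false

namespace Groth.Agent.AlgSpB

open _root_.AlgSp

variable {S : Scheme.{u}} {X : Sp S} {U R : Over S} {p : (yon S).obj U ⟶ X} {t s : R ⟶ U}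

theorem relRaw_ext (sq : IsPullback ((yon S).map t) ((yon S).map s) p p) {T : Scheme.{u}} {a b : T ⟶ R.left}
    (ht : a ≫ t.left = b ≫ t.left) (hs : a ≫ s.left = b ≫ s.left) : a = b := by
  have hb : b ≫ R.hom = a ≫ R.hom := by
    rw [← Over.w t, reassoc_of% ht]
  let A : Over.mk (a ≫ R.hom) ⟶ R := Over.homMk a
  let B : Over.mk (a ≫ R.hom) ⟶ R := Over.homMk b hb
  suffices A = B from congrArg (fun k : Over.mk (a ≫ R.hom) ⟶ R => k.left) this
  refine (yon S).map_injective (sq.hom_ext ?_ ?_)
  · rw [← Functor.map_comp, ← Functor.map_comp]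
    exact congrArg _ (Over.OverMorphism.ext ht)
  · rw [← Functor.map_comp, ← Functor.map_comp]
    exact congrArg _ (Over.OverMorphism.ext hs)

theorem relRaw_lift (sq : IsPullback ((yon S).map t) ((yon S).map s) p p) {T : Over S} (x y : T ⟶ U)
    (h : (yon S).map x ≫ p = (yon S).map y ≫ p) : ∃ l : T ⟶ R, l ≫ t = x ∧ l ≫ s = y := by
  obtain ⟨l, hl⟩ := (yon S).map_surjective (sq.lift _ _ h)
  refine ⟨l, (yon S).map_injective ?_, (yon S).map_injective ?_⟩ <;>
    rw [Functor.map_comp, hl]
  · exact sq.lift_fst _ _ h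
  · exact sq.lift_snd _ _ h

theorem relRaw_refl (sq : IsPullback ((yon S).map t) ((yon S).map s) p p) :
    ∃ e : U.left ⟶ R.left, e ≫ t.left = 𝟙 _ ∧ e ≫ s.left = 𝟙 _ := by
  obtain ⟨l, h1, h2⟩ := relRaw_lift sq (𝟙 U) (𝟙 U) rfl
  exact ⟨l.left, congrArg (fun k : U ⟶ U => k.left) h1, congrArg (fun k : U ⟶ U => k.left) h2⟩

theorem relRaw_symm (sq : IsPullback ((yon S).map t) ((yon S).map s) p p) :
    ∃ i : R.left ⟶ R.left, i ≫ t.left = s.left ∧ i ≫ s.left = t.left := by
  obtain ⟨l, h1, h2⟩ := relRaw_lift sq s t sq.w.symm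
  exact ⟨l.left, congrArg (fun k : R ⟶ U => k.left) h1, congrArg (fun k : R ⟶ U => k.left) h2⟩

theorem relRaw_trans (sq : IsPullback ((yon S).map t) ((yon S).map s) p p) :
    ∃ c : pullback s.left t.left ⟶ R.left, c ≫ t.left = pullback.fst s.left t.left ≫ t.left ∧
      c ≫ s.left = pullback.snd s.left t.left ≫ s.left := by
  let T : Over S := Over.mk (pullback.fst s.left t.left ≫ R.hom)
  let a : T ⟶ R := Over.homMk (pullback.fst s.left t.left)
  let b : T ⟶ R := Over.homMk (pullback.snd s.left t.left) (by
    change pullback.snd s.left t.left ≫ R.hom = pullback.fst s.left t.left ≫ R.hom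
    rw [← Over.w t, ← pullback.condition_assoc, Over.w s, Over.w t])
  have hab : a ≫ s = b ≫ t := Over.OverMorphism.ext pullback.condition
  obtain ⟨l, h1, h2⟩ := relRaw_lift sq (a ≫ t) (b ≫ s) (by
    rw [Functor.map_comp, Functor.map_comp, Category.assoc, Category.assoc, sq.w, ← sq.w,
      ← Category.assoc, ← Category.assoc, ← Functor.map_comp, ← Functor.map_comp]
    rw [← hab, Functor.map_comp, Functor.map_comp, Category.assoc, Category.assoc, sq.w])
  exact ⟨l.left, congrArg (fun k : T ⟶ U => k.left) h1, congrArg (fun k : T ⟶ U => k.left) h2⟩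

/-- The groupoid scheme of a kernel pair of `h_U ⟶ X` represented by `R`. -/
noncomputable def kpGrpd (sq : IsPullback ((yon S).map t) ((yon S).map s) p p) : Grpd.GroupoidScheme S where
  U := U.left
  R := R.left
  pU := U.hom
  pR := R.hom
  s := s.left
  t := t.left
  e := (relRaw_refl sq).choose
  i := (relRaw_symm sq).choose
  c := (relRaw_trans sq).choose
  s_over := Over.w s
  t_over := Over.w t
  comp_s α β h := by
    rw [Category.assoc, (relRaw_trans sq).choose_spec.2, pullback.lift_snd_assoc]
  comp_t α β h := by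
    rw [Category.assoc, (relRaw_trans sq).choose_spec.1, pullback.lift_fst_assoc]
  assoc α β γ h₁ h₂ := by
    refine relRaw_ext sq ?_ ?_ <;>
      simp only [Category.assoc, (relRaw_trans sq).choose_spec.1, (relRaw_trans sq).choose_spec.2,
        pullback.lift_fst_assoc, pullback.lift_snd_assoc]
  e_s := (relRaw_refl sq).choose_spec.2
  e_t := (relRaw_refl sq).choose_spec.1
  comp_e α := by
    refine relRaw_ext sq ?_ ?_ <;>
      simp only [Category.assoc, (relRaw_trans sq).choose_spec.1, (relRaw_trans sq).choose_spec.2,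
        pullback.lift_fst_assoc, pullback.lift_snd_assoc, (relRaw_refl sq).choose_spec.2, Category.comp_id]
  e_comp α := by
    refine relRaw_ext sq ?_ ?_ <;>
      simp only [Category.assoc, (relRaw_trans sq).choose_spec.1, (relRaw_trans sq).choose_spec.2,
        pullback.lift_fst_assoc, pullback.lift_snd_assoc, (relRaw_refl sq).choose_spec.1, Category.comp_id]
  i_s := (relRaw_symm sq).choose_spec.2
  i_t := (relRaw_symm sq).choose_spec.1
  comp_i α := by
    refine relRaw_ext sq ?_ ?_ <;>
      simp only [Category.assoc, (relRaw_trans sq).choose_spec.1, (relRaw_trans sq).choose_spec.2,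
        pullback.lift_fst_assoc, pullback.lift_snd_assoc, (relRaw_refl sq).choose_spec.1,
        (relRaw_refl sq).choose_spec.2, (relRaw_symm sq).choose_spec.2, Category.comp_id]
  i_comp α := by
    refine relRaw_ext sq ?_ ?_ <;>
      simp only [Category.assoc, (relRaw_trans sq).choose_spec.1, (relRaw_trans sq).choose_spec.2,
        pullback.lift_fst_assoc, pullback.lift_snd_assoc, (relRaw_refl sq).choose_spec.1,
        (relRaw_refl sq).choose_spec.2, (relRaw_symm sq).choose_spec.1, Category.comp_id]

theorem mono_kpGrpd_j (sq : IsPullback ((yon S).map t) ((yon S).map s) p p) : Mono (kpGrpd sq).j := by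
  refine ⟨fun a b w => relRaw_ext sq ?_ ?_⟩
  · simpa [Grpd.GroupoidScheme.j, kpGrpd] using congrArg (· ≫ pullback.fst _ _) w
  · simpa [Grpd.GroupoidScheme.j, kpGrpd] using congrArg (· ≫ pullback.snd _ _) w

end Groth.Agent.AlgSpB
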