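import Groth.Agent.AlgSpB.ClopenIdem
import Groth.Agent.AlgSpB.KernelPairGrpd
import Groth.Agent.GrpdLib.QuotEquiv
import Groth.Agent.AlgSp.Quot
import Groth.Agent.AlgSp.DescentLqf
import Groth.Agent.AlgSpCov.Instances
import Mathlib.AlgebraicGeometry.Morphisms.FlatMono

/-!
# The finite part of an etale equivalence relation over an affine scheme
-/

universe u

open CategoryTheory CategoryTheory.Limits AlgebraicGeometry Opposite

set_option backward.isDefEq.respectTransparency false
set_option backward.isDefEq.respectTransparency.types false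
set_option autoImplicit false

namespace Groth.Agent.AlgSpB

open _root_.AlgSp
open Groth.Agent.AlgSp (mono_of_yon isColimit_of_isPullback isLocallySurjective_of_repWith)

variable {S : Scheme.{u}}

theorem locSurj_yon {U V : Over S} (π : U ⟶ V) [Flat π.left] [LocallyOfFinitePresentation π.left]
    [Surjective π.left] : Sheaf.IsLocallySurjective ((yon S).map π) :=
  isLocallySurjective_of_repWith _ ((repWith_yon_map_iff _ _).2 (inferInstance : Flat π.left))
    ((repWith_yon_map_iff _ _).2 (inferInstance : LocallyOfFinitePresentation π.left))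
    ((repWith_yon_map_iff _ _).2 (inferInstance : Surjective π.left))

theorem epi_yon {U V : Over S} (π : U ⟶ V) [Flat π.left] [LocallyOfFinitePresentation π.left]
    [Surjective π.left] : Epi ((yon S).map π) :=
  have := locSurj_yon π
  Sheaf.epi_of_isLocallySurjective _

theorem isPullback_map_left {A B C D : Over S} {a : A ⟶ B} {b : A ⟶ C} {c : B ⟶ D} {d : C ⟶ D}
    (h : IsPullback a b c d) : IsPullback a.left b.left c.left d.left :=
  h.map (Over.forget S)

theorem isPullback_comp_mono {C : Type*} [Category C] {P A B D : C} {a b : P ⟶ A} {f : A ⟶ B}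
    (h : IsPullback a b f f) (m : B ⟶ D) [Mono m] : IsPullback a b (f ≫ m) (f ≫ m) := by
  refine IsPullback.of_isLimit' ⟨by rw [← Category.assoc, ← Category.assoc, h.w]⟩
    (PullbackCone.IsLimit.mk _ (fun c => h.lift c.fst c.snd ((cancel_mono m).1 (by
      simpa only [Category.assoc] using c.condition))) (fun c => h.lift_fst _ _ _)
      (fun c => h.lift_snd _ _ _) (fun c k h1 h2 => h.hom_ext (by rw [h1, h.lift_fst]) (by rw [h2, h.lift_snd])))

variable {X : Sp S} {U R : Over S} [IsAffine U.left] [IsAffine R.left] (p : (yon S).obj U ⟶ X)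

set_option maxHeartbeats 1600000 in
/-- The structure of an etale equivalence relation along a clopen part finite over the base. -/
theorem local_structure [Sheaf.IsLocallySurjective p] (hpr : Representable p)
    (t s : R ⟶ U) (sq : IsPullback ((yon S).map t) ((yon S).map s) p p) [Etale t.left] [Etale s.left]
    {T Y : Scheme.{u}} [IsAffine T] [IsAffine Y] (f : U.left ⟶ T) (hw : t.left ≫ f = s.left ≫ f)
    (hcl : IsClosedImmersion (pullback.lift t.left s.left hw : R.left ⟶ pullback f f))
    (g : U.left ⟶ Y) (hg : t.left ≫ g = s.left ≫ g)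
    (hinj : Function.Injective g.appTop) (hex : ∀ b, t.left.appTop b = s.left.appTop b → b ∈ Set.range g.appTop)
    {VO : Over S} (jV : VO ⟶ U) [IsOpenImmersion jV.left] [IsClosedImmersion jV.left]
    (hfin : IsFinite (jV.left ≫ f)) :
    Etale (jV.left ≫ g) ∧ ∀ z : ↥(pullback g g), pullback.fst g g z ∈ Set.range jV.left →
      pullback.snd g g z ∈ Set.range jV.left →
      z ∈ Set.range (pullback.lift t.left s.left hg : R.left ⟶ pullback g g) := by
  -- the restricted relation
  let P₁ := pullback t jV
  let RO := pullback (pullback.fst t jV ≫ s) jV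
  let r₁ : RO ⟶ P₁ := pullback.fst _ jV
  let tV : RO ⟶ VO := r₁ ≫ pullback.snd t jV
  let sV : RO ⟶ VO := pullback.snd (pullback.fst t jV ≫ s) jV
  let rO : RO ⟶ R := r₁ ≫ pullback.fst t jV
  let pV : (yon S).obj VO ⟶ X := (yon S).map jV ≫ p
  have e₁ := isPullback_map_left (IsPullback.of_hasPullback t jV)
  have e₂ := isPullback_map_left (IsPullback.of_hasPullback (pullback.fst t jV ≫ s) jV)
  have htVs : rO ≫ s = sV ≫ jV := by
    simp only [rO, r₁, Category.assoc]; exact pullback.condition
  have htVt : rO ≫ t = tV ≫ jV := by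
    simp only [rO, tV, r₁, Category.assoc, pullback.condition]
  have hrO1 : IsOpenImmersion (pullback.fst t jV).left := MorphismProperty.of_isPullback (P := @IsOpenImmersion) e₁.flip inferInstance
  have hrO2 : IsOpenImmersion r₁.left := MorphismProperty.of_isPullback (P := @IsOpenImmersion) e₂.flip inferInstance
  have hrC1 : IsClosedImmersion (pullback.fst t jV).left := MorphismProperty.of_isPullback (P := @IsClosedImmersion) e₁.flip inferInstance
  have hrC2 : IsClosedImmersion r₁.left := MorphismProperty.of_isPullback (P := @IsClosedImmersion) e₂.flip inferInstance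
  have : IsOpenImmersion rO.left := inferInstanceAs (IsOpenImmersion (r₁.left ≫ (pullback.fst t jV).left))
  have : IsClosedImmersion rO.left := inferInstanceAs (IsClosedImmersion (r₁.left ≫ (pullback.fst t jV).left))
  have hsV : Etale sV.left := MorphismProperty.of_isPullback (P := @Etale) e₂
    (inferInstanceAs (Etale ((pullback.fst t jV).left ≫ s.left)))
  have sqV : IsPullback ((yon S).map tV) ((yon S).map sV) pV pV := by
    have h0 : IsPullback ((yon S).map (pullback.fst t jV ≫ s)) ((yon S).map (pullback.snd t jV)) p pV := by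
      rw [Functor.map_comp]
      exact ((IsPullback.of_hasPullback t jV).map (yon S)).paste_horiz sq.flip
    have h1 := ((IsPullback.of_hasPullback (pullback.fst t jV ≫ s) jV).map (yon S)).paste_horiz h0.flip
    rw [← Functor.map_comp] at h1
    exact h1
  have hwV : tV.left ≫ jV.left ≫ f = sV.left ≫ jV.left ≫ f := by
    have e₁ : tV.left ≫ jV.left = rO.left ≫ t.left := congrArg (fun k : RO ⟶ U => k.left) htVt.symm
    have e₂ : sV.left ≫ jV.left = rO.left ≫ s.left := congrArg (fun k : RO ⟶ U => k.left) htVs.symm
    rw [reassoc_of% e₁, reassoc_of% e₂, hw]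
  -- finiteness
  have : IsAffine VO.left := (IsClosedImmersion.isAffine_surjective_of_isAffine jV.left).1
  have : IsAffine RO.left := (IsClosedImmersion.isAffine_surjective_of_isAffine rO.left).1
  have hφ : IsClosedImmersion (pullback.lift tV.left sV.left hwV : RO.left ⟶ pullback (jV.left ≫ f) (jV.left ≫ f)) := by
    let m := pullback.map (jV.left ≫ f) (jV.left ≫ f) f f jV.left jV.left (𝟙 _) (by simp) (by simp)
    have e : pullback.lift tV.left sV.left hwV ≫ m = rO.left ≫ pullback.lift t.left s.left hw := by
      apply pullback.hom_ext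
      · simp [m, ← Over.comp_left, htVt]
      · simp [m, ← Over.comp_left, htVs]
    have : IsClosedImmersion (pullback.lift tV.left sV.left hwV ≫ m) := by rw [e]; infer_instance
    exact IsClosedImmersion.of_comp _ m
  have hsVfin : IsFinite sV.left := by
    rw [show sV.left = pullback.lift tV.left sV.left hwV ≫ pullback.snd _ _ from (pullback.lift_snd _ _ _).symm]
    infer_instance
  -- the quotient of the finite part
  let G := kpGrpd sqV
  have : IsAffine G.U := ‹IsAffine VO.left›
  have : IsAffine G.R := ‹IsAffine RO.left›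
  have : IsFinite G.s := hsVfin
  have : Flat G.s := inferInstanceAs (Flat sV.left)
  have : LocallyOfFinitePresentation G.s := inferInstanceAs (LocallyOfFinitePresentation sV.left)
  have : Mono G.j := mono_kpGrpd_j sqV
  obtain ⟨hπf, hπflat, hπp⟩ := Groth.Agent.GrpdLib.finLocFree_toQuot G
  have hπsq := Groth.Agent.GrpdLib.isPullback_toQuot G
  have hπsurj : Surjective G.toQuot := ⟨Groth.Agent.GrpdLib.surjective_toQuot G⟩
  have hπet : Etale G.toQuot :=
    MorphismProperty.of_isPullback_of_descendsAlong
      (Q := @Surjective ⊓ @Flat ⊓ @LocallyOfFinitePresentation) hπsq.flip ⟨⟨hπsurj, hπflat⟩, hπp⟩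
      (show Etale G.s from hsV)
  let Mq : Scheme.{u} := Spec (CommRingCat.of G.invariants)
  let π₀ : VO.left ⟶ Mq := G.toQuot
  have : Flat π₀ := hπflat
  have : LocallyOfFinitePresentation π₀ := hπp
  have : Surjective π₀ := hπsurj
  have : IsFinite π₀ := hπf
  have hπw : tV.left ≫ π₀ = sV.left ≫ π₀ := Groth.Agent.GrpdLib.toQuot_condition G
  have hπsq₀ : IsPullback tV.left sV.left π₀ π₀ := hπsq
  have hdesc : ∀ {Z : Scheme.{u}} (x : VO.left ⟶ Z), tV.left ≫ x = sV.left ≫ x →
      ∃ y : Mq ⟶ Z, π₀ ≫ y = x := by
    intro Z x hx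
    have hh : ∀ {W : Scheme.{u}} (g₁ g₂ : W ⟶ VO.left), g₁ ≫ π₀ = g₂ ≫ π₀ → g₁ ≫ x = g₂ ≫ x := by
      intro W g₁ g₂ h
      rw [← hπsq₀.lift_fst g₁ g₂ h, Category.assoc, hx, hπsq₀.lift_snd_assoc]
    exact ⟨EffectiveEpi.desc π₀ x hh, EffectiveEpi.fac π₀ x hh⟩
  obtain ⟨pM, hpM⟩ := hdesc VO.hom (by rw [Over.w tV, Over.w sV])
  let MO : Over S := Over.mk pM
  let π : VO ⟶ MO := Over.homMk π₀ hpM
  have : Flat π.left := hπflat
  have : LocallyOfFinitePresentation π.left := hπp
  have : Surjective π.left := hπsurj
  have hEt : Etale π.left := hπet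
  have hπO : IsPullback ((yon S).map tV) ((yon S).map sV) ((yon S).map π) ((yon S).map π) :=
    (IsPullback.of_map (Over.forget S) (Over.OverMorphism.ext hπw : tV ≫ π = sV ≫ π) hπsq₀).map (yon S)
  have := locSurj_yon π
  obtain ⟨hcol⟩ := isColimit_of_isPullback ((yon S).map π) hπO
  obtain ⟨q, hq⟩ : ∃ q : (yon S).obj MO ⟶ X, (yon S).map π ≫ q = pV :=
    ⟨_, (Cofork.IsColimit.desc' hcol pV sqV.w).2⟩
  have hqm : Mono q := mono_of_yon q fun Z x' y' hxy => by
    obtain ⟨x, rfl⟩ := (yon S).map_surjective x'
    obtain ⟨y, rfl⟩ := (yon S).map_surjective y'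
    let Q₁ := pullback x π
    let Q₂ := pullback (pullback.fst x π ≫ y) π
    have f1 : Flat (pullback.fst x π).left := MorphismProperty.of_isPullback (P := @Flat)
      (isPullback_map_left (IsPullback.of_hasPullback x π)).flip inferInstance
    have f2 : LocallyOfFinitePresentation (pullback.fst x π).left := MorphismProperty.of_isPullback
      (P := @LocallyOfFinitePresentation) (isPullback_map_left (IsPullback.of_hasPullback x π)).flip inferInstance
    have f3 : Surjective (pullback.fst x π).left := MorphismProperty.of_isPullback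
      (P := @Surjective) (isPullback_map_left (IsPullback.of_hasPullback x π)).flip inferInstance
    have g1 : Flat (pullback.fst (pullback.fst x π ≫ y) π).left := MorphismProperty.of_isPullback (P := @Flat)
      (isPullback_map_left (IsPullback.of_hasPullback _ π)).flip inferInstance
    have g2 : LocallyOfFinitePresentation (pullback.fst (pullback.fst x π ≫ y) π).left :=
      MorphismProperty.of_isPullback (P := @LocallyOfFinitePresentation)
        (isPullback_map_left (IsPullback.of_hasPullback _ π)).flip inferInstance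
    have g3 : Surjective (pullback.fst (pullback.fst x π ≫ y) π).left := MorphismProperty.of_isPullback
      (P := @Surjective) (isPullback_map_left (IsPullback.of_hasPullback _ π)).flip inferInstance
    have := epi_yon (pullback.fst x π)
    have := epi_yon (pullback.fst (pullback.fst x π ≫ y) π)
    let ε := pullback.fst (pullback.fst x π ≫ y) π
    let a := ε ≫ pullback.snd x π
    let b := pullback.snd (pullback.fst x π ≫ y) π
    have ha : a ≫ π = ε ≫ pullback.fst x π ≫ x := by simp [a, pullback.condition]
    have hb : b ≫ π = ε ≫ pullback.fst x π ≫ y := by simp [b, ε, pullback.condition]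
    have hab : (yon S).map a ≫ pV = (yon S).map b ≫ pV := by
      rw [← hq, ← Category.assoc, ← Category.assoc, ← Functor.map_comp, ← Functor.map_comp, ha, hb]
      simp only [Functor.map_comp, Category.assoc, hxy]
    have : (yon S).map (a ≫ π) = (yon S).map (b ≫ π) := by
      rw [(yon S).map_comp a π, (yon S).map_comp b π, ← sqV.lift_fst _ _ hab, Category.assoc, hπO.w,
        sqV.lift_snd_assoc]
    rw [ha, hb, Functor.map_comp, Functor.map_comp, Functor.map_comp, Functor.map_comp, cancel_epi,
      cancel_epi] at this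
    exact this
  -- the preimage of the quotient
  obtain ⟨W, i, ρ, sqW⟩ := exists_pullback_yon hpr q
  have : Mono ((yon S).map i) := MorphismProperty.of_isPullback (P := MorphismProperty.monomorphisms (Sp S))
    sqW.flip hqm
  have : Mono i := (yon S).mono_of_mono_map this
  have hmi : Mono i.left := inferInstance
  have hlift : ∀ {Z : Over S} (x : Z ⟶ U) (v : Z ⟶ VO), (yon S).map x ≫ p = (yon S).map (v ≫ jV) ≫ p →
      ∃ l : Z ⟶ W, l ≫ i = x ∧ l ≫ ρ = v ≫ π := by
    intro Z x v h
    have h' : (yon S).map x ≫ p = (yon S).map (v ≫ π) ≫ q := by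
      rw [h, Functor.map_comp, Functor.map_comp, Category.assoc, Category.assoc, hq]
    obtain ⟨l, hl⟩ := (yon S).map_surjective (sqW.lift _ _ h')
    exact ⟨l, (yon S).map_injective (by rw [Functor.map_comp, hl, sqW.lift_fst]),
      (yon S).map_injective (by rw [Functor.map_comp, hl, sqW.lift_snd])⟩
  let Os := pullback s jV
  have eO := isPullback_map_left (IsPullback.of_hasPullback s jV)
  have hOs1 : IsOpenImmersion (pullback.fst s jV).left := MorphismProperty.of_isPullback (P := @IsOpenImmersion) eO.flip inferInstance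
  have hOs2 : IsClosedImmersion (pullback.fst s jV).left := MorphismProperty.of_isPullback (P := @IsClosedImmersion) eO.flip inferInstance
  have : IsAffine Os.left := (IsClosedImmersion.isAffine_surjective_of_isAffine (pullback.fst s jV).left).1
  obtain ⟨w', hw'i, hw'ρ⟩ := hlift (pullback.fst s jV ≫ t) (pullback.snd s jV) (by
    rw [Functor.map_comp, Category.assoc, sq.w, ← Category.assoc, ← Functor.map_comp, pullback.condition])
  obtain ⟨ν, hνi, hνρ⟩ := hlift jV (𝟙 VO) (by rw [Category.id_comp])
  rw [Category.id_comp] at hνρ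
  -- `Os ⟶ W` is an etale cover
  have hw's : Surjective w'.left := by
    refine ⟨fun w => ?_⟩
    obtain ⟨v, hv⟩ := π.left.surjective (ρ.left w)
    obtain ⟨z, hz1, hz2⟩ := Scheme.Pullback.exists_preimage_pullback w v (f := ρ.left) (g := π.left) hv.symm
    let Z : Over S := Over.mk (pullback.fst ρ.left π.left ≫ W.hom)
    let zW : Z ⟶ W := Over.homMk (pullback.fst ρ.left π.left)
    let zV : Z ⟶ VO := Over.homMk (pullback.snd ρ.left π.left) (by
      change pullback.snd ρ.left π.left ≫ VO.hom = pullback.fst ρ.left π.left ≫ W.hom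
      rw [← Over.w π, ← pullback.condition_assoc, Over.w ρ])
    have hzz : zW ≫ ρ = zV ≫ π := Over.OverMorphism.ext pullback.condition
    have hc : (yon S).map (zW ≫ i) ≫ p = (yon S).map (zV ≫ jV) ≫ p := by
      rw [Functor.map_comp, Category.assoc, sqW.w, ← Category.assoc, ← Functor.map_comp, hzz,
        Functor.map_comp, Category.assoc, hq, Functor.map_comp, Category.assoc]
    obtain ⟨r, hr1, hr2⟩ := relRaw_lift sq _ _ hc
    let o : Z ⟶ Os := pullback.lift r zV hr2
    have ho : o ≫ w' = zW := by
      rw [← cancel_mono i, Category.assoc, hw'i]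
      simp [o, hr1]
    exact ⟨o.left z, by rw [← Scheme.Hom.comp_apply, ← Over.comp_left, ho]; exact hz1⟩
  have hit : w'.left ≫ i.left = (pullback.fst s jV).left ≫ t.left := by
    rw [← Over.comp_left, hw'i, Over.comp_left]
  have hie : Etale i.left := by
    have hw'e : Etale w'.left := by
      have sqOs : IsPullback w' (pullback.snd s jV) ρ π := by
        have h0 : IsPullback ((yon S).map (pullback.fst s jV ≫ t)) ((yon S).map (pullback.snd s jV)) p pV := by
          rw [Functor.map_comp]
          exact ((IsPullback.of_hasPullback s jV).map (yon S)).paste_horiz sq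
        refine IsPullback.of_map (yon S) hw'ρ ?_
        refine IsPullback.of_right ?_ (by rw [← Functor.map_comp, ← Functor.map_comp, hw'ρ]) sqW
        rw [← Functor.map_comp, hw'i, hq]
        exact h0
      exact MorphismProperty.of_isPullback (P := @Etale) (isPullback_map_left sqOs).flip hEt
    exact Groth.Agent.AlgSpCov.etaleLocal_etale.ofPrecomp w'.left i.left hw'e hw's
      (by rw [hit]; infer_instance)
  have hiO : IsOpenImmersion i.left := IsOpenImmersion.of_flat_of_mono i.left
  have hOfin : IsFinite ((pullback.fst s jV).left ≫ t.left) := by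
    have hc : ((pullback.fst s jV).left ≫ t.left) ≫ f = (pullback.snd s jV).left ≫ jV.left ≫ f := by
      rw [Category.assoc, hw, ← Category.assoc, ← Category.assoc]
      exact congrArg (fun k : Os ⟶ U => k.left ≫ f) pullback.condition
    let φ := pullback.lift ((pullback.fst s jV).left ≫ t.left) (pullback.snd s jV).left hc
    let m := pullback.map f (jV.left ≫ f) f f (𝟙 _) jV.left (𝟙 _) (by simp) (by simp)
    have e : φ ≫ m = (pullback.fst s jV).left ≫ pullback.lift t.left s.left hw := by
      apply pullback.hom_ext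
      · simp [φ, m]
      · simp [φ, m, ← Over.comp_left, pullback.condition]
    have : IsClosedImmersion (φ ≫ m) := by rw [e]; infer_instance
    have : IsClosedImmersion φ := IsClosedImmersion.of_comp _ m
    rw [show (pullback.fst s jV).left ≫ t.left = φ ≫ pullback.fst _ _ from (pullback.lift_fst _ _ _).symm]
    infer_instance
  have hiC : IsClosedImmersion i.left := by
    refine IsClosedImmersion.of_isPreimmersion i.left ?_
    have : Set.range i.left = Set.range ((pullback.fst s jV).left ≫ t.left) := by
      rw [← hit, Scheme.Hom.comp_base, TopCat.coe_comp, hw's.surj.range_comp]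
    rw [this]
    exact ((pullback.fst s jV).left ≫ t.left).isClosedMap.isClosed_range
  have : IsAffine W.left := (IsClosedImmersion.isAffine_surjective_of_isAffine i.left).1
  have hisurj : Function.Surjective i.left.appTop := (IsClosedImmersion.isAffine_surjective_of_isAffine i.left).2
  obtain ⟨e, he, hei, hek, her⟩ := exists_clopen_idem i.left
  -- invariance of the extension by zero
  let O₁ := pullback t i
  have eO₁ := isPullback_map_left (IsPullback.of_hasPullback t i)
  have hO₁o : IsOpenImmersion (pullback.fst t i).left := MorphismProperty.of_isPullback (P := @IsOpenImmersion) eO₁.flip hiO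
  have hO₁c : IsClosedImmersion (pullback.fst t i).left := MorphismProperty.of_isPullback (P := @IsClosedImmersion) eO₁.flip hiC
  obtain ⟨eR, heR, heR1, heRk, heRr⟩ := exists_clopen_idem (pullback.fst t i).left
  have hswap : ∀ (a b : R ⟶ U), (yon S).map a ≫ p = (yon S).map b ≫ p →
      ∃ l : pullback a i ⟶ W, l ≫ i = pullback.fst a i ≫ b ∧ l ≫ ρ = pullback.snd a i ≫ ρ := by
    intro a b hab
    have h' : (yon S).map (pullback.fst a i ≫ b) ≫ p = (yon S).map (pullback.snd a i ≫ ρ) ≫ q := by
      rw [Functor.map_comp, Category.assoc, ← hab, ← Category.assoc, ← Functor.map_comp, pullback.condition,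
        Functor.map_comp, Category.assoc, sqW.w, Functor.map_comp, Category.assoc]
    obtain ⟨l, hl⟩ := (yon S).map_surjective (sqW.lift _ _ h')
    exact ⟨l, (yon S).map_injective (by rw [Functor.map_comp, hl, sqW.lift_fst]),
      (yon S).map_injective (by rw [Functor.map_comp, hl, sqW.lift_snd])⟩
  obtain ⟨l₁, hl₁i, hl₁ρ⟩ := hswap t s sq.w
  obtain ⟨l₂, hl₂i, -⟩ := hswap s t sq.w.symm
  have hpre : s.left ⁻¹' Set.range i.left = t.left ⁻¹' Set.range i.left := by
    have k1 : ∀ {a b : R ⟶ U} (l : pullback a i ⟶ W), l ≫ i = pullback.fst a i ≫ b →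
        a.left ⁻¹' Set.range i.left ⊆ b.left ⁻¹' Set.range i.left := by
      intro a b l hl r hr
      rw [← Scheme.Pullback.range_fst] at hr
      obtain ⟨o, rfl⟩ := hr
      have ei := isPullback_map_left (IsPullback.of_hasPullback a i)
      have : pullback.fst a.left i.left o = (pullback.fst a i).left (ei.isoPullback.inv o) := by
        rw [← Scheme.Hom.comp_apply, IsPullback.isoPullback_inv_fst]
      rw [Set.mem_preimage, this]
      refine ⟨l.left (ei.isoPullback.inv o), ?_⟩
      rw [← Scheme.Hom.comp_apply, ← Over.comp_left, hl, Over.comp_left, Scheme.Hom.comp_apply]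
    exact Set.Subset.antisymm (k1 l₂ hl₂i) (k1 l₁ hl₁i)
  have hrange₁ : Set.range (pullback.fst t i).left = t.left ⁻¹' Set.range i.left := by
    rw [← Scheme.Pullback.range_fst, ← eO₁.isoPullback_hom_fst, Scheme.Hom.comp_base, TopCat.coe_comp,
      eO₁.isoPullback.hom.surjective.range_comp]
  have hEt' : ∀ a : R ⟶ U, a.left ⁻¹' Set.range i.left = t.left ⁻¹' Set.range i.left → a.left.appTop e = eR := by
    intro a ha
    refine eq_of_isIdempotentElem_of_basicOpen_eq (he.map a.left.appTop.hom) heR (TopologicalSpace.Opens.ext ?_)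
    rw [heRr, hrange₁, ← ha, ← her]
    exact congrArg (fun o : R.left.Opens => (o : Set R.left)) (Scheme.preimage_basicOpen a.left e).symm
  have hinv : ∀ (m : Γ(Mq, ⊤)) (a₀ : Γ(U.left, ⊤)), i.left.appTop a₀ = ρ.left.appTop m →
      t.left.appTop (a₀ * e) = s.left.appTop (a₀ * e) := by
    intro m a₀ ha₀
    rw [map_mul, map_mul, hEt' t rfl, hEt' s hpre, ← sub_eq_zero, ← sub_mul]
    refine heRk _ ?_
    have c1 : (pullback.fst t i).left.appTop (t.left.appTop a₀) =
        (pullback.snd t i).left.appTop (ρ.left.appTop m) := by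
      rw [← ha₀, ← CommRingCat.comp_apply, ← CommRingCat.comp_apply, ← Scheme.Hom.comp_appTop,
        ← Scheme.Hom.comp_appTop, ← Over.comp_left, ← Over.comp_left, pullback.condition]
    have c2 : (pullback.fst t i).left.appTop (s.left.appTop a₀) =
        (pullback.snd t i).left.appTop (ρ.left.appTop m) := by
      rw [← CommRingCat.comp_apply, ← Scheme.Hom.comp_appTop, ← Over.comp_left, ← hl₁i, Over.comp_left,
        Scheme.Hom.comp_appTop, CommRingCat.comp_apply, ha₀, ← CommRingCat.comp_apply, ← CommRingCat.comp_apply,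
        ← Scheme.Hom.comp_appTop, ← Scheme.Hom.comp_appTop, ← Over.comp_left, ← Over.comp_left, hl₁ρ]
    rw [map_sub, c1, c2, sub_self]
  -- the map to `Y`
  obtain ⟨c, hc⟩ := hdesc (jV.left ≫ g) (by
    have e₁ : tV.left ≫ jV.left = rO.left ≫ t.left := congrArg (fun k : RO ⟶ U => k.left) htVt.symm
    have e₂ : sV.left ≫ jV.left = rO.left ≫ s.left := congrArg (fun k : RO ⟶ U => k.left) htVs.symm
    rw [reassoc_of% e₁, reassoc_of% e₂, hg])
  have hπinj : Function.Injective π₀.appTop := injective_appTop_of_flat_surjective π₀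
  have hνρ' : ν.left ≫ ρ.left = π₀ := congrArg (fun k : VO ⟶ MO => k.left) hνρ
  have hνi' : ν.left ≫ i.left = jV.left := congrArg (fun k : VO ⟶ U => k.left) hνi
  have hcy : ∀ (m : Γ(Mq, ⊤)) (a₀ : Γ(U.left, ⊤)) (y : Γ(Y, ⊤)), i.left.appTop a₀ = ρ.left.appTop m →
      g.appTop y = a₀ * e → c.appTop y = m := by
    intro m a₀ y ha₀ hy
    apply hπinj
    calc π₀.appTop (c.appTop y) = (π₀ ≫ c).appTop y := by rw [Scheme.Hom.comp_appTop]; rfl
      _ = jV.left.appTop (a₀ * e) := by rw [hc, Scheme.Hom.comp_appTop, CommRingCat.comp_apply, hy]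
      _ = (ν.left ≫ i.left).appTop (a₀ * e) := by rw [hνi']
      _ = ν.left.appTop (ρ.left.appTop m) := by
        rw [Scheme.Hom.comp_appTop, CommRingCat.comp_apply, map_mul, hei, mul_one, ha₀]
      _ = (ν.left ≫ ρ.left).appTop m := by rw [Scheme.Hom.comp_appTop]; rfl
      _ = π₀.appTop m := congrArg (fun k => (Scheme.Hom.appTop k) m) hνρ'
  have h1 : i.left.appTop (1 : Γ(U.left, ⊤)) = ρ.left.appTop (1 : Γ(Mq, ⊤)) := by
    rw [map_one, map_one]
  obtain ⟨eY, heY⟩ := hex _ (hinv 1 1 h1)
  have hcsurj : Function.Surjective c.appTop := by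
    intro m
    obtain ⟨a₀, ha₀⟩ := hisurj (ρ.left.appTop m)
    obtain ⟨y, hy⟩ := hex _ (hinv m a₀ ha₀)
    exact ⟨y, hcy m a₀ y ha₀ hy⟩
  have hcker : ∀ y, c.appTop y = 0 → y * eY = 0 := by
    intro y hy
    apply hinj
    rw [map_mul, heY, one_mul, map_zero]
    refine hek _ ?_
    have : Surjective w'.left := hw's
    have : Etale w'.left := MorphismProperty.of_postcomp @Etale w'.left i.left
      (inferInstance : Etale i.left) (by rw [hit]; infer_instance)
    apply injective_appTop_of_flat_surjective w'.left
    rw [map_zero, ← CommRingCat.comp_apply, ← Scheme.Hom.comp_appTop, hit, Scheme.Hom.comp_appTop,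
      CommRingCat.comp_apply, ← CommRingCat.comp_apply g.appTop, ← Scheme.Hom.comp_appTop, hg,
      Scheme.Hom.comp_appTop, CommRingCat.comp_apply]
    have e0 : (pullback.fst s jV ≫ s).left = (pullback.snd s jV ≫ jV).left :=
      congrArg (fun k : Os ⟶ U => k.left) pullback.condition
    simp only [Over.comp_left] at e0
    have e1 : (pullback.fst s jV).left ≫ s.left ≫ g = (pullback.snd s jV).left ≫ π₀ ≫ c := by
      rw [hc, reassoc_of% e0]
    have e2 := congrArg (fun k => (Scheme.Hom.appTop k).hom y) e1
    simp only [Scheme.Hom.comp_appTop, CommRingCat.comp_apply] at e2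
    rw [hy, map_zero, map_zero] at e2
    exact e2
  have hceY : c.appTop eY = 1 := hcy 1 1 eY h1 heY
  have heYi : IsIdempotentElem eY := hinj (by rw [map_mul, heY, one_mul, he.eq])
  have : IsOpenImmersion c := isOpenImmersion_of_idem c eY heYi hceY hcsurj hcker
  have hπ₀e : Etale π₀ := hπet
  refine ⟨hc ▸ (inferInstance : Etale (π₀ ≫ c)), fun z hz1 hz2 => ?_⟩
  have sqc := hc ▸ isPullback_comp_mono hπsq₀ c
  let mz := pullback.map (jV.left ≫ g) (jV.left ≫ g) g g jV.left jV.left (𝟙 _) (by simp) (by simp)
  obtain ⟨z', hz'⟩ : z ∈ Set.range mz := by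
    rw [Scheme.Pullback.range_map]; exact ⟨hz1, hz2⟩
  refine ⟨rO.left (sqc.isoPullback.inv z'), ?_⟩
  have e : sqc.isoPullback.inv ≫ rO.left ≫ pullback.lift t.left s.left hg = mz := by
    rw [Iso.inv_comp_eq]
    apply pullback.hom_ext
    · simp [mz, ← Over.comp_left, htVt]
    · simp [mz, ← Over.comp_left, htVs]
  rw [← hz', ← e]
  rfl

end Groth.Agent.AlgSpB
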