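import Groth.Agent.AlgSpB.Charts
import Groth.Agent.AlgSp.Basic
import Mathlib.CategoryTheory.Sites.Subsheaf

/-!
# Subspaces: factorisations, open subspaces
-/

universe u

open CategoryTheory CategoryTheory.Limits AlgebraicGeometry Opposite Topology TopologicalSpace

set_option backward.isDefEq.respectTransparency false
set_option autoImplicit false

namespace Groth.Agent.AlgSpB

open _root_.AlgSp
open Groth.Agent.AlgSp (yEquiv yEquiv_comp yEquiv_map hom_ext_yon mono_of_yon)

variable {S : Scheme.{u}} {F G : Sp S}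

/-- A morphism of sheaves bijective on maps from schemes is an isomorphism. -/
theorem isIso_of_forall_yon (f : F ⟶ G)
    (h : ∀ (T : Over S) (x : (yon S).obj T ⟶ G), ∃! y : (yon S).obj T ⟶ F, y ≫ f = x) :
    IsIso f := by
  have : IsIso ((sheafToPresheaf (J S) (Type (u + 1))).map f) := by
    rw [NatTrans.isIso_iff_isIso_app]
    intro T
    rw [isIso_iff_bijective]
    constructor
    · intro a b e
      apply (yEquiv (U := T.unop) (F := F)).symm.injective
      refine (h T.unop (yEquiv.symm a ≫ f)).unique rfl (yEquiv.injective ?_)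
      rw [yEquiv_comp, yEquiv_comp, Equiv.apply_symm_apply, Equiv.apply_symm_apply]
      exact e.symm
    · intro c
      obtain ⟨y, hy, -⟩ := h T.unop (yEquiv.symm c)
      refine ⟨yEquiv y, ?_⟩
      change f.hom.app T (yEquiv y) = c
      rw [← yEquiv_comp, hy, Equiv.apply_symm_apply]
  exact isIso_of_reflects_iso f (sheafToPresheaf (J S) (Type (u + 1)))

/-- A map factors through a monomorphism when it does so on every scheme. -/
theorem exists_factor_of_forall_yon {Z : Sp S} (j : F ⟶ G) [Mono j] (g : Z ⟶ G)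
    (h : ∀ (T : Over S) (z : (yon S).obj T ⟶ Z), ∃ y : (yon S).obj T ⟶ F, y ≫ j = z ≫ g) :
    ∃ l : Z ⟶ F, l ≫ j = g := by
  have : IsIso (pullback.snd j g) := by
    refine isIso_of_forall_yon _ fun T z => ?_
    obtain ⟨y, hy⟩ := h T z
    exact ⟨pullback.lift y z hy, pullback.lift_snd _ _ _,
      fun y' hy' => (cancel_mono (pullback.snd j g)).1 (hy'.trans (pullback.lift_snd _ _ _).symm)⟩
  exact ⟨inv (pullback.snd j g) ≫ pullback.fst j g, by
    rw [Category.assoc, pullback.condition, IsIso.inv_hom_id_assoc]⟩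

theorem mono_of_isImmersion {j : F ⟶ G} (hj : RepWith @IsImmersion j) : Mono j :=
  Groth.Agent.AlgSp.mono_of_repWith (fun f hf => have : IsImmersion f := hf; inferInstance) j hj

theorem mono_of_isOpenImmersion {j : F ⟶ G} (hj : RepWith @IsOpenImmersion j) : Mono j :=
  Groth.Agent.AlgSp.mono_of_repWith (fun f hf => have : IsOpenImmersion f := hf; inferInstance) j hj

theorem mono_of_isClosedImmersion {j : F ⟶ G} (hj : RepWith @IsClosedImmersion j) : Mono j :=
  Groth.Agent.AlgSp.mono_of_repWith (fun f hf => have : IsClosedImmersion f := hf; inferInstance) j hj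

/-- In a pullback with represented corner, the image of the second projection is the preimage of
the image on points. -/
theorem range_snd_eq {j : F ⟶ G} {T W : Over S} {g : (yon S).obj T ⟶ G}
    {fst : (yon S).obj W ⟶ F} {snd : W ⟶ T} (sq : IsPullback fst ((yon S).map snd) j g) :
    Set.range snd.left = Points.ofPt g ⁻¹' Set.range (Points.map j) := by
  ext t
  constructor
  · rintro ⟨w, rfl⟩
    refine ⟨Points.ofPt fst w, ?_⟩
    rw [Points.map_ofPt, sq.w, ofPt_map_comp]
  · rintro ⟨p, hp⟩
    rw [Points.ofPt_eq_map_ofScheme] at hp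
    obtain ⟨q, -, hq⟩ := exists_of_isPullback sq p _ hp
    refine ⟨Points.toScheme W q, ?_⟩
    rw [← Points.toScheme_ofPt, Points.ofPt_eq_map_ofScheme, Points.ofScheme_toScheme, hq,
      Points.toScheme_ofScheme]

theorem range_map_subset_of_factor {Z : Sp S} {j : F ⟶ G} {g : Z ⟶ G} (l : Z ⟶ F) (h : l ≫ j = g) :
    Set.range (Points.map g) ⊆ Set.range (Points.map j) := by
  rintro _ ⟨z, rfl⟩
  exact ⟨Points.map l z, by rw [← Points.map_comp, h]⟩

theorem range_ofPt_subset {Z : Sp S} {T : Over S} (g : Z ⟶ G) (z : (yon S).obj T ⟶ Z) :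
    Set.range (Points.ofPt (z ≫ g)) ⊆ Set.range (Points.map g) := by
  rintro _ ⟨t, rfl⟩
  exact ⟨Points.ofPt z t, Points.map_ofPt z g t⟩

theorem exists_lift_yon_of_isOpenImmersion {j : F ⟶ G} (hj : RepWith @IsOpenImmersion j) {T : Over S}
    (x : (yon S).obj T ⟶ G) (h : Set.range (Points.ofPt x) ⊆ Set.range (Points.map j)) :
    ∃ y : (yon S).obj T ⟶ F, y ≫ j = x := by
  obtain ⟨W, snd, fst, sq⟩ := hj.1 x
  have : IsOpenImmersion snd.left := hj.2 _ _ _ sq
  have : Surjective snd.left := ⟨fun t => by
    rw [← Set.mem_range, range_snd_eq sq]; exact h ⟨t, rfl⟩⟩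
  have h1 : Set.range snd.left = Set.univ := Set.range_eq_univ.2 snd.left.surjective
  have : IsIso snd.left := by
    rw [isIso_iff_isOpenImmersion_and_epi_base]
    exact ⟨inferInstance, (TopCat.epi_iff_surjective _).2 snd.left.surjective⟩
  have : IsIso ((Over.forget S).map snd) := (inferInstance : IsIso snd.left)
  have : IsIso snd := isIso_of_reflects_iso snd (Over.forget S)
  refine ⟨(yon S).map (inv snd) ≫ fst, ?_⟩
  rw [Category.assoc, sq.w, ← Category.assoc, ← Functor.map_comp, IsIso.inv_hom_id,
    CategoryTheory.Functor.map_id, Category.id_comp]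

/-- Factorisation through an open subspace is a condition on points. -/
theorem exists_factor_isOpenImmersion_iff {Z : Sp S} {j : F ⟶ G} (hj : RepWith @IsOpenImmersion j)
    (g : Z ⟶ G) :
    (∃ l : Z ⟶ F, l ≫ j = g) ↔ Set.range (Points.map g) ⊆ Set.range (Points.map j) := by
  refine ⟨fun ⟨l, hl⟩ => range_map_subset_of_factor l hl, fun h => ?_⟩
  have := mono_of_isOpenImmersion hj
  exact exists_factor_of_forall_yon j g fun T z =>
    exists_lift_yon_of_isOpenImmersion hj _ ((range_ofPt_subset g z).trans h)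

theorem exists_lift_yon_of_isClosedImmersion {j : F ⟶ G} (hj : RepWith @IsClosedImmersion j)
    {T : Over S} [IsReduced T.left]
    (x : (yon S).obj T ⟶ G) (h : Set.range (Points.ofPt x) ⊆ Set.range (Points.map j)) :
    ∃ y : (yon S).obj T ⟶ F, y ≫ j = x := by
  obtain ⟨W, snd, fst, sq⟩ := hj.1 x
  have : IsClosedImmersion snd.left := hj.2 _ _ _ sq
  have : Surjective snd.left := ⟨fun t => by
    rw [← Set.mem_range, range_snd_eq sq]; exact h ⟨t, rfl⟩⟩
  have : IsIso snd.left := isIso_of_isClosedImmersion_of_surjective _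
  have : IsIso ((Over.forget S).map snd) := (inferInstance : IsIso snd.left)
  have : IsIso snd := isIso_of_reflects_iso snd (Over.forget S)
  refine ⟨(yon S).map (inv snd) ≫ fst, ?_⟩
  rw [Category.assoc, sq.w, ← Category.assoc, ← Functor.map_comp, IsIso.inv_hom_id,
    CategoryTheory.Functor.map_id, Category.id_comp]

/-- A monomorphism representable by schemes into an algebraic space has an algebraic space as
source, with the pulled back atlas. -/
theorem exists_chart_of_representable {j : F ⟶ G} (hj : Representable j) {U : Over S}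
    {p : (yon S).obj U ⟶ G} {P : MorphismProperty Scheme.{u}} [P.IsStableUnderBaseChange]
    (hp : RepWith P p) :
    ∃ (V : Over S) (q : (yon S).obj V ⟶ F), RepWith P q := by
  obtain ⟨V, snd, fst, sq⟩ := hj p
  exact ⟨V, fst, MorphismProperty.of_isPullback sq.flip hp⟩

theorem isPullback_diag_of_mono (j : F ⟶ G) [Mono j] :
    IsPullback j (Limits.diag F) (Limits.diag G) (prod.map j j) := by
  have w : j ≫ Limits.diag G = Limits.diag F ≫ prod.map j j := by ext <;> simp
  have H : ∀ s : PullbackCone (Limits.diag G) (prod.map j j),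
      s.snd ≫ prod.fst = s.snd ≫ prod.snd ∧ (s.snd ≫ prod.fst) ≫ j = s.fst := by
    intro s
    have e1 := congrArg (fun k => k ≫ prod.fst) s.condition
    have e2 := congrArg (fun k => k ≫ prod.snd) s.condition
    simp only [Category.assoc, prod.lift_fst, prod.lift_snd, Category.comp_id, prod.map_fst,
      prod.map_snd] at e1 e2
    refine ⟨(cancel_mono j).1 ?_, by rw [Category.assoc]; exact e1.symm⟩
    simp only [Category.assoc, ← e1, ← e2]
  refine IsPullback.of_isLimit (h := PullbackCone.IsLimit.mk w (fun s => s.snd ≫ prod.fst)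
    (fun s => (H s).2) (fun s => ?_) (fun s m h1 _ => ?_))
  · ext
    · simp
    · simp [(H s).1]
  · rw [← cancel_mono j, h1, (H s).2]

theorem isAlgSpace_of_mono_representable (hG : IsAlgSpace G) (j : F ⟶ G) [Mono j]
    (hj : Representable j) : IsAlgSpace F where
  diag := MorphismProperty.of_isPullback (P := Representable) (isPullback_diag_of_mono j) hG.diag
  atlas := by
    obtain ⟨U, p, hp, hs⟩ := hG.atlas
    obtain ⟨V, snd, fst, sq⟩ := hj p
    exact ⟨V, fst, MorphismProperty.of_isPullback sq.flip hp,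
      MorphismProperty.of_isPullback sq.flip hs⟩

/-- A map from a scheme over `S` sends every point into `W`. -/
def openSubfunctor (G : Sp S) (W : Set (Points G)) : Subfunctor G.obj where
  obj T := {s | ∀ t, Points.ofPt (yEquiv.symm s : (yon S).obj T.unop ⟶ G) t ∈ W}
  map {T T'} f s hs t := by
    have e : (yEquiv.symm (G.obj.map f s) : (yon S).obj T'.unop ⟶ G) =
        (yon S).map f.unop ≫ yEquiv.symm s := by
      apply yEquiv.injective
      rw [yEquiv_map, Equiv.apply_symm_apply, Equiv.apply_symm_apply]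
      rfl
    rw [e, ofPt_map_comp]
    exact hs _

theorem openSubfunctor_isSheaf (W : Set (Points G)) :
    Presheaf.IsSheaf (J S) (openSubfunctor G W).toFunctor := by
  rw [isSheaf_iff_isSheaf_of_type, Subfunctor.isSheaf_iff _
    ((isSheaf_iff_isSheaf_of_type _ _).1 G.property)]
  intro T s hs t
  obtain ⟨R, hR, hRle⟩ := Groth.Agent.AlgSp.exists_cover_of_mem hs
  obtain ⟨Y, g, hg, y, hy⟩ : ∃ (Y : Scheme.{u}) (g : Y ⟶ T.unop.left), R g ∧ ∃ y, g y = t := by
    obtain ⟨ι, X, f, rfl⟩ := Presieve.exists_eq_ofArrows R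
    obtain ⟨hsurj, -⟩ := (Scheme.ofArrows_mem_precoverage_iff _).1 hR
    obtain ⟨i, y, hy⟩ := hsurj t
    exact ⟨X i, f i, ⟨i⟩, y, hy⟩
  have h := hRle g hg y
  have e : (yEquiv.symm (G.obj.map
      (Over.homMk g rfl : Over.mk (g ≫ T.unop.hom) ⟶ T.unop).op s) :
      (yon S).obj (Over.mk (g ≫ T.unop.hom)) ⟶ G) =
        (yon S).map (Over.homMk g rfl : Over.mk (g ≫ T.unop.hom) ⟶ T.unop) ≫ yEquiv.symm s := by
    apply yEquiv.injective
    rw [yEquiv_map, Equiv.apply_symm_apply, Equiv.apply_symm_apply]
  rw [e, ofPt_map_comp] at h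
  exact hy ▸ h

/-- The subsheaf of sections with all points in `W`. -/
def openSub (G : Sp S) (W : Set (Points G)) : Sp S :=
  ⟨(openSubfunctor G W).toFunctor, openSubfunctor_isSheaf W⟩

/-- The inclusion of `openSub`. -/
def openSubι (G : Sp S) (W : Set (Points G)) : openSub G W ⟶ G :=
  ObjectProperty.homMk (openSubfunctor G W).ι

instance mono_openSubι (W : Set (Points G)) : Mono (openSubι G W) := by
  refine mono_of_yon _ fun T a b e => yEquiv.injective (Subtype.ext ?_)
  have := congrArg yEquiv e
  rwa [yEquiv_comp, yEquiv_comp] at this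

theorem exists_lift_openSub_iff (W : Set (Points G)) {T : Over S} (x : (yon S).obj T ⟶ G) :
    (∃ y : (yon S).obj T ⟶ openSub G W, y ≫ openSubι G W = x) ↔
      ∀ t, Points.ofPt x t ∈ W := by
  constructor
  · rintro ⟨y, rfl⟩ t
    have h := (yEquiv y).2 t
    have e : (yEquiv.symm (yEquiv y).1 : (yon S).obj T ⟶ G) = y ≫ openSubι G W :=
      yEquiv.injective (by rw [Equiv.apply_symm_apply, yEquiv_comp]; rfl)
    rwa [e] at h
  · intro h
    refine ⟨yEquiv.symm ⟨yEquiv x, fun t => by simpa using h t⟩, yEquiv.injective ?_⟩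
    rw [yEquiv_comp, Equiv.apply_symm_apply]
    rfl

theorem repWith_openSubι {W : Set (Points G)} (hW : IsOpen W) :
    RepWith @IsOpenImmersion (openSubι G W) := by
  have key : ∀ {U : Over S} (g : (yon S).obj U ⟶ G), ∃ (V : Over S)
      (fst : (yon S).obj V ⟶ openSub G W) (snd : V ⟶ U),
      IsPullback fst ((yon S).map snd) (openSubι G W) g ∧ IsOpenImmersion snd.left := by
    intro U g
    let O : U.left.Opens := ⟨_, hW.preimage (Points.continuous_ofPt g)⟩
    let V : Over S := Over.mk (O.ι ≫ U.hom)
    let ι : V ⟶ U := Over.homMk O.ι rfl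
    have hmono : Mono ι := Functor.mono_of_mono_map (Over.forget S) (inferInstanceAs (Mono O.ι))
    obtain ⟨fst, hfst⟩ := (exists_lift_openSub_iff W ((yon S).map ι ≫ g)).2 fun t => by
      rw [ofPt_map_comp]; exact t.2
    refine ⟨V, fst, ι, ?_, inferInstanceAs (IsOpenImmersion O.ι)⟩
    have : IsIso (pullback.lift fst ((yon S).map ι) hfst :
        (yon S).obj V ⟶ pullback (openSubι G W) g) := by
      refine isIso_of_forall_yon _ fun T z => ?_
      obtain ⟨a, ha⟩ := (yon S).map_surjective (z ≫ pullback.snd _ _)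
      have hrange : Set.range a.left ⊆ Set.range O.ι := by
        rintro _ ⟨t, rfl⟩
        rw [Scheme.Opens.range_ι]
        change Points.ofPt g (a.left t) ∈ W
        rw [← ofPt_map_comp, ha, Category.assoc, ← pullback.condition]
        exact (exists_lift_openSub_iff W _).1 ⟨z ≫ pullback.fst _ _, by simp⟩ t
      let b : T ⟶ V := Over.homMk (IsOpenImmersion.lift O.ι a.left hrange) (by
        change _ ≫ O.ι ≫ U.hom = _
        rw [IsOpenImmersion.lift_fac_assoc, Over.w])
      have hb : b ≫ ι = a := Over.OverMorphism.ext (IsOpenImmersion.lift_fac _ _ _)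
      refine ⟨(yon S).map b, ?_, fun y hy => ?_⟩
      · apply pullback.hom_ext
        · rw [← cancel_mono (openSubι G W)]
          simp only [Category.assoc, pullback.lift_fst, hfst]
          rw [← Category.assoc, ← Functor.map_comp, hb, ha, pullback.condition, Category.assoc]
        · simp only [Category.assoc, pullback.lift_snd]
          rw [← Functor.map_comp, hb, ha]
      · obtain ⟨y, rfl⟩ := (yon S).map_surjective y
        congr 1
        rw [← cancel_mono ι, hb]
        apply (yon S).map_injective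
        have := congrArg (fun k => k ≫ pullback.snd _ _) hy
        simp only [Category.assoc, pullback.lift_snd] at this
        rw [Functor.map_comp, this, ha]
    exact (IsPullback.of_hasPullback (openSubι G W) g).of_iso
      (asIso (pullback.lift fst ((yon S).map ι) hfst)).symm (Iso.refl _) (Iso.refl _) (Iso.refl _)
      (by simp) (by simp) (by simp) (by simp)
  refine MorphismProperty.relative.of_exists fun U g => ?_
  obtain ⟨V, fst, snd, h1, h2⟩ := key g
  exact ⟨V, fst, snd, h1, h2⟩

theorem range_openSubι (W : Set (Points G)) :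
    Set.range (Points.map (openSubι G W)) = W := by
  ext x
  constructor
  · rintro ⟨y, rfl⟩
    obtain ⟨q, hq⟩ := exists_eq_ofPt_toHom y
    rw [← hq (IsLocalRing.closedPoint q.K), Points.map_ofPt]
    exact (exists_lift_openSub_iff W _).1 ⟨_, rfl⟩ _
  · intro hx
    obtain ⟨p, hp⟩ := exists_eq_ofPt_toHom x
    obtain ⟨y, hy⟩ := (exists_lift_openSub_iff W p.toHom).2 fun t => by rw [hp t]; exact hx
    exact ⟨Points.ofPt y (IsLocalRing.closedPoint p.K), by rw [Points.map_ofPt, hy, hp]⟩

/-- The open subspace with given set of points. -/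
theorem exists_openSubspace (X : Space S) {W : Set (Points X.obj)} (hW : IsOpen W) :
    ∃ (X' : Space S) (j : X' ⟶ X),
      RepWith @IsOpenImmersion j.hom ∧ Set.range (Points.map j.hom) = W :=
  ⟨⟨openSub X.obj W, isAlgSpace_of_mono_representable X.property _ (repWith_openSubι hW).1⟩,
    ObjectProperty.homMk (openSubι X.obj W), repWith_openSubι hW, range_openSubι W⟩

theorem isOpen_range_of_isOpenImmersion {j : F ⟶ G} (hj : RepWith @IsOpenImmersion j) :
    IsOpen (Set.range (Points.map j)) := by
  rw [Points.isOpen_iff]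
  intro T g
  obtain ⟨V, snd, fst, sq⟩ := hj.1 g
  have : IsOpenImmersion snd.left := hj.2 _ _ _ sq
  rw [← range_snd_eq sq]
  exact snd.left.isOpenEmbedding.isOpen_range

end Groth.Agent.AlgSpB

namespace Groth.Agent.AlgSpB

open _root_.AlgSp

variable {S : Scheme.{u}} {F G : Sp S}

theorem injective_map_of_mono (j : F ⟶ G) [Mono j] : Function.Injective (Points.map j) := by
  intro x y e
  obtain ⟨p, h1, h2⟩ := exists_of_isPullback (IsKernelPair.id_of_mono j) x y e
  rw [← h1, ← h2]

theorem exists_chart_into_subspace {U : Over S} {X' X : Space S} {a : (yon S).obj U ⟶ X.obj}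
    (ha : RepWith @Etale a) {j : X' ⟶ X} (hj : RepWith @IsOpenImmersion j.hom)
    (h : Set.range (Points.map j.hom) = Set.range (Points.ofPt a)) :
    ∃ a' : (yon S).obj U ⟶ X'.obj, a' ≫ j.hom = a ∧ RepWith @Etale a' ∧ RepWith @Surjective a' := by
  have := mono_of_isOpenImmersion hj
  obtain ⟨a', rfl⟩ := exists_lift_yon_of_isOpenImmersion hj a h.ge
  refine ⟨a', rfl, ⟨X'.property.representable_from_yon a', fun T W g fst snd sq => ha.2 (g ≫ j.hom) fst snd ?_⟩,
    repWith_surjective_of_surjective_ofPt (X'.property.representable_from_yon a') fun x => ?_⟩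
  · refine IsPullback.of_isLimit (h := PullbackCone.IsLimit.mk (by rw [reassoc_of% sq.w])
      (fun s => sq.lift s.fst s.snd ((cancel_mono j.hom).1 (by simpa using s.condition)))
      (fun s => sq.lift_fst _ _ _) (fun s => sq.lift_snd _ _ _) (fun s m h1 h2 => ?_))
    exact sq.hom_ext (by rw [h1, sq.lift_fst]) (by rw [h2, sq.lift_snd])
  · obtain ⟨u, hu⟩ := h.le (Set.mem_range_self x)
    refine ⟨u, injective_map_of_mono j.hom ?_⟩
    rw [Points.map_ofPt, hu]

theorem isEqvRel_of_isPullback {R U : Over S} {s t : R ⟶ U} {p : (yon S).obj U ⟶ F}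
    (h : IsPullback ((yon S).map t) ((yon S).map s) p p) : IsEqvRel s t := by
  have key : ∀ (T : Over S) (a b : T ⟶ U), (∃ r : T ⟶ R, r ≫ t = a ∧ r ≫ s = b) ↔
      (yon S).map a ≫ p = (yon S).map b ≫ p := by
    intro T a b
    constructor
    · rintro ⟨r, rfl, rfl⟩
      simp only [Functor.map_comp, Category.assoc, h.w]
    · intro e
      obtain ⟨r, hr⟩ := (yon S).map_surjective (h.lift _ _ e)
      exact ⟨r, (yon S).map_injective (by rw [Functor.map_comp, hr, h.lift_fst]),
        (yon S).map_injective (by rw [Functor.map_comp, hr, h.lift_snd])⟩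
  refine ⟨fun T r r' e1 e2 => (yon S).map_injective (h.hom_ext ?_ ?_), fun T => ⟨?_, ?_, ?_⟩⟩
  · rw [← Functor.map_comp, ← Functor.map_comp, e1]
  · rw [← Functor.map_comp, ← Functor.map_comp, e2]
  · exact fun a => (key T a a).2 rfl
  · intro a b e
    exact (key T b a).2 ((key T a b).1 e).symm
  · intro a b c e1 e2
    exact (key T a c).2 (((key T a b).1 e1).trans ((key T b c).1 e2))

end Groth.Agent.AlgSpB
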