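import Groth.Agent.AlgSp.DescentGlue
import Groth.Agent.AlgSpB.Open
import Mathlib.AlgebraicGeometry.Gluing

/-!
A sheaf covered by open subspaces which are schemes is a scheme.
-/

set_option backward.isDefEq.respectTransparency false
set_option backward.isDefEq.respectTransparency.types false

universe u

open CategoryTheory CategoryTheory.Limits AlgebraicGeometry

namespace Groth.Agent.AlgSpB

open _root_.AlgSp Groth.Agent.AlgSp

variable {S : Scheme.{u}}

theorem injective_ofPt_of_mono {F : Sp S} {V : Over S} (π : (yon S).obj V ⟶ F) [Mono π] :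
    Function.Injective (Points.ofPt π) := fun x y h => by
  rw [Points.ofPt_eq_map_ofScheme, Points.ofPt_eq_map_ofScheme] at h
  exact (Points.schemeHomeo V).injective (injective_map_of_mono π h)

theorem repWith_openImmersion_map_of_factor {F : Sp S} {V W : Over S} (t : V ⟶ W)
    (π : (yon S).obj W ⟶ F) [Mono π] (hπ : RepWith @IsOpenImmersion ((yon S).map t ≫ π)) :
    IsOpenImmersion t.left := by
  have sq : IsPullback (𝟙 _) ((yon S).map t) ((yon S).map t ≫ π) π :=
    IsPullback.of_isLimit' ⟨Category.id_comp _⟩ (PullbackCone.IsLimit.mk _ (fun c => c.fst)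
      (fun c => Category.comp_id _) (fun c => (cancel_mono π).1 (by rw [Category.assoc, c.condition]))
      (fun c m hm _ => by simpa using hm))
  exact (repWith_yon_map_iff _ t).1 (MorphismProperty.of_isPullback (P := RepWith @IsOpenImmersion) sq hπ)

theorem exists_iso_yon_of_openCover {F : Sp S} (hF : IsAlgSpace F) {ι : Type u} (U : ι → Over S)
    (j : ∀ i, (yon S).obj (U i) ⟶ F) (hj : ∀ i, RepWith @IsOpenImmersion (j i))
    (hcov : ∀ x : Points F, ∃ i, x ∈ Set.range (Points.map (j i))) :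
    ∃ X : Over S, Nonempty ((yon S).obj X ≅ F) := by
  obtain ⟨U₀, p, hpe, hps⟩ := hF.atlas
  let I : Type u := {E : U₀.left.Opens // ∃ O : Set (Points F), IsOpen O ∧
    (E : Set U₀.left) = Points.ofPt p ⁻¹' O ∧ ∃ i, O ⊆ Set.range (Points.map (j i))}
  have hsp := surjective_ofPt hps
  let O : I → Set (Points F) := fun E => Points.ofPt p '' (E.1 : Set U₀.left)
  have hO : ∀ E, IsOpen (O E) ∧ (E.1 : Set U₀.left) = Points.ofPt p ⁻¹' O E ∧
      ∃ i, O E ⊆ Set.range (Points.map (j i)) := by
    intro E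
    obtain ⟨O', h1, h2, h3⟩ := E.2
    have : O E = O' := by simp only [O, h2, Set.image_preimage_eq O' hsp]
    rw [this]
    exact ⟨h1, h2, h3⟩
  have hmk : ∀ O' : Set (Points F), IsOpen O' → (∃ i, O' ⊆ Set.range (Points.map (j i))) →
      ∃ E : I, O E = O' := fun O' h1 h2 =>
    ⟨⟨⟨_, h1.preimage (Points.continuous_ofPt p)⟩, O', h1, rfl, h2⟩, Set.image_preimage_eq O' hsp⟩
  have hex : ∀ E : I, ∃ (V : Over S) (π : (yon S).obj V ⟶ F),
      RepWith @IsOpenImmersion π ∧ Set.range (Points.ofPt π) = O E := by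
    intro E
    obtain ⟨hopen, -, i, hi⟩ := hO E
    let W : (U i).left.Opens := ⟨_, hopen.preimage (Points.continuous_ofPt (j i))⟩
    refine ⟨openOver (U i) W, (yon S).map (openι (U i) W) ≫ j i,
      (RepWith @IsOpenImmersion).comp_mem _ _
        ((repWith_yon_map_iff _ _).2 (inferInstanceAs (IsOpenImmersion W.ι))) (hj i), ?_⟩
    rw [range_ofPt_map_comp]
    change Points.ofPt (j i) '' Set.range W.ι = O E
    rw [Scheme.Opens.range_ι]
    refine Set.image_preimage_eq_of_subset (hi.trans ?_)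
    rintro _ ⟨y, rfl⟩
    exact ⟨Points.toScheme _ y, by rw [Points.ofPt_eq_map_ofScheme, Points.ofScheme_toScheme]⟩
  choose V π hπ hrange using hex
  have hmono : ∀ E, Mono (π E) := fun E => mono_of_isOpenImmersion (hπ E)
  have hlift : ∀ (E : I) {T : Over S} (x : (yon S).obj T ⟶ F), (∀ t, Points.ofPt x t ∈ O E) →
      ∃ y : T ⟶ V E, (yon S).map y ≫ π E = x := by
    intro E T x hx
    obtain ⟨y, hy⟩ := exists_lift_yon_of_isOpenImmersion (hπ E) x (by
      rintro _ ⟨t, rfl⟩
      obtain ⟨v, hv⟩ := (hrange E).symm ▸ hx t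
      exact ⟨Points.ofScheme _ v, by rw [← Points.ofPt_eq_map_ofScheme, hv]⟩)
    exact ⟨(yon S).preimage y, by rw [Functor.map_preimage, hy]⟩
  have huniq : ∀ (E : I) {T : Over S} (x y : T ⟶ V E),
      (yon S).map x ≫ π E = (yon S).map y ≫ π E → x = y := fun E _ x y h =>
    (yon S).map_injective ((cancel_mono (π E)).1 h)
  have hle : ∀ {E E' : I}, E ≤ E' → ∃ t : V E ⟶ V E', (yon S).map t ≫ π E' = π E := by
    intro E E' h
    refine hlift E' (π E) fun t => ?_
    obtain ⟨u, hu, e⟩ : Points.ofPt (π E) t ∈ O E := hrange E ▸ Set.mem_range_self t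
    exact ⟨u, h hu, e⟩
  choose t ht using @hle
  have htid : ∀ E : I, t (le_refl E) = 𝟙 (V E) := fun E => huniq E _ _
    (by rw [ht, CategoryTheory.Functor.map_id, Category.id_comp])
  have htcomp : ∀ {E E' E'' : I} (h₁ : E ≤ E') (h₂ : E' ≤ E''), t (h₁.trans h₂) = t h₁ ≫ t h₂ :=
    fun h₁ h₂ => huniq _ _ _ (by rw [ht, Functor.map_comp, Category.assoc, ht, ht])
  let G : I ⥤ Over S :=
    { obj := V
      map := fun {E E'} f => t (leOfHom f)
      map_id := htid
      map_comp := fun f g => htcomp (leOfHom f) (leOfHom g) }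
  let Fn : I ⥤ Scheme.{u} := G ⋙ Over.forget S
  have : ∀ {E E' : I} (f : E ⟶ E'), IsOpenImmersion (Fn.map f) := fun {E E'} f =>
    repWith_openImmersion_map_of_factor (t (leOfHom f)) (π E') (by rw [ht]; exact hπ E)
  have hinter : ∀ (E E' : I), ∃ l : I, l ≤ E ∧ l ≤ E' ∧ O E ∩ O E' = O l := by
    intro E E'
    obtain ⟨i, hi⟩ := (hO E).2.2
    obtain ⟨l, hl⟩ := hmk (O E ∩ O E') ((hO E).1.inter (hO E').1) ⟨i, Set.inter_subset_left.trans hi⟩
    refine ⟨l, ?_, ?_, hl.symm⟩ <;> intro x hx
    · exact ((hO E).2.1.symm ▸ ((hl ▸ (⟨x, hx, rfl⟩ : Points.ofPt p x ∈ O l)) :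
        Points.ofPt p x ∈ O E ∩ O E').1 : x ∈ (E.1 : Set U₀.left))
    · exact ((hO E').2.1.symm ▸ ((hl ▸ (⟨x, hx, rfl⟩ : Points.ofPt p x ∈ O l)) :
        Points.ofPt p x ∈ O E ∩ O E').2 : x ∈ (E'.1 : Set U₀.left))
  have hofPt : ∀ {E E' : I} (h : E ≤ E') (x : (V E).left),
      Points.ofPt (π E') ((t h).left x) = Points.ofPt (π E) x := fun h x => by
    rw [← ofPt_map_comp, ht]
  have hpts : ∀ (E E' : I) (a : (V E).left) (b : (V E').left),
      Points.ofPt (π E) a = Points.ofPt (π E') b → ∃ (l : I) (h : l ≤ E) (h' : l ≤ E') (z : (V l).left),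
        (t h).left z = a ∧ (t h').left z = b := by
    intro E E' a b hab
    obtain ⟨l, h, h', hl⟩ := hinter E E'
    obtain ⟨z, hz⟩ : Points.ofPt (π E) a ∈ Set.range (Points.ofPt (π l)) := by
      rw [hrange, ← hl]
      exact ⟨hrange E ▸ Set.mem_range_self a, hab ▸ hrange E' ▸ Set.mem_range_self b⟩
    exact ⟨l, h, h', z, injective_ofPt_of_mono (π E) ((hofPt h z).trans hz),
      injective_ofPt_of_mono (π E') ((hofPt h' z).trans (hz.trans hab))⟩
  have hdir : (Fn ⋙ Scheme.forget).IsLocallyDirected := by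
    constructor
    intro a b c fa fb xa xb e
    have e' : (t (leOfHom fa)).left xa = (t (leOfHom fb)).left xb := e
    obtain ⟨l, h, h', z, hza, hzb⟩ := hpts a b xa xb (by
      rw [← hofPt (leOfHom fa), ← hofPt (leOfHom fb), e'])
    exact ⟨l, homOfLE h, homOfLE h', z, hza, hzb⟩
  let str : colimit Fn ⟶ S := colimit.desc Fn
    { pt := S
      ι :=
        { app := fun E => (V E).hom
          naturality := fun E E' f => (Over.w (t (leOfHom f))).trans (Category.comp_id _).symm } }
  let X : Over S := Over.mk str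
  let i : ∀ E, V E ⟶ X := fun E => Over.homMk (colimit.ι Fn E) (colimit.ι_desc _ E)
  have hit : ∀ {E E' : I} (h : E ≤ E'), t h ≫ i E' = i E := fun h =>
    Over.OverMorphism.ext (colimit.w Fn (homOfLE h))
  have hiopen : ∀ E, IsOpenImmersion (i E).left := fun E =>
    inferInstanceAs (IsOpenImmersion (colimit.ι Fn E))
  have hicov : ∀ x, ∃ E, x ∈ Set.range (i E).left := fun x =>
    ⟨_, (Scheme.IsLocallyDirected.openCover Fn).covers x⟩
  have himono : ∀ E, Mono (i E) := fun E =>
    (Over.forget S).mono_of_mono_map (have := hiopen E; inferInstanceAs (Mono (i E).left))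
  obtain ⟨Φ, hΦ⟩ := InfGlue.exists_glue (T := X) (U := V) i (fun E => have := hiopen E; inferInstance)
    hicov π fun E E' Z a b hab => by
      have hsmall : ∀ z : Z.left, ∃ (l : I) (h : l ≤ E) (h' : l ≤ E'),
          (a ≫ i E).left z ∈ Set.range (i l).left := by
        intro z
        obtain ⟨l, f, f', x, hx, hx'⟩ := (Scheme.IsLocallyDirected.ι_eq_ι_iff Fn
          (xi := a.left z) (xj := b.left z)).1 (congrArg (fun k => k.left z) hab)
        refine ⟨l, leOfHom f, leOfHom f', x, ?_⟩
        change (i l).left x = (i E).left (a.left z)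
        rw [← hit (leOfHom f)]
        exact congrArg _ hx
      choose l h h' hz using hsmall
      let W : Z.left → Z.left.Opens := fun z => (a ≫ i E).left ⁻¹ᵁ (i (l z)).left.opensRange
      refine InfGlue.hom_ext_cover (T := Z) (U := fun z => openOver Z (W z)) (fun z => openι Z _)
        (fun z => inferInstanceAs (Etale (Scheme.Opens.ι _))) (fun z => ⟨z, ⟨z, hz z⟩, rfl⟩) _ _ fun z => ?_
      have := hiopen (l z)
      have hr : Set.range (openι Z (W z) ≫ a ≫ i E).left ⊆ Set.range (i (l z)).left := by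
        rintro _ ⟨w, rfl⟩
        exact w.2
      let c : openOver Z (W z) ⟶ V (l z) := Over.homMk (IsOpenImmersion.lift _ _ hr) (by
        rw [← Over.w (i (l z)), IsOpenImmersion.lift_fac_assoc, Over.w])
      have hc : c ≫ i (l z) = openι Z _ ≫ a ≫ i E := Over.OverMorphism.ext (IsOpenImmersion.lift_fac _ _ _)
      have := himono E
      have := himono E'
      have e1 : c ≫ t (h z) = openι Z _ ≫ a :=
        (cancel_mono (i E)).1 (by rw [Category.assoc, hit, hc, Category.assoc])
      have e2 : c ≫ t (h' z) = openι Z _ ≫ b :=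
        (cancel_mono (i E')).1 (by rw [Category.assoc, hit, hc, Category.assoc, hab])
      rw [← Functor.map_comp_assoc, ← Functor.map_comp_assoc, ← e1, ← e2, Functor.map_comp, Functor.map_comp,
        Category.assoc, Category.assoc, ht, ht]
  have hcovO : ∀ x : Points F, ∃ E : I, x ∈ O E := by
    intro x
    obtain ⟨k, hk⟩ := hcov x
    obtain ⟨E, hE⟩ := hmk _ (isOpen_range_of_isOpenImmersion (hj k)) ⟨k, subset_rfl⟩
    exact ⟨E, hE ▸ hk⟩
  have hmem : ∀ (E : I) (q : X.left), Points.ofPt Φ q ∈ O E → q ∈ Set.range (i E).left := by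
    intro E q hq
    obtain ⟨E', v, rfl⟩ := hicov q
    rw [← ofPt_map_comp, hΦ] at hq
    obtain ⟨a, ha⟩ : Points.ofPt (π E') v ∈ Set.range (Points.ofPt (π E)) := hrange E ▸ hq
    obtain ⟨l, h, h', z, hza, hzb⟩ := hpts E E' a v ha
    refine ⟨(t h).left z, ?_⟩
    rw [← hzb, ← Scheme.Hom.comp_apply, ← Over.comp_left, hit, ← Scheme.Hom.comp_apply, ← Over.comp_left, hit]
  have hTcov : ∀ {T : Over S} (x : (yon S).obj T ⟶ F) (w : T.left), ∃ E : I,
      w ∈ Set.range (openι T ⟨_, (hO E).1.preimage (Points.continuous_ofPt x)⟩).left := by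
    intro T x w
    obtain ⟨E, hE⟩ := hcovO (Points.ofPt x w)
    exact ⟨E, ⟨w, hE⟩, rfl⟩
  have huq : ∀ {T : Over S} (z z' : T ⟶ X), (yon S).map z ≫ Φ = (yon S).map z' ≫ Φ → z = z' := by
    intro T z z' h
    apply (yon S).map_injective
    refine InfGlue.hom_ext_cover (T := T) (fun E => openι T _)
      (fun E => inferInstanceAs (Etale (Scheme.Opens.ι _))) (hTcov ((yon S).map z ≫ Φ)) _ _ fun E => ?_
    let T' := openOver T ⟨_, (hO E).1.preimage (Points.continuous_ofPt ((yon S).map z ≫ Φ))⟩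
    have key : ∀ y : T ⟶ X, (yon S).map y ≫ Φ = (yon S).map z ≫ Φ →
        ∃ y' : T' ⟶ V E, y' ≫ i E = openι T _ ≫ y := by
      intro y hy
      have := hiopen E
      have hr : Set.range (openι T _ ≫ y : T' ⟶ X).left ⊆ Set.range (i E).left := by
        rintro _ ⟨w, rfl⟩
        refine hmem E _ ?_
        have hw : Points.ofPt ((yon S).map z ≫ Φ) w.1 ∈ O E := w.2
        exact ((congrArg (fun k => Points.ofPt k w.1) hy).symm.trans (ofPt_map_comp y Φ w.1)) ▸ hw
      exact ⟨Over.homMk (IsOpenImmersion.lift _ _ hr) (by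
        rw [← Over.w (i E), IsOpenImmersion.lift_fac_assoc, Over.w]),
        Over.OverMorphism.ext (IsOpenImmersion.lift_fac _ _ _)⟩
    obtain ⟨a, ha⟩ := key z rfl
    obtain ⟨b, hb⟩ := key z' h.symm
    have hab : a = b := huniq E a b (by
      rw [← hΦ, ← Functor.map_comp_assoc, ha, ← Functor.map_comp_assoc, hb, Functor.map_comp_assoc,
        Functor.map_comp_assoc]
      exact congrArg _ h)
    rw [← Functor.map_comp, ← Functor.map_comp, ← ha, ← hb, hab]
  have : IsIso Φ := isIso_of_yon Φ fun T x => by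
    let TV : I → Over S := fun E => openOver T ⟨_, (hO E).1.preimage (Points.continuous_ofPt x)⟩
    have hloc : ∀ E, ∃ y : TV E ⟶ V E, (yon S).map y ≫ π E = (yon S).map (openι T _) ≫ x :=
      fun E => hlift E _ fun w => by rw [ofPt_map_comp]; exact w.2
    choose y hy using hloc
    obtain ⟨l, hl⟩ := InfGlue.exists_glue (T := T) (U := TV) (fun E => openι T _)
      (fun E => inferInstanceAs (Etale (Scheme.Opens.ι _))) (hTcov x)
      (fun E => (yon S).map (y E ≫ i E)) fun E E' Z a b hab => by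
        rw [← Functor.map_comp, ← Functor.map_comp]
        congr 1
        apply huq
        simp only [Functor.map_comp, Category.assoc, hΦ, hy]
        rw [← Functor.map_comp_assoc, ← Functor.map_comp_assoc, hab]
    obtain ⟨g, rfl⟩ := (yon S).map_surjective l
    have hg : (yon S).map g ≫ Φ = x := by
      refine InfGlue.hom_ext_cover (T := T) (U := TV) (fun E => openι T _)
        (fun E => inferInstanceAs (Etale (Scheme.Opens.ι _))) (hTcov x) _ _ fun E => ?_
      rw [← Category.assoc, hl, Functor.map_comp, Category.assoc, hΦ, hy]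
    exact ⟨g, hg, fun g' hg' => huq g' g (hg'.trans hg.symm)⟩
  exact ⟨X, ⟨asIso Φ⟩⟩

end Groth.Agent.AlgSpB

namespace Groth.Agent.AlgSpB

open _root_.AlgSp Groth.Agent.AlgSp

variable {S : Scheme.{u}}

theorem isRepresentable_of_iso {F : Sp S} {X : Over S} (e : (yon S).obj X ≅ F) :
    F.obj.IsRepresentable := by
  refine Functor.RepresentableBy.isRepresentable (Y := X)
    { homEquiv := fun {T} => ((Functor.FullyFaithful.ofFullyFaithful (yon S)).homEquiv.trans
        { toFun := fun k => k ≫ e.hom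
          invFun := fun k => k ≫ e.inv
          left_inv := fun k => by simp
          right_inv := fun k => by simp }).trans yEquiv
      homEquiv_comp := fun {T T'} g k => ?_ }
  change yEquiv ((yon S).map (g ≫ k) ≫ e.hom) = F.obj.map g.op (yEquiv ((yon S).map k ≫ e.hom))
  rw [← yEquiv_map, Functor.map_comp, Category.assoc]

theorem exists_iso_of_isRepresentable {F : Sp S} (h : F.obj.IsRepresentable) :
    ∃ X : Over S, Nonempty ((yon S).obj X ≅ F) := by
  obtain ⟨X, ⟨r⟩⟩ := h.has_representation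
  have : IsIso (yEquiv.symm (r.homEquiv (𝟙 X)) : (yon S).obj X ⟶ F) := isIso_of_yon _ fun T x => by
    have key : ∀ y : T ⟶ X, (yon S).map y ≫ yEquiv.symm (r.homEquiv (𝟙 X)) = yEquiv.symm (r.homEquiv y) := by
      intro y
      apply yEquiv.injective
      rw [yEquiv_map, Equiv.apply_symm_apply, Equiv.apply_symm_apply, ← r.homEquiv_comp, Category.comp_id]
    refine ⟨r.homEquiv.symm (yEquiv x), ?_, fun y hy => ?_⟩
    · simp only [key, Equiv.apply_symm_apply, Equiv.symm_apply_apply]
    · rw [← hy, key, Equiv.apply_symm_apply, Equiv.symm_apply_apply]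
  exact ⟨X, ⟨asIso (yEquiv.symm (r.homEquiv (𝟙 X)))⟩⟩

theorem exists_largest_open_subscheme (X : Space S) :
    ∃ (X' : Space S) (j : X' ⟶ X), RepWith @IsOpenImmersion j.hom ∧ X'.obj.obj.IsRepresentable ∧
      ∀ (X'' : Space S) (j'' : X'' ⟶ X), RepWith @IsOpenImmersion j''.hom →
        X''.obj.obj.IsRepresentable → ∃ k : X'' ⟶ X', k ≫ j = j'' := by
  obtain ⟨U₀, p, hpe, hps⟩ := X.property.atlas
  let W : Set (Points X.obj) := {x | ∃ (V : Over S) (j : (yon S).obj V ⟶ X.obj),
    RepWith @IsOpenImmersion j ∧ x ∈ Set.range (Points.map j)}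
  have hW : IsOpen W := by
    rw [isOpen_iff_forall_mem_open]
    rintro x ⟨V, j, hj, hx⟩
    exact ⟨_, fun y hy => ⟨V, j, hj, hy⟩, isOpen_range_of_isOpenImmersion hj, hx⟩
  obtain ⟨X', j, hj, hr⟩ := exists_openSubspace X hW
  refine ⟨X', j, hj, ?_, fun X'' j'' hj'' hrep => ?_⟩
  · let ι : Type u := {v : U₀.left // Points.ofPt p v ∈ W}
    choose V k hk hvk using fun v : ι => v.2
    have hex : ∀ v : ι, ∃ l : (yon S).obj (V v) ⟶ X'.obj, l ≫ j.hom = k v := fun v =>
      (exists_factor_isOpenImmersion_iff hj (k v)).2 (by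
        rw [hr]; exact fun y hy => ⟨V v, k v, hk v, hy⟩)
    choose l hl using hex
    have := mono_of_isOpenImmersion hj
    obtain ⟨Y, ⟨e⟩⟩ := exists_iso_yon_of_openCover X'.property V l (fun v => by
      refine MorphismProperty.of_isPullback (P := RepWith @IsOpenImmersion) (f := j.hom) (g := k v)
        (f' := 𝟙 _) ?_ (hk v)
      exact IsPullback.of_isLimit' ⟨by rw [Category.id_comp, hl]⟩ (PullbackCone.IsLimit.mk _
        (fun c => c.fst) (fun c => Category.comp_id _)
        (fun c => (cancel_mono j.hom).1 (by rw [Category.assoc, hl]; exact c.condition))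
        (fun c m hm _ => by simpa using hm))) fun y => by
      obtain ⟨v, hv⟩ := surjective_ofPt hps (Points.map j.hom y)
      have hvW : Points.ofPt p v ∈ W := by rw [hv, ← hr]; exact Set.mem_range_self y
      obtain ⟨z, hz⟩ := hvk ⟨v, hvW⟩
      refine ⟨⟨v, hvW⟩, z, injective_map_of_mono j.hom ?_⟩
      rw [← Points.map_comp, hl, hz, hv]
    exact isRepresentable_of_iso e
  · obtain ⟨Y, ⟨e⟩⟩ := exists_iso_of_isRepresentable hrep
    have he : RepWith @IsOpenImmersion (e.hom ≫ j''.hom) :=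
      (MorphismProperty.cancel_left_of_respectsIso (RepWith @IsOpenImmersion) _ _).2 hj''
    obtain ⟨l, hl⟩ := (exists_factor_isOpenImmersion_iff hj j''.hom).2 (by
      rw [hr]
      rintro _ ⟨y, rfl⟩
      exact ⟨Y, _, he, Points.map e.inv y, by rw [← Points.map_comp, e.inv_hom_id_assoc]⟩)
    exact ⟨ObjectProperty.homMk l, ObjectProperty.hom_ext _ hl⟩

end Groth.Agent.AlgSpB
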