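import Groth.Agent.AlgSpB.InvariantsFlat
import Groth.Agent.AlgSpB.LqfLocal
import Groth.Agent.AlgSpB.OpenGlue
import Groth.Agent.S9762
import Mathlib.AlgebraicGeometry.Morphisms.QuasiFinite

/-!
# Separated locally quasi-finite algebraic spaces over schemes are schemes
-/

universe u

open CategoryTheory CategoryTheory.Limits AlgebraicGeometry Opposite

set_option backward.isDefEq.respectTransparency false
set_option backward.isDefEq.respectTransparency.types false
set_option autoImplicit false

namespace Groth.Agent.AlgSpB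

open _root_.AlgSp
open Groth.Agent.AlgSp (mono_of_yon isColimit_of_isPullback isLocallySurjective_of_etale_surjective)

variable {S : Scheme.{u}}

/-- For a separated map to a scheme the relation of an atlas is closed in the fibre product. -/
theorem isClosedImmersion_rel {F : Sp S} {U R T : Over S} {p : (yon S).obj U ⟶ F}
    {t s : R ⟶ U} (sq : IsPullback ((yon S).map t) ((yon S).map s) p p)
    {f : F ⟶ (yon S).obj T} (hf : IsSeparatedMor f) {u : U ⟶ T} (hu : p ≫ f = (yon S).map u)
    (hw : t.left ≫ u.left = s.left ≫ u.left) :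
    IsClosedImmersion (pullback.lift t.left s.left hw : R.left ⟶ pullback u.left u.left) := by
  have hwO : t ≫ u = s ≫ u := Over.OverMorphism.ext hw
  let Q := pullback u u
  let l : R ⟶ Q := pullback.lift t s hwO
  have hm : ((yon S).map (pullback.fst u u) ≫ p) ≫ f = ((yon S).map (pullback.snd u u) ≫ p) ≫ f := by
    rw [Category.assoc, Category.assoc, hu, ← Functor.map_comp, ← Functor.map_comp, pullback.condition]
  let m : (yon S).obj Q ⟶ pullback f f := pullback.lift _ _ hm
  have hQ := (IsPullback.of_hasPullback u u).map (yon S)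
  have sqm : IsPullback ((yon S).map t ≫ p) ((yon S).map l) (pullback.diagonal f) m := by
    have key : ∀ c : PullbackCone (pullback.diagonal f) m,
        (c.snd ≫ (yon S).map (pullback.fst u u)) ≫ p = c.fst ∧
          (c.snd ≫ (yon S).map (pullback.snd u u)) ≫ p = c.fst := by
      intro c
      have h1 := congrArg (· ≫ pullback.fst f f) c.condition
      have h2 := congrArg (· ≫ pullback.snd f f) c.condition
      simp only [Category.assoc, pullback.diagonal_fst, pullback.diagonal_snd, Category.comp_id, m,
        pullback.lift_fst, pullback.lift_snd] at h1 h2 ⊢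
      exact ⟨h1.symm, h2.symm⟩
    have hl1 : (yon S).map l ≫ (yon S).map (pullback.fst u u) = (yon S).map t := by
      rw [← Functor.map_comp, pullback.lift_fst]
    have hl2 : (yon S).map l ≫ (yon S).map (pullback.snd u u) = (yon S).map s := by
      rw [← Functor.map_comp, pullback.lift_snd]
    refine IsPullback.of_isLimit' ⟨?_⟩ (PullbackCone.IsLimit.mk _
      (fun c => sq.lift _ _ ((key c).1.trans (key c).2.symm)) (fun c => ?_) (fun c => ?_) (fun c k h1 h2 => ?_))
    · apply pullback.hom_ext
      · simp only [Category.assoc, pullback.diagonal_fst, Category.comp_id, m, pullback.lift_fst,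
          reassoc_of% hl1]
      · simp only [Category.assoc, pullback.diagonal_snd, Category.comp_id, m, pullback.lift_snd,
          reassoc_of% hl2, sq.w]
    · rw [sq.lift_fst_assoc]; exact (key c).1
    · apply hQ.hom_ext
      · rw [Category.assoc, hl1, sq.lift_fst]
      · rw [Category.assoc, hl2, sq.lift_snd]
    · apply sq.hom_ext
      · rw [sq.lift_fst, ← h2, Category.assoc, hl1]
      · rw [sq.lift_snd, ← h2, Category.assoc, hl2]
  have hl : IsClosedImmersion l.left := hf.2 m _ l sqm
  have eQ := isPullback_map_left (IsPullback.of_hasPullback u u)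
  have e : l.left ≫ eQ.isoPullback.hom = pullback.lift t.left s.left hw := by
    apply pullback.hom_ext <;> simp [l, ← Over.comp_left]
  rw [← e]
  infer_instance

/-- Separated locally quasi-finite algebraic spaces over an affine scheme with an affine atlas are schemes. -/
theorem exists_iso_of_lqf_sep_affine {F : Sp S} (hF : IsAlgSpace F) {U : Over S} [IsAffine U.left]
    (p : (yon S).obj U ⟶ F) (hp : RepWith @Etale p) (hps : RepWith @Surjective p) {T : Over S}
    [IsAffine T.left] (f : F ⟶ (yon S).obj T) (hqf : LocP (@LocallyQuasiFinite ⊓ @LocallyOfFiniteType) f)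
    (hf : IsSeparatedMor f) : ∃ O : Over S, Nonempty ((yon S).obj O ≅ F) := by
  have hls := isLocallySurjective_of_etale_surjective p hp hps
  obtain ⟨u, hu⟩ := (yon S).map_surjective (p ≫ f)
  have hid : RepWith @Etale (𝟙 ((yon S).obj T)) := _root_.AlgSp.repWith_id @Etale T
  obtain ⟨hlqf, hlft⟩ : LocallyQuasiFinite u.left ∧ LocallyOfFiniteType u.left :=
    hqf p (𝟙 _) u hp hid (by rw [Category.comp_id]; exact hu.symm)
  obtain ⟨R, t, s, sq⟩ := exists_pullback_yon hp.1 p
  have het : Etale t.left := hp.2 _ _ _ sq.flip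
  have hes : Etale s.left := hp.2 _ _ _ sq
  have hwO : t ≫ u = s ≫ u := (yon S).map_injective (by
    rw [Functor.map_comp, Functor.map_comp, hu, reassoc_of% sq.w])
  have hw : t.left ≫ u.left = s.left ≫ u.left := congrArg (fun k : R ⟶ T => k.left) hwO
  have hcl := isClosedImmersion_rel sq hf hu.symm hw
  have : IsAffine R.left := (IsClosedImmersion.isAffine_surjective_of_isAffine (pullback.lift t.left s.left hw)).1
  -- the invariant functions
  let E : Subring Γ(U.left, ⊤) := RingHom.eqLocus t.left.appTop.hom s.left.appTop.hom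
  let Y : Scheme.{u} := Spec (CommRingCat.of E)
  let g : U.left ⟶ Y := U.left.toSpecΓ ≫ Spec.map (CommRingCat.ofHom E.subtype)
  have hgΓ : g.appTop = (Scheme.ΓSpecIso (CommRingCat.of E)).hom ≫ CommRingCat.ofHom E.subtype := by
    change (U.left.toSpecΓ ≫ Spec.map (CommRingCat.ofHom E.subtype)).appTop = _
    rw [Scheme.Hom.comp_appTop, Scheme.toSpecΓ_appTop, Scheme.ΓSpecIso_naturality]
  have hgt : t.left ≫ g = s.left ≫ g := by
    refine ext_of_isAffine ?_
    rw [Scheme.Hom.comp_appTop t.left g, Scheme.Hom.comp_appTop s.left g, hgΓ, Category.assoc, Category.assoc]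
    congr 1
    ext x
    exact x.2
  have hinj : Function.Injective g.appTop := by
    rw [hgΓ]
    exact Subtype.val_injective.comp (ConcreteCategory.bijective_of_isIso _).1
  have hex : ∀ b, t.left.appTop b = s.left.appTop b → b ∈ Set.range g.appTop := by
    intro b hb
    let bE : E := ⟨b, hb⟩
    refine ⟨(Scheme.ΓSpecIso (CommRingCat.of E)).inv.hom bE, ?_⟩
    rw [hgΓ]
    exact congrArg (fun z => E.subtype z)
      (congrArg (fun k : CommRingCat.of E ⟶ CommRingCat.of E => k.hom bE) (Scheme.ΓSpecIso _).inv_hom_id)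
  let υ : Γ(T.left, ⊤) ⟶ CommRingCat.of E := CommRingCat.ofHom (u.left.appTop.hom.codRestrict E fun a => by
    change (u.left.appTop ≫ t.left.appTop) a = (u.left.appTop ≫ s.left.appTop) a
    rw [← Scheme.Hom.comp_appTop, ← Scheme.Hom.comp_appTop, hw])
  let hY : Y ⟶ T.left := Spec.map υ ≫ T.left.isoSpec.inv
  have hgY : g ≫ hY = u.left := by
    have e : υ ≫ CommRingCat.ofHom E.subtype = u.left.appTop := rfl
    simp only [g, hY, Category.assoc, ← Spec.map_comp_assoc, e, ← Scheme.toSpecΓ_naturality_assoc]
    exact (congrArg (u.left ≫ ·) T.left.isoSpec.hom_inv_id).trans (Category.comp_id _)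
  -- local structure over an etale neighbourhood of each point
  have hloc : ∀ y : T.left, ∃ (T' : Scheme.{u}) (k : T' ⟶ T.left) (y' : T'), k y' = y ∧ Etale k ∧
      ∃ (V : Scheme.{u}) (v : V ⟶ U.left), Etale v ∧ Etale (v ≫ g) ∧
        (∀ x : U.left, u.left x = y → x ∈ Set.range v) ∧
        ∀ z : ↥(pullback g g), u.left (pullback.fst g g z) = y →
          z ∈ Set.range (pullback.lift t.left s.left hgt : R.left ⟶ pullback g g) := by
    intro y
    have : IsArtinianScheme (u.left.fiber y) := inferInstance
    obtain ⟨Y₁, k₁, y₁, hnb, V₁, hVcl, hV₁, hiso⟩ := Groth.Agent.S9762.result u.left y (Set.toFinite _)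
    have hk₁ : Etale k₁ := hnb.etale
    have hky₁ : k₁ y₁ = y := hnb.base_eq
    have hall : ∀ x : ↥(pullback u.left k₁), pullback.snd u.left k₁ x = y₁ → x ∈ V₁ := by
      intro x hx
      obtain ⟨w, hw⟩ : x ∈ Set.range ((pullback.snd u.left k₁).fiberι y₁) := by
        rw [Scheme.Hom.range_fiberι]; exact hx
      by_contra hxV
      have : DiscreteTopology ↥((pullback.snd u.left k₁).fiber y₁) := inferInstance
      exact hiso w (hw ▸ hxV) (isOpen_discrete _)
    obtain ⟨_, ⟨O₁, hO₁, rfl⟩, hy₁O, -⟩ := Y₁.isBasis_affineOpens.exists_subset_of_mem_open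
      (Set.mem_univ y₁) isOpen_univ
    let T' : Over S := Over.mk ((Scheme.Opens.ι O₁ ≫ k₁) ≫ T.hom)
    let k : T' ⟶ T := Over.homMk (Scheme.Opens.ι O₁ ≫ k₁)
    have : IsAffine T'.left := hO₁
    have hke : Etale k.left := inferInstanceAs (Etale (Scheme.Opens.ι O₁ ≫ k₁))
    let y' : T'.left := ⟨y₁, hy₁O⟩
    have hky : k.left y' = y := hky₁
    refine ⟨T'.left, k.left, y', hky, hke, ?_⟩
    -- base change
    let U' := pullback u k
    let fU := pullback.snd u k
    let kU := pullback.fst u k
    let R' := pullback (t ≫ u) k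
    let kR := pullback.fst (t ≫ u) k
    let fR := pullback.snd (t ≫ u) k
    let t' : R' ⟶ U' := pullback.lift (kR ≫ t) fR (by rw [Category.assoc]; exact pullback.condition)
    let s' : R' ⟶ U' := pullback.lift (kR ≫ s) fR (by rw [Category.assoc, ← hwO]; exact pullback.condition)
    have eU : IsPullback kU.left fU.left u.left k.left := isPullback_map_left (IsPullback.of_hasPullback u k)
    have eR := isPullback_map_left (IsPullback.of_hasPullback (t ≫ u) k)
    have : IsAffine U'.left := .of_isPullback eU
    have : IsAffine R'.left := .of_isPullback eR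
    let fX := pullback.snd f ((yon S).map k)
    let kX := pullback.fst f ((yon S).map k)
    have hpk : ((yon S).map kU ≫ p) ≫ f = (yon S).map fU ≫ (yon S).map k := by
      rw [Category.assoc, ← hu, ← Functor.map_comp, ← Functor.map_comp, pullback.condition]
    let p' : (yon S).obj U' ⟶ pullback f ((yon S).map k) := pullback.lift _ _ hpk
    have hp'f : p' ≫ fX = (yon S).map fU := pullback.lift_snd _ _ _
    have sqp : IsPullback ((yon S).map kU) p' p kX := by
      refine IsPullback.of_bot ?_ (pullback.lift_fst _ _ _).symm (IsPullback.of_hasPullback f ((yon S).map k))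
      rw [hp'f, ← hu]
      exact (IsPullback.of_hasPullback u k).map (yon S)
    have hp' : RepWith @Etale p' := MorphismProperty.of_isPullback sqp hp
    have hp's : RepWith @Surjective p' := MorphismProperty.of_isPullback sqp hps
    have := isLocallySurjective_of_etale_surjective p' hp' hp's
    have hs' : s' ≫ kU = kR ≫ s := pullback.lift_fst _ _ _
    have ht' : t' ≫ kU = kR ≫ t := pullback.lift_fst _ _ _
    have hs'f : s' ≫ fU = fR := pullback.lift_snd _ _ _
    have ht'f : t' ≫ fU = fR := pullback.lift_snd _ _ _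
    have sq' : IsPullback ((yon S).map t') ((yon S).map s') p' p' := by
      have hUs := (IsPullback.of_hasPullback u k).map (yon S)
      have hRs := (IsPullback.of_hasPullback (t ≫ u) k).map (yon S)
      have w : (yon S).map t' ≫ p' = (yon S).map s' ≫ p' := by
        apply pullback.hom_ext
        · simp only [p', Category.assoc, pullback.lift_fst, ← Functor.map_comp_assoc, ht', hs']
          rw [Functor.map_comp, Functor.map_comp, Category.assoc, Category.assoc, sq.w]
        · simp only [p', Category.assoc, pullback.lift_snd, ← Functor.map_comp, ht'f, hs'f]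
      have et1 : (yon S).map t' ≫ (yon S).map (pullback.fst u k) = (yon S).map kR ≫ (yon S).map t := by
        rw [← (yon S).map_comp, ← (yon S).map_comp]; exact congrArg _ ht'
      have et2 : (yon S).map t' ≫ (yon S).map (pullback.snd u k) = (yon S).map (pullback.snd (t ≫ u) k) := by
        rw [← (yon S).map_comp]; exact congrArg _ ht'f
      have es1 : (yon S).map s' ≫ (yon S).map (pullback.fst u k) = (yon S).map kR ≫ (yon S).map s := by
        rw [← (yon S).map_comp, ← (yon S).map_comp]; exact congrArg _ hs'
      have es2 : (yon S).map s' ≫ (yon S).map (pullback.snd u k) = (yon S).map (pullback.snd (t ≫ u) k) := by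
        rw [← (yon S).map_comp]; exact congrArg _ hs'f
      have hex' : ∀ c : PullbackCone p' p', ∃ m : c.pt ⟶ (yon S).obj R',
          m ≫ (yon S).map t' = c.fst ∧ m ≫ (yon S).map s' = c.snd := by
        intro c
        have h1 := congrArg (· ≫ kX) c.condition
        have h2 := congrArg (· ≫ fX) c.condition
        simp only [Category.assoc, p', kX, fX, pullback.lift_fst, pullback.lift_snd] at h1 h2
        simp only [← Category.assoc] at h1
        refine ⟨hRs.lift (sq.lift _ _ h1) (c.fst ≫ (yon S).map fU) ?_, ?_, ?_⟩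
        · rw [Functor.map_comp, sq.lift_fst_assoc]
          simp only [Category.assoc, ← Functor.map_comp, kU, fU, pullback.condition]
        · apply hUs.hom_ext
          · rw [Category.assoc, et1, hRs.lift_fst_assoc, sq.lift_fst]
          · rw [Category.assoc, et2, hRs.lift_snd]
        · apply hUs.hom_ext
          · rw [Category.assoc, es1, hRs.lift_fst_assoc, sq.lift_snd]
          · rw [Category.assoc, es2, hRs.lift_snd]
            exact h2
      choose m hm using hex'
      refine IsPullback.of_isLimit' ⟨w⟩ (PullbackCone.IsLimit.mk _ m (fun c => (hm c).1) (fun c => (hm c).2)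
        fun c m' h1 h2 => ?_)
      apply hRs.hom_ext
      · apply sq.hom_ext
        · rw [Category.assoc, Category.assoc, ← et1, reassoc_of% h1, reassoc_of% (hm c).1]
        · rw [Category.assoc, Category.assoc, ← es1, reassoc_of% h2, reassoc_of% (hm c).2]
      · rw [← et2, reassoc_of% h1, reassoc_of% (hm c).1]
    have het' : Etale t'.left := hp'.2 _ _ _ sq'.flip
    have hes' : Etale s'.left := hp'.2 _ _ _ sq'
    have hw' : t'.left ≫ fU.left = s'.left ≫ fU.left := by
      rw [← Over.comp_left, ← Over.comp_left, ht'f, hs'f]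
    have hcl' := isClosedImmersion_rel sq' (MorphismProperty.of_isPullback
      (P := (RepWith @IsClosedImmersion : MorphismProperty (Sp S)).diagonal)
      (IsPullback.of_hasPullback f ((yon S).map k)) hf) hp'f hw'
    -- the quotient side
    let Y' := pullback hY k.left
    let g' : U'.left ⟶ Y' := pullback.lift (kU.left ≫ g) fU.left (by
      rw [Category.assoc, hgY]; exact congrArg (fun q : U' ⟶ T => q.left) pullback.condition)
    have hg'k : g' ≫ pullback.fst hY k.left = kU.left ≫ g := pullback.lift_fst _ _ _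
    have hg'f : g' ≫ pullback.snd hY k.left = fU.left := pullback.lift_snd _ _ _
    have hgt' : t'.left ≫ g' = s'.left ≫ g' := by
      have a₁ : t'.left ≫ kU.left = kR.left ≫ t.left := congrArg (fun q : R' ⟶ U => q.left) ht'
      have a₂ : s'.left ≫ kU.left = kR.left ≫ s.left := congrArg (fun q : R' ⟶ U => q.left) hs'
      apply pullback.hom_ext
      · rw [Category.assoc, Category.assoc, hg'k, reassoc_of% a₁, reassoc_of% a₂, hgt]
      · rw [Category.assoc, Category.assoc, hg'f, hw']
    obtain ⟨hinj', hex'⟩ := invariants_baseChange k.left hY g t.left s.left hgt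
      (IsPullback.of_hasPullback hY k.left) (kU := kU.left) (fU := fU.left) (hgY ▸ eU)
      (kR := kR.left) (fR := fR.left) (by rw [hgY]; exact eR) g' hg'k hg'f t'.left s'.left
      (congrArg (fun q : R' ⟶ U => q.left) ht') (congrArg (fun q : R' ⟶ T' => q.left) ht'f)
      (congrArg (fun q : R' ⟶ U => q.left) hs') (congrArg (fun q : R' ⟶ T' => q.left) hs'f) hinj hex
    -- the finite part
    let φ : U'.left ⟶ pullback u.left k₁ := pullback.lift kU.left (fU.left ≫ Scheme.Opens.ι O₁) (by
      rw [Category.assoc]; exact congrArg (fun q : U' ⟶ T => q.left) pullback.condition)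
    have sqφ : IsPullback φ fU.left (pullback.snd u.left k₁) (Scheme.Opens.ι O₁) := by
      refine IsPullback.of_right ?_ (pullback.lift_snd _ _ _) (IsPullback.of_hasPullback u.left k₁)
      rw [pullback.lift_fst]
      exact eU
    have : IsOpenImmersion φ := MorphismProperty.of_isPullback (P := @IsOpenImmersion) sqφ.flip inferInstance
    let VO : Over S := Over.mk ((φ ⁻¹ᵁ V₁).ι ≫ U'.hom)
    let jV : VO ⟶ U' := Over.homMk (φ ⁻¹ᵁ V₁).ι
    have : IsOpenImmersion jV.left := inferInstanceAs (IsOpenImmersion (φ ⁻¹ᵁ V₁).ι)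
    have hV₁c : IsClosed (V₁ : Set ↥(pullback u.left k₁)) := hVcl.1
    have : IsClosedImmersion jV.left := IsClosedImmersion.of_isPreimmersion jV.left (by
      change IsClosed (Set.range (φ ⁻¹ᵁ V₁).ι)
      rw [Scheme.Opens.range_ι]
      exact hV₁c.preimage φ.continuous)
    have hfin : IsFinite (jV.left ≫ fU.left) := MorphismProperty.of_isPullback (P := @IsFinite)
      ((isPullback_morphismRestrict φ V₁).paste_vert sqφ) hV₁
    obtain ⟨hA, hB⟩ := local_structure p' hp'.1 t' s' sq' fU.left hw' hcl' g' hgt' hinj' hex' jV hfin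
    have hfib : ∀ w : U'.left, fU.left w = y' → w ∈ Set.range jV.left := by
      intro w hw
      change w ∈ Set.range (φ ⁻¹ᵁ V₁).ι
      rw [Scheme.Opens.range_ι]
      refine hall (φ w) ?_
      rw [← Scheme.Hom.comp_apply, pullback.lift_snd, Scheme.Hom.comp_apply, hw]
      rfl
    refine ⟨VO.left, jV.left ≫ kU.left, ?_, ?_, ?_, ?_⟩
    · have : Etale kU.left := MorphismProperty.of_isPullback (P := @Etale) eU.flip hke
      infer_instance
    · rw [Category.assoc, ← hg'k, ← Category.assoc]
      infer_instance
    · intro x hx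
      obtain ⟨w, hw1, hw2⟩ := Scheme.Pullback.exists_preimage_pullback x y' (f := u.left) (g := k.left)
        (hx.trans hky.symm)
      obtain ⟨v, hv⟩ := hfib (eU.isoPullback.inv w) (by
        rw [← Scheme.Hom.comp_apply, IsPullback.isoPullback_inv_snd, hw2])
      refine ⟨v, ?_⟩
      rw [Scheme.Hom.comp_apply, hv, ← Scheme.Hom.comp_apply, IsPullback.isoPullback_inv_fst, hw1]
    · intro z hz
      obtain ⟨z', hz1, hz2⟩ := Scheme.Pullback.exists_preimage_pullback z y'
        (f := pullback.fst g g ≫ u.left) (g := k.left) (hz.trans hky.symm)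
      let P := pullback (pullback.fst g g ≫ u.left) k.left
      have c₁ : (pullback.fst (pullback.fst g g ≫ u.left) k.left ≫ pullback.fst g g) ≫ u.left =
          pullback.snd _ k.left ≫ k.left := by rw [Category.assoc, pullback.condition]
      have c₂ : (pullback.fst (pullback.fst g g ≫ u.left) k.left ≫ pullback.snd g g) ≫ u.left =
          pullback.snd _ k.left ≫ k.left := by
        rw [← c₁, Category.assoc, Category.assoc, ← hgY, reassoc_of% (pullback.condition (f := g) (g := g))]
      let a := eU.lift _ _ c₁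
      let b := eU.lift _ _ c₂
      have hab : a ≫ g' = b ≫ g' := by
        apply pullback.hom_ext
        · simp only [Category.assoc, hg'k, a, b, IsPullback.lift_fst_assoc]
          rw [pullback.condition]
        · simp only [Category.assoc, hg'f, a, b, IsPullback.lift_snd]
      let ψ := pullback.lift a b hab
      have ea : ψ ≫ pullback.fst g' g' ≫ fU.left = pullback.snd (pullback.fst g g ≫ u.left) k.left := by
        rw [← Category.assoc, pullback.lift_fst, eU.lift_snd]
      have eb : ψ ≫ pullback.snd g' g' ≫ fU.left = pullback.snd (pullback.fst g g ≫ u.left) k.left := by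
        rw [← Category.assoc, pullback.lift_snd, eU.lift_snd]
      obtain ⟨r, hr⟩ := hB (ψ z') (hfib _ ((congrArg (fun q : P ⟶ T'.left => q z') ea).trans hz2))
        (hfib _ ((congrArg (fun q : P ⟶ T'.left => q z') eb).trans hz2))
      refine ⟨kR.left r, ?_⟩
      let μ := pullback.map g' g' g g kU.left kU.left (pullback.fst hY k.left) hg'k hg'k
      have e1 : kR.left ≫ pullback.lift t.left s.left hgt = pullback.lift t'.left s'.left hgt' ≫ μ := by
        apply pullback.hom_ext
        · simp [μ, ← Over.comp_left, ht']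
        · simp [μ, ← Over.comp_left, hs']
      have e2 : ψ ≫ μ = pullback.fst (pullback.fst g g ≫ u.left) k.left := by
        apply pullback.hom_ext <;> simp [μ, ψ, a, b]
      rw [← Scheme.Hom.comp_apply, e1, Scheme.Hom.comp_apply, hr, ← Scheme.Hom.comp_apply, e2, hz1]
  -- `g` is etale
  have hge : Etale g := by
    choose T' k y' hk hke V v hve hvg hcov hpair using hloc
    let O : T.left → U.left.Opens := fun y => ⟨Set.range (v y), by
      have := hve y; exact (v y).isOpenMap.isOpen_range⟩
    have hO : ⨆ y, O y = ⊤ := top_unique fun x _ =>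
      TopologicalSpace.Opens.mem_iSup.2 ⟨u.left x, hcov _ x rfl⟩
    rw [IsZariskiLocalAtSource.iff_of_iSup_eq_top (P := @Etale) O hO]
    intro y
    have := hve y
    let v' : V y ⟶ (O y).toScheme := IsOpenImmersion.lift (O y).ι (v y) (by rw [Scheme.Opens.range_ι]; rfl)
    have hv' : v' ≫ (O y).ι = v y := IsOpenImmersion.lift_fac _ _ _
    have : Etale (v' ≫ (O y).ι) := by rw [hv']; infer_instance
    refine Groth.Agent.AlgSpCov.etaleLocal_etale.ofPrecomp v' _
      (MorphismProperty.of_postcomp @Etale v' (O y).ι (inferInstance : Etale (O y).ι) this) ⟨fun x => ?_⟩ ?_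
    · obtain ⟨w, hw⟩ := x.2
      refine ⟨w, Subtype.ext ?_⟩
      exact (congrArg (fun q : V y ⟶ U.left => q w) hv').trans hw
    · rw [← Category.assoc, hv']; exact hvg y
  -- the relation is the kernel pair of `g`
  let φR : R.left ⟶ pullback g g := pullback.lift t.left s.left hgt
  have : IsClosedImmersion φR := by
    let m := pullback.map g g u.left u.left (𝟙 _) (𝟙 _) hY (by simp [hgY]) (by simp [hgY])
    have : IsClosedImmersion (φR ≫ m) := by
      rw [show φR ≫ m = pullback.lift t.left s.left hw from by apply pullback.hom_ext <;> simp [φR, m]]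
      exact hcl
    exact IsClosedImmersion.of_comp φR m
  have : Etale φR := by
    have : Etale (pullback.fst g g) := inferInstance
    have : Etale (φR ≫ pullback.fst g g) := by rw [pullback.lift_fst]; exact het
    exact MorphismProperty.of_postcomp @Etale φR (pullback.fst g g) (inferInstance : Etale (pullback.fst g g)) this
  have : Mono φR := inferInstance
  have : IsOpenImmersion φR := IsOpenImmersion.of_flat_of_mono φR
  have : Surjective φR := ⟨fun z => by
    obtain ⟨-, -, -, -, -, -, -, -, -, -, hpair⟩ := hloc (u.left (pullback.fst g g z))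
    exact hpair z rfl⟩
  have : IsIso φR := by
    rw [isIso_iff_isOpenImmersion_and_epi_base]
    exact ⟨inferInstance, (TopCat.epi_iff_surjective _).2 φR.surjective⟩
  have hRg : IsPullback t.left s.left g g :=
    (IsPullback.of_hasPullback g g).of_iso (asIso φR).symm (Iso.refl _) (Iso.refl _) (Iso.refl _)
      (by simp [φR]) (by simp [φR]) (by simp) (by simp)
  -- descend to the image
  let Oimg : Y.Opens := ⟨Set.range g, g.isOpenMap.isOpen_range⟩
  let OO : Over S := Over.mk (Oimg.ι ≫ hY ≫ T.hom)
  let gO₀ : U.left ⟶ Oimg.toScheme := IsOpenImmersion.lift Oimg.ι g (by rw [Scheme.Opens.range_ι]; rfl)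
  have hgO : gO₀ ≫ Oimg.ι = g := IsOpenImmersion.lift_fac _ _ _
  let gO : U ⟶ OO := Over.homMk gO₀ (by
    change gO₀ ≫ Oimg.ι ≫ hY ≫ T.hom = U.hom
    rw [reassoc_of% hgO, reassoc_of% hgY, Over.w u])
  have hgOe : Etale gO.left := by
    have : Etale (gO₀ ≫ Oimg.ι) := by rw [hgO]; exact hge
    exact MorphismProperty.of_postcomp @Etale gO₀ Oimg.ι (inferInstance : Etale Oimg.ι) this
  have hgOs : Surjective gO.left := ⟨fun x => by
    obtain ⟨w, hw⟩ := x.2
    exact ⟨w, Subtype.ext ((congrArg (fun q : U.left ⟶ Y => q w) hgO).trans hw)⟩⟩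
  have hkp : IsPullback t.left s.left gO₀ gO₀ := by
    refine IsPullback.of_isLimit' ⟨(cancel_mono Oimg.ι).1 (by simp [hgO, hgt])⟩
      (PullbackCone.IsLimit.mk _ (fun c => hRg.lift c.fst c.snd (by
        rw [← hgO, ← Category.assoc, ← Category.assoc, c.condition]))
        (fun c => hRg.lift_fst _ _ _) (fun c => hRg.lift_snd _ _ _)
        (fun c q h1 h2 => hRg.hom_ext (by rw [h1, hRg.lift_fst]) (by rw [h2, hRg.lift_snd])))
  have hkpO : IsPullback ((yon S).map t) ((yon S).map s) ((yon S).map gO) ((yon S).map gO) :=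
    (IsPullback.of_map (Over.forget S) (Over.OverMorphism.ext hkp.w : t ≫ gO = s ≫ gO) hkp).map (yon S)
  have := locSurj_yon gO
  obtain ⟨c₁⟩ := isColimit_of_isPullback ((yon S).map gO) hkpO
  obtain ⟨c₂⟩ := isColimit_of_isPullback p sq
  exact ⟨OO, ⟨c₁.coconePointUniqueUpToIso c₂⟩⟩

theorem isSeparatedMor_comp_mono {F G H : Sp S} (f : F ⟶ G) (g : G ⟶ H) [Mono g] :
    IsSeparatedMor (f ≫ g) ↔ IsSeparatedMor f := by
  unfold IsSeparatedMor
  rw [pullback.diagonal_comp f g]
  exact MorphismProperty.cancel_right_of_respectsIso (RepWith @IsClosedImmersion) (pullback.diagonal f) _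

/-- A separated locally quasi-finite algebraic space over a scheme is a scheme. -/
theorem exists_iso_of_lqf_sep {F : Sp S} (hF : IsAlgSpace F) {T : Over S} (f : F ⟶ (yon S).obj T)
    (hqf : LocP (@LocallyQuasiFinite ⊓ @LocallyOfFiniteType) f) (hf : IsSeparatedMor f) :
    ∃ O : Over S, Nonempty ((yon S).obj O ≅ F) := by
  obtain ⟨U, p, hp, hps⟩ := hF.atlas
  obtain ⟨u, hu⟩ := (yon S).map_surjective (p ≫ f)
  have hloc : ∀ x : U.left, ∃ (Z : Over S) (j : (yon S).obj Z ⟶ F), RepWith @IsOpenImmersion j ∧
      Points.ofPt p x ∈ Set.range (Points.map j) := by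
    intro x
    obtain ⟨_, ⟨Ta, hTa, rfl⟩, hxT, -⟩ := T.left.isBasis_affineOpens.exists_subset_of_mem_open
      (Set.mem_univ (u.left x)) isOpen_univ
    obtain ⟨_, ⟨Ua, hUa, rfl⟩, hxU, hUT⟩ := U.left.isBasis_affineOpens.exists_subset_of_mem_open
      (show x ∈ u.left ⁻¹ᵁ Ta from hxT) (u.left ⁻¹ᵁ Ta).2
    let UO := Groth.Agent.AlgSp.openOver U Ua
    let TO := Groth.Agent.AlgSp.openOver T Ta
    let ιT : TO ⟶ T := Groth.Agent.AlgSp.openι T Ta
    let ιU : UO ⟶ U := Groth.Agent.AlgSp.openι U Ua
    have : IsAffine UO.left := hUa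
    have : IsAffine TO.left := hTa
    have hιT : RepWith @IsOpenImmersion ((yon S).map ιT) :=
      (repWith_yon_map_iff _ _).2 (inferInstanceAs (IsOpenImmersion (Scheme.Opens.ι Ta)))
    have : IsOpenImmersion ιU.left := inferInstanceAs (IsOpenImmersion (Scheme.Opens.ι Ua))
    let a := (yon S).map ιU ≫ p
    have ha : RepWith @Etale a := repWith_etale_map_comp ιU hp
    obtain ⟨X', j, hj, hjr⟩ := exists_openSubspace ⟨F, hF⟩ (W := Set.range (Points.ofPt a))
      (isOpenMap_ofPt ha).isOpen_range
    obtain ⟨a', ha'j, ha'e, ha's⟩ := exists_chart_into_subspace ha hj hjr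
    have := mono_of_isOpenImmersion hj
    have := mono_of_isOpenImmersion hιT
    obtain ⟨fW, hfW⟩ := (exists_factor_isOpenImmersion_iff hιT (j.hom ≫ f)).2 (by
      rintro _ ⟨z, rfl⟩
      obtain ⟨w, rfl⟩ := surjective_ofPt ha's z
      refine ⟨Points.ofPt (𝟙 ((yon S).obj TO)) (⟨u.left (ιU.left w), hUT w.2⟩ : TO.left), ?_⟩
      rw [Points.map_ofPt, Points.map_ofPt, Category.id_comp, reassoc_of% ha'j, Category.assoc, ← hu,
        ← Functor.map_comp, ← Category.comp_id ((yon S).map ιT), ← Category.comp_id ((yon S).map (ιU ≫ u)),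
        ofPt_map_comp, ofPt_map_comp]
      rfl)
    have hjs : IsSeparatedMor (j.hom ≫ f) := by
      have hjd : IsSeparatedMor j.hom := by
        have e : IsIso (pullback.diagonal j.hom) := inferInstance
        have hid : RepWith @IsClosedImmersion (𝟙 X'.obj) := by
          refine ⟨fun Z g => ⟨Z, 𝟙 Z, g, by simpa using (IsPullback.of_vert_isIso ⟨by simp⟩ : IsPullback g (𝟙 ((yon S).obj Z)) (𝟙 _) g)⟩, ?_⟩
          intro Z Z' g fst snd sqi
          have : IsIso ((yon S).map snd) := sqi.isIso_snd_of_isIso
          have : IsIso snd := isIso_of_reflects_iso snd (yon S)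
          exact (inferInstance : IsClosedImmersion ((Over.forget S).map snd))
        rw [IsSeparatedMor, ← Category.id_comp (pullback.diagonal j.hom)]
        exact (MorphismProperty.cancel_right_of_respectsIso (RepWith @IsClosedImmersion) _ _).2 hid
      exact MorphismProperty.comp_mem (RepWith @IsClosedImmersion : MorphismProperty (Sp S)).diagonal
        j.hom f hjd hf
    have hqW : LocP (@LocallyQuasiFinite ⊓ @LocallyOfFiniteType) fW := by
      intro A B α β h hα hβ w
      refine hqf (α ≫ j.hom) (β ≫ (yon S).map ιT) h ?_ ?_ ?_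
      · exact (RepWith @Etale : MorphismProperty (Sp S)).comp_mem α j.hom hα
          (Groth.Agent.AlgSp.repWith_mono (fun g hg => (have : IsOpenImmersion g := hg; inferInstance : Etale g)) hj)
      · exact (RepWith @Etale : MorphismProperty (Sp S)).comp_mem β _ hβ
          (Groth.Agent.AlgSp.repWith_mono (fun g hg => (have : IsOpenImmersion g := hg; inferInstance : Etale g)) hιT)
      · rw [Category.assoc, ← hfW, reassoc_of% w]
    obtain ⟨O, ⟨e⟩⟩ := exists_iso_of_lqf_sep_affine X'.property a' ha'e ha's fW hqW
      ((isSeparatedMor_comp_mono fW ((yon S).map ιT)).1 (hfW ▸ hjs))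
    refine ⟨O, e.hom ≫ j.hom, (MorphismProperty.cancel_left_of_respectsIso _ _ _).2 hj, ?_⟩
    refine ⟨Points.map e.inv (Points.ofPt a' (⟨x, hxU⟩ : UO.left)), ?_⟩
    rw [← Points.map_comp, e.inv_hom_id_assoc, Points.map_ofPt, ha'j, ofPt_map_comp]
    rfl
  choose Z j hj hmem using hloc
  exact exists_iso_yon_of_openCover hF Z j hj fun x => by
    obtain ⟨w, rfl⟩ := surjective_ofPt hps x
    exact ⟨w, hmem w⟩

end Groth.Agent.AlgSpB

namespace Groth.Agent.AlgSpB

open _root_.AlgSp

variable {S : Scheme.{u}}

/-- Separated locally quasi-finite morphisms of algebraic spaces are representable by schemes. -/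
theorem representable_of_lqf_sep {F G : Sp S} (hF : IsAlgSpace F) (hG : IsAlgSpace G) (f : F ⟶ G)
    (hqf : LocP (@LocallyQuasiFinite ⊓ @LocallyOfFiniteType) f) (hf : IsSeparatedMor f) :
    Representable f := fun T g => by
  have hP : IsAlgSpace (pullback f g) := Groth.Agent.AlgSp.isAlgSpace_pullback hG hF (IsAlgSpace.yon_obj T) f g
  obtain ⟨O, ⟨e⟩⟩ := exists_iso_of_lqf_sep hP (pullback.snd f g)
    (AlgSpCov.locP_baseChange (AlgSpCov.etaleLocal_locallyQuasiFinite.inf AlgSpCov.etaleLocal_locallyOfFiniteType)
      hF hG (IsPullback.of_hasPullback f g) hqf)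
    (MorphismProperty.of_isPullback (P := (RepWith @IsClosedImmersion : MorphismProperty (Sp S)).diagonal)
      (IsPullback.of_hasPullback f g) hf)
  obtain ⟨h, hh⟩ := (yon S).map_surjective (e.hom ≫ pullback.snd f g)
  exact ⟨O, h, e.hom ≫ pullback.fst f g, (IsPullback.of_hasPullback f g).of_iso e.symm (Iso.refl _) (Iso.refl _)
    (Iso.refl _) (by simp) (by simp [hh]) (by simp) (by simp)⟩

end Groth.Agent.AlgSpB
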