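import Groth.Agent.AlgSpB.Open
import Groth.Agent.AlgSp.Space
import Mathlib.AlgebraicGeometry.AlgClosed.Basic
import Mathlib.AlgebraicGeometry.Morphisms.FlatMono

/-!
# Field valued points: sections of etale maps and of monomorphisms
-/

universe u

open CategoryTheory CategoryTheory.Limits AlgebraicGeometry Opposite Topology TopologicalSpace

set_option backward.isDefEq.respectTransparency false
set_option autoImplicit false

namespace Groth.Agent.AlgSpB

open _root_.AlgSp

variable {S : Scheme.{u}}

/-- A factorisation through a monomorphism descends along a locally surjective map. -/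
theorem exists_factor_of_locallySurjective {U Z F G : Sp S} (j : F ⟶ G) [Mono j] (q : U ⟶ Z)
    [Sheaf.IsLocallySurjective q] (g : Z ⟶ G) (l : U ⟶ F) (h : l ≫ j = q ≫ g) :
    ∃ l' : Z ⟶ F, l' ≫ j = g := by
  have e : pullback.lift l q h ≫ pullback.snd j g = q := pullback.lift_snd _ _ _
  have : Sheaf.IsLocallySurjective (pullback.snd j g) :=
    Presheaf.isLocallySurjective_of_isLocallySurjective_fac (J S)
      (f₁ := (pullback.lift l q h).hom) (congrArg (fun k => k.hom) e)
  have : Epi (pullback.snd j g) := (Sheaf.isLocallySurjective_iff_epi _).1 this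
  have : IsIso (pullback.snd j g) := isIso_of_mono_of_epi _
  exact ⟨inv (pullback.snd j g) ≫ pullback.fst j g, by
    rw [Category.assoc, pullback.condition, IsIso.inv_hom_id_assoc]⟩

variable {K : Type u} [Field K]

theorem isClosed_singleton_of_etale {W : Scheme.{u}} (f : W ⟶ Spec (.of K)) [Etale f] (w : ↥W) :
    IsClosed ({w} : Set ↥W) := by
  have := locallyQuasiFinite_of_etale f
  have h := f.isDiscrete_preimage_singleton (f w)
  have e : f ⁻¹' {f w} = Set.univ :=
    Set.eq_univ_of_forall fun w' => Subsingleton.elim (f w') (f w)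
  rw [e, isDiscrete_univ_iff] at h
  exact isClosed_discrete _

/-- An etale scheme over an algebraically closed field has a rational point at each point. -/
theorem exists_section_of_etale [IsAlgClosed K] {W : Scheme.{u}} (f : W ⟶ Spec (.of K)) [Etale f]
    (w : ↥W) : ∃ s : Spec (.of K) ⟶ W, s ≫ f = 𝟙 _ ∧ ∀ a, s a = w :=
  ⟨pointOfClosedPoint f w (isClosed_singleton_of_etale f w), pointOfClosedPoint_comp _ _ _,
    fun a => pointOfClosedPoint_apply _ _ _ a⟩

theorem flat_of_field {V : Scheme.{u}} [IsAffine V] (f : V ⟶ Spec (.of K)) : Flat f := by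
  obtain ⟨φ, hφ⟩ := Spec.map_surjective (V.isoSpec.inv ≫ f)
  rw [← MorphismProperty.cancel_left_of_respectsIso @Flat V.isoSpec.inv, ← hφ,
    HasRingHomProperty.Spec_iff (P := @Flat)]
  algebraize [φ.hom]
  change Module.Flat K Γ(V, ⊤)
  infer_instance

/-- A nonempty subobject of the spectrum of a field is the whole spectrum. -/
theorem exists_section_of_mono {W : Scheme.{u}} [Nonempty ↥W] (f : W ⟶ Spec (.of K)) [Mono f] :
    ∃ s : Spec (.of K) ⟶ W, s ≫ f = 𝟙 _ := by
  obtain ⟨w⟩ := ‹Nonempty ↥W›
  obtain ⟨V, hV, hw, -⟩ := exists_isAffineOpen_mem_and_subset (x := w) (U := ⊤) trivial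
  have : IsAffine (V : Scheme.{u}) := hV
  have := flat_of_field (V.ι ≫ f)
  have : Surjective (V.ι ≫ f) := ⟨fun y => ⟨⟨w, hw⟩, Subsingleton.elim _ _⟩⟩
  have : QuasiCompact (V.ι ≫ f) := quasiCompact_of_compactSpace _
  have : IsIso (V.ι ≫ f) := Flat.isIso_of_surjective_of_mono _
  exact ⟨inv (V.ι ≫ f) ≫ V.ι, by simp⟩

/-- Lifting a geometric point along a chart through a prescribed point. -/
theorem exists_lift_geometric {F : Sp S} {U : Over S} {a : (yon S).obj U ⟶ F}
    (ha : RepWith @Etale a) (x : FieldPt F) (hx : x.IsGeometric) (t : ↥U.left)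
    (ht : Points.ofPt a t = Points.mk x) :
    ∃ c : x.pt ⟶ U, (yon S).map c ≫ a = x.toHom ∧ c.left (IsLocalRing.closedPoint x.K) = t := by
  have : IsAlgClosed x.K := hx
  obtain ⟨W, fst, snd, sq⟩ := exists_pullback_yon ha.1 x.toHom
  have he : Etale snd.left := ha.2 _ _ _ sq
  obtain ⟨w, hw1, -⟩ := (ofPt_eq_ofPt_iff sq t (IsLocalRing.closedPoint x.K)).1
    (ht.trans (Points.ofPt_toHom x _).symm)
  obtain ⟨s, hs, hsw⟩ := exists_section_of_etale (K := x.K) snd.left w
  let c' : x.pt ⟶ W := Over.homMk s (by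
    rw [← Over.w snd, ← Category.assoc, hs]; exact Category.id_comp _)
  have hc : c' ≫ snd = 𝟙 _ := Over.OverMorphism.ext hs
  refine ⟨c' ≫ fst, ?_, ?_⟩
  · rw [Functor.map_comp, Category.assoc, sq.w, ← Category.assoc, ← Functor.map_comp, hc,
      CategoryTheory.Functor.map_id, Category.id_comp]
  · rw [← hw1, ← hsw (IsLocalRing.closedPoint x.K)]
    rfl

end Groth.Agent.AlgSpB
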