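import Groth.Prelude.Def_AlgSp3
import Groth.Prelude.Def_AlgSp4
import Groth.Agent.AlgSp.PointsMor
import Groth.Agent.AlgSpCov.Listed
import Groth.Agent.AlgSpCov.FpqcTop
import Mathlib.AlgebraicGeometry.Morphisms.FormallyUnramified

/-!
Morphisms to the spectrum of a field and base change/composition of a few properties.
-/

set_option backward.isDefEq.respectTransparency false
set_option backward.isDefEq.respectTransparency.types false

universe u

open CategoryTheory CategoryTheory.Limits AlgebraicGeometry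

namespace Groth.Agent.AlgSpB

open _root_.AlgSp

variable {S : Scheme.{u}}

theorem flat_to_field {X : Scheme.{u}} {k : Type u} [Field k] (f : X ⟶ Spec (CommRingCat.of k)) :
    Flat f := by
  infer_instance

theorem flat_of_comp_unramified {X Y Z : Scheme.{u}} (f : X ⟶ Y) (g : Y ⟶ Z) [FormallyUnramified g]
    [LocallyOfFiniteType g] [Flat (f ≫ g)] : Flat f := by
  have h1 : Flat (pullback.lift (𝟙 X) f (by simp) : X ⟶ pullback (f ≫ g) g) :=
    MorphismProperty.of_isPullback (P := @Flat) (pullback_lift_diagonal_isPullback f g)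
      (inferInstance : Flat (pullback.diagonal g))
  have e : f = pullback.lift (𝟙 X) f (by simp) ≫ pullback.snd (f ≫ g) g := by rw [pullback.lift_snd]
  rw [e]
  infer_instance

theorem locP_flat_to_field {X Y : Sp S} {k : Type u} [Field k] {σ : Spec (CommRingCat.of k) ⟶ S}
    (e : Y ≅ (yon S).obj (Over.mk σ)) (f : X ⟶ Y) : LocP @Flat f := by
  intro U V a b h _ hb _
  obtain ⟨ψ, hψ⟩ := (yon S).map_surjective (b ≫ e.hom)
  have : Etale ψ.left := (repWith_yon_map_iff _ _).1 (hψ ▸
    (MorphismProperty.cancel_right_of_respectsIso (RepWith @Etale) _ _).2 hb)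
  have : Flat (h.left ≫ ψ.left) := flat_to_field _
  exact flat_of_comp_unramified h.left ψ.left

theorem isUnivOpenMor_to_field {X Y : Sp S} (hX : IsAlgSpace X) {k : Type u} [Field k]
    {σ : Spec (CommRingCat.of k) ⟶ S} (e : Y ≅ (yon S).obj (Over.mk σ)) (f : X ⟶ Y) :
    IsUnivOpenMor f := by
  intro Z Z' hZ g fst snd sq
  refine Groth.Agent.AlgSp.isUnivOpenMor_to_field hX σ (f ≫ e.hom) hZ (g ≫ e.hom) fst snd ?_
  exact IsPullback.of_iso sq (Iso.refl _) (Iso.refl _) (Iso.refl _) e (by simp) (by simp) (by simp) (by simp)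

theorem isSurjectiveMor_of_section {X Y : Sp S} (f : X ⟶ Y) (e : Y ⟶ X) (h : e ≫ f = 𝟙 Y) :
    IsSurjectiveMor f :=
  fun y => ⟨Points.map e y, by rw [← Points.map_comp, h, Points.map_id]⟩

theorem univOpen_comp {F G H : Sp S} {f : F ⟶ G} {g : G ⟶ H} (hG : IsAlgSpace G) (hH : IsAlgSpace H)
    (hf : IsUnivOpenMor f) (hg : IsUnivOpenMor g) : IsUnivOpenMor (f ≫ g) := by
  intro Z Z' hZ z fst snd sq
  have sqg := IsPullback.of_hasPullback g z
  let l : Z' ⟶ pullback g z := pullback.lift (fst ≫ f) snd (by rw [Category.assoc, sq.w])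
  have hl : l ≫ pullback.snd g z = snd := pullback.lift_snd _ _ _
  have sqf : IsPullback fst l f (pullback.fst g z) :=
    IsPullback.of_bot (by rw [hl]; exact sq) (pullback.lift_fst _ _ _).symm sqg
  have e : Points.map snd = Points.map (pullback.snd g z) ∘ Points.map l := by
    funext x; rw [Function.comp_apply, ← Points.map_comp, hl]
  change IsOpenMap (Points.map snd)
  rw [e]
  exact (hg hZ z _ _ sqg).comp
    (hf (Groth.Agent.AlgSp.isAlgSpace_pullback hH hG hZ g z) _ _ _ sqf)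

theorem isAffineMor_comp {F G H : Sp S} {f : F ⟶ G} {g : G ⟶ H} (hf : IsAffineMor f)
    (hg : IsAffineMor g) : IsAffineMor (f ≫ g) := by
  intro Z hZ z
  obtain ⟨W, i, fst, sq, hW⟩ := hg hZ z
  obtain ⟨W', i', fst', sq', hW'⟩ := hf hW fst
  exact ⟨W', i' ≫ i, fst', by rw [Functor.map_comp]; exact sq'.paste_vert sq, hW'⟩

theorem isAffineMor_baseChange {F G F' G' : Sp S} {f : F ⟶ G} {g : G' ⟶ G} {g' : F' ⟶ F}
    {f' : F' ⟶ G'} (sq : IsPullback g' f' f g) (hf : IsAffineMor f) : IsAffineMor f' := by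
  intro Z hZ z
  obtain ⟨W, i, fst, sqW, hW⟩ := hf hZ (z ≫ g)
  obtain ⟨l, hl1, hl2⟩ := sq.exists_lift fst ((yon S).map i ≫ z) (by rw [sqW.w, Category.assoc])
  exact ⟨W, i, l, IsPullback.of_right (hl1.symm ▸ sqW) hl2 sq, hW⟩

theorem isAffineMor_of_affine {X Y : Sp S} {A A' : Over S} [IsAffine A.left] [IsAffine A'.left]
    (e : X ≅ (yon S).obj A) (e' : Y ≅ (yon S).obj A') (f : X ⟶ Y) : IsAffineMor f := by
  intro Z hZ z
  obtain ⟨ψ, hψ⟩ := (yon S).map_surjective (e.inv ≫ f ≫ e'.hom)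
  obtain ⟨γ, hγ⟩ := (yon S).map_surjective (z ≫ e'.hom)
  have sq := IsPullback.of_hasPullback ψ γ
  have h1 : IsAffineHom ψ.left := isAffineHom_of_isAffine _
  have sq' : IsPullback (pullback.fst ψ γ).left (pullback.snd ψ γ).left ψ.left γ.left :=
    sq.map (Over.forget S)
  have : IsAffineHom (pullback.snd ψ γ).left := MorphismProperty.of_isPullback sq' h1
  refine ⟨pullback ψ γ, pullback.snd ψ γ, (yon S).map (pullback.fst ψ γ) ≫ e.inv, ?_,
    isAffine_of_isAffineHom (pullback.snd ψ γ).left⟩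
  exact IsPullback.of_iso (sq.map (yon S)) (Iso.refl _) e.symm (Iso.refl _) e'.symm (by simp) (by simp)
    (by simp [hψ]) (by simp [hγ])

end Groth.Agent.AlgSpB
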