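import Groth.Agent.RedSub.Basic
import Groth.Agent.S7179
import Groth.Agent.AlgSp.AffineMor
import Groth.Agent.AlgSp.DescentSepLqf
import Groth.Agent.AlgSpB.FieldPoints
import Groth.Prelude.Def_AlgSpSub

/-!
# Reduced induced closed subspaces
-/

universe u

open CategoryTheory CategoryTheory.Limits AlgebraicGeometry Opposite Topology TopologicalSpace

set_option backward.isDefEq.respectTransparency false
set_option backward.isDefEq.respectTransparency.types false
set_option autoImplicit false

namespace Groth.Agent.AlgSpB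

open _root_.AlgSp
open Groth.Agent.AlgSp (yEquiv yEquiv_comp yEquiv_map exists_cover_lift mem_of_cover
  isAlgSpace_of_kernelPair repWith_isClosedImmersion_of_baseChange)

variable {S : Scheme.{u}}

theorem isReduced_of_etale {X Y : Scheme.{u}} (f : X ⟶ Y) [Etale f] [IsReduced Y] : IsReduced X := by
  have : WeaklyEtale f := inferInstance
  exact Groth.Agent.S7179.result f

theorem locSurj_of_lifts {F G : Sp S} (c : F ⟶ G)
    (h : ∀ (T : Over S) (g : (yon S).obj T ⟶ G), ∃ R ∈ Scheme.fppfPrecoverage T.left,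
      ∀ ⦃W : Scheme.{u}⦄ (k : W ⟶ T.left), R k → ∃ y : (yon S).obj (Over.mk (k ≫ T.hom)) ⟶ F,
        y ≫ c = (yon S).map (Over.homMk k rfl : Over.mk (k ≫ T.hom) ⟶ T) ≫ g) :
    Sheaf.IsLocallySurjective c := by
  refine ⟨fun {T} s => ?_⟩
  obtain ⟨R, hR, hk⟩ := h T (yEquiv.symm s)
  refine mem_of_cover hR fun W k hWk => ?_
  obtain ⟨y, hy⟩ := hk k hWk
  refine ⟨yEquiv y, ?_⟩
  change c.hom.app _ (yEquiv y) = G.obj.map (Over.homMk k rfl : Over.mk (k ≫ T.hom) ⟶ T).op s
  rw [← yEquiv_comp, hy, yEquiv_map, Equiv.apply_symm_apply]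

theorem isIso_of_mono_of_locSurj {F G : Sp S} (c : F ⟶ G) [Mono c] [Sheaf.IsLocallySurjective c] :
    IsIso c := by
  have : Epi c := (Sheaf.isLocallySurjective_iff_epi _).1 inferInstance
  exact isIso_of_mono_of_epi _

theorem exists_redInduced {F : Sp S} (hF : IsAlgSpace F) (T : Set (Points F)) (hT : IsClosed T) :
    ∃ (Z : Sp S) (i : Z ⟶ F), IsAlgSpace Z ∧ IsRedInduced T i := by
  obtain ⟨U, p, hp, hps⟩ := hF.atlas
  have hls := Groth.Agent.AlgSp.isLocallySurjective_of_etale_surjective p hp hps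
  obtain ⟨R, t, s, sq⟩ := exists_pullback_yon hp.1 p
  have het : Etale t.left := hp.2 _ _ _ sq.flip
  have hes : Etale s.left := hp.2 _ _ _ sq
  let C : Closeds U.left := ⟨Points.ofPt p ⁻¹' T, hT.preimage (Points.continuous_ofPt p)⟩
  let I := Scheme.IdealSheafData.vanishingIdeal C
  let ZU : Over S := Over.mk (I.subschemeι ≫ U.hom)
  let ι : ZU ⟶ U := Over.homMk I.subschemeι
  have hZred : IsReduced ZU.left := inferInstanceAs (IsReduced I.subscheme)
  have hι : IsClosedImmersion ι.left := inferInstanceAs (IsClosedImmersion I.subschemeι)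
  have hιr : Set.range ι.left = (C : Set U.left) := Groth.Agent.RedSub.range_vanishingIdeal_subschemeι C
  have : Mono ι := Over.mono_of_mono_left ι
  -- the two inverse images of `ZU` in `R` agree
  have : IsReduced (pullback t.left ι.left) := isReduced_of_etale (pullback.snd t.left ι.left)
  have : IsReduced (pullback s.left ι.left) := isReduced_of_etale (pullback.snd s.left ι.left)
  have hts : ∀ r : R.left, Points.ofPt p (t.left r) = Points.ofPt p (s.left r) := fun r => by
    rw [← ofPt_map_comp, sq.w, ofPt_map_comp]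
  obtain ⟨e, he⟩ := Groth.Agent.RedSub.exists_iso (pullback.fst t.left ι.left) (pullback.fst s.left ι.left) (by
    rw [Scheme.Pullback.range_fst, Scheme.Pullback.range_fst, hιr]
    ext r
    change Points.ofPt p (t.left r) ∈ T ↔ Points.ofPt p (s.left r) ∈ T
    rw [hts])
  let RZ : Over S := Over.mk (pullback.fst t.left ι.left ≫ R.hom)
  let r : RZ ⟶ R := Over.homMk (pullback.fst t.left ι.left)
  let a : RZ ⟶ ZU := Over.homMk (pullback.snd t.left ι.left) (by
    change pullback.snd t.left ι.left ≫ ι.left ≫ U.hom = pullback.fst t.left ι.left ≫ R.hom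
    rw [← pullback.condition_assoc, Over.w t])
  let b : RZ ⟶ ZU := Over.homMk (e.hom ≫ pullback.snd s.left ι.left) (by
    change (e.hom ≫ pullback.snd s.left ι.left) ≫ ι.left ≫ U.hom = pullback.fst t.left ι.left ≫ R.hom
    rw [Category.assoc, ← pullback.condition_assoc, Over.w s, reassoc_of% he])
  have hsqa : IsPullback r a t ι :=
    IsPullback.of_map (Over.forget S) (Over.OverMorphism.ext pullback.condition)
      (IsPullback.of_hasPullback t.left ι.left)
  have hrb : r ≫ s = b ≫ ι := Over.OverMorphism.ext (by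
    change pullback.fst t.left ι.left ≫ s.left = (e.hom ≫ pullback.snd s.left ι.left) ≫ ι.left
    rw [Category.assoc, ← pullback.condition, reassoc_of% he])
  have hb : Etale b.left := inferInstanceAs (Etale (e.hom ≫ pullback.snd s.left ι.left))
  -- the image sheaf
  let q : (yon S).obj ZU ⟶ F := (yon S).map ι ≫ p
  let eZ := Sheaf.toImage q
  let i := Sheaf.imageι q
  have hfac : eZ ≫ i = q := Sheaf.toImage_ι q
  have : Sheaf.IsLocallySurjective eZ := (Sheaf.isLocallySurjective_iff_epi _).2 inferInstance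
  have : Mono ((yon S).map ι) := inferInstance
  have hw : (yon S).map a ≫ q = (yon S).map b ≫ q := by
    simp only [q, ← Category.assoc, ← Functor.map_comp, ← hsqa.w, ← hrb]
    rw [Functor.map_comp, Functor.map_comp, Category.assoc, Category.assoc, sq.w]
  have hwZ : (yon S).map a ≫ eZ = (yon S).map b ≫ eZ := by
    rw [← cancel_mono i, Category.assoc, Category.assoc, hfac]; exact hw
  have key : ∀ {Q : Sp S} (x : Q ⟶ (yon S).obj ZU) (l : Q ⟶ (yon S).obj R),
      l ≫ (yon S).map t = x ≫ (yon S).map ι → ∃ m : Q ⟶ (yon S).obj RZ,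
        m ≫ (yon S).map a = x ∧ m ≫ (yon S).map b ≫ (yon S).map ι = l ≫ (yon S).map s := by
    intro Q x l hl
    refine ⟨(hsqa.map (yon S)).lift l x hl, IsPullback.lift_snd _ _ _ _, ?_⟩
    rw [← Functor.map_comp, ← hrb, Functor.map_comp, IsPullback.lift_fst_assoc]
  have hkp : IsPullback ((yon S).map a) ((yon S).map b) eZ eZ := by
    have hex : ∀ c : PullbackCone eZ eZ, ∃ m : c.pt ⟶ (yon S).obj RZ,
        m ≫ (yon S).map a = c.fst ∧ m ≫ (yon S).map b = c.snd := by
      intro c
      have hc : (c.fst ≫ (yon S).map ι) ≫ p = (c.snd ≫ (yon S).map ι) ≫ p := by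
        have := congrArg (fun k => k ≫ i) c.condition
        simpa only [Category.assoc, hfac, q] using this
      obtain ⟨m, h1, h2⟩ := key c.fst (sq.lift _ _ hc) (sq.lift_fst _ _ hc)
      refine ⟨m, h1, (cancel_mono ((yon S).map ι)).1 ?_⟩
      rw [Category.assoc, h2, sq.lift_snd]
    choose m hm using hex
    refine IsPullback.of_isLimit' ⟨hwZ⟩ (PullbackCone.IsLimit.mk _ m (fun c => (hm c).1) (fun c => (hm c).2)
      fun c m' h1 h2 => ?_)
    apply (hsqa.map (yon S)).hom_ext
    · apply sq.hom_ext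
      · rw [Category.assoc, Category.assoc, ← (yon S).map_comp r t, hsqa.w, Functor.map_comp,
          reassoc_of% h1, reassoc_of% (hm c).1]
      · rw [Category.assoc, Category.assoc, ← (yon S).map_comp r s, hrb, Functor.map_comp,
          reassoc_of% h2, reassoc_of% (hm c).2]
    · rw [h1, (hm c).1]
  obtain ⟨hZ, hZe, hZs⟩ := isAlgSpace_of_kernelPair eZ hkp hb
  -- the pullback along the atlas
  let c := pullback.lift (f := i) (g := p) eZ ((yon S).map ι) hfac
  have : Mono (c ≫ pullback.snd i p) := by rw [pullback.lift_snd]; infer_instance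
  have : Mono c := mono_of_mono c (pullback.snd i p)
  have : Sheaf.IsLocallySurjective c := locSurj_of_lifts c fun T g => by
    obtain ⟨Cov, hCov, hk⟩ := exists_cover_lift eZ (g ≫ pullback.fst i p)
    refine ⟨Cov, hCov, fun W k hWk => ?_⟩
    obtain ⟨x, hx⟩ := hk k hWk
    let y := (yon S).map (Over.homMk k rfl : Over.mk (k ≫ T.hom) ⟶ T) ≫ g ≫ pullback.snd i p
    have hxy : (x ≫ (yon S).map ι) ≫ p = y ≫ p := by
      rw [Category.assoc, show (yon S).map ι ≫ p = eZ ≫ i from hfac.symm, reassoc_of% hx]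
      simp only [y, Category.assoc, pullback.condition]
    obtain ⟨m, -, h2⟩ := key x (sq.lift _ _ hxy) (sq.lift_fst _ _ hxy)
    rw [sq.lift_snd] at h2
    refine ⟨m ≫ (yon S).map b, pullback.hom_ext ?_ ?_⟩
    · rw [← cancel_mono i]
      simp only [Category.assoc, c, pullback.lift_fst, pullback.condition, hfac, q]
      rw [reassoc_of% h2]
      simp only [y, Category.assoc]
    · simp only [Category.assoc, c, pullback.lift_snd]
      exact h2
  have : IsIso c := isIso_of_mono_of_locSurj c
  have sqc : IsPullback eZ ((yon S).map ι) i p :=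
    IsPullback.of_iso_pullback ⟨hfac⟩ (asIso c) (pullback.lift_fst _ _ _) (pullback.lift_snd _ _ _)
  have hi : RepWith @IsClosedImmersion i :=
    repWith_isClosedImmersion_of_baseChange i p sqc ((repWith_yon_map_iff _ _).2 hι)
  refine ⟨_, i, hZ, hi, ?_, ⟨ZU, eZ, hZe, hZs, hZred⟩⟩
  have hmap : ∀ w : ZU.left, Points.map i (Points.ofPt eZ w) = Points.ofPt p (ι.left w) := fun w => by
    rw [Points.map_ofPt, hfac, ofPt_map_comp]
  refine Set.Subset.antisymm ?_ ?_
  · rintro _ ⟨z, rfl⟩
    obtain ⟨w, rfl⟩ := surjective_ofPt hZs z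
    rw [hmap]
    exact (hιr.le ⟨w, rfl⟩ : _)
  · intro x hx
    obtain ⟨u, rfl⟩ := surjective_ofPt hps x
    obtain ⟨w, rfl⟩ := hιr.ge (show u ∈ (C : Set U.left) from hx)
    exact ⟨_, hmap w⟩

end Groth.Agent.AlgSpB
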