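import Groth.Agent.AlgSp.Basic
import Groth.Prelude.Def_AlgSpGpd
import Mathlib.CategoryTheory.Sites.LeftExact
import Mathlib.CategoryTheory.Sites.RegularEpi

/-!
# Quotient sheaves of pre-equivalence relations of sheaves
-/

universe u

open CategoryTheory CategoryTheory.Limits AlgebraicGeometry Opposite

set_option backward.isDefEq.respectTransparency false
set_option autoImplicit false

namespace Groth.Agent.AlgSpB

open _root_.AlgSp
open Groth.Agent.AlgSp (yEquiv yEquiv_comp yEquiv_map hom_ext_yon mono_of_yon)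

variable {S : Scheme.{u}} {R U : Sp S}

/-- Two sections which agree on a covering sieve are equal. -/
theorem yon_hom_ext_of_mem {F : Sp S} {T : Over S} {Sv : Sieve T} (hSv : Sv ∈ J S T)
    (x y : (yon S).obj T ⟶ F)
    (h : ∀ ⦃T' : Over S⦄ (f : T' ⟶ T), Sv f → (yon S).map f ≫ x = (yon S).map f ≫ y) : x = y := by
  apply yEquiv.injective
  refine (((isSheaf_iff_isSheaf_of_type _ _).1 F.property).isSeparated Sv hSv).ext fun T' f hf => ?_
  have := congrArg yEquiv (h f hf)
  rwa [yEquiv_map, yEquiv_map] at this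

/-- The sieve of maps along which `x` lifts through `p`. -/
theorem exists_sieve_lift {F G : Sp S} (p : F ⟶ G) [Epi p] {T : Over S} (x : (yon S).obj T ⟶ G) :
    ∃ Sv ∈ J S T, ∀ ⦃T' : Over S⦄ (f : T' ⟶ T), Sv f →
      ∃ a : (yon S).obj T' ⟶ F, a ≫ p = (yon S).map f ≫ x := by
  have : Sheaf.IsLocallySurjective p := (Sheaf.isLocallySurjective_iff_epi _).2 inferInstance
  refine ⟨Presheaf.imageSieve p.hom (yEquiv x), Presheaf.IsLocallySurjective.imageSieve_mem _, ?_⟩
  rintro T' f ⟨a, ha⟩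
  refine ⟨yEquiv.symm a, yEquiv.injective ?_⟩
  rw [yEquiv_comp, Equiv.apply_symm_apply, yEquiv_map]
  exact ha

/-- The relation on sections over `T`. -/
def sectRel (s t : R ⟶ U) (T : (Over S)ᵒᵖ) (a b : U.obj.obj T) : Prop :=
  ∃ r : R.obj.obj T, t.hom.app T r = a ∧ s.hom.app T r = b

/-- The presheaf quotient. -/
def quotPre (s t : R ⟶ U) : (Over S)ᵒᵖ ⥤ Type (u + 1) where
  obj T := Quot (sectRel s t T)
  map {T T'} f := ↾(Quot.map (U.obj.map f) (fun _ _ h => by
    obtain ⟨r, rfl, rfl⟩ := h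
    exact ⟨R.obj.map f r, NatTrans.naturality_apply _ _ _, NatTrans.naturality_apply _ _ _⟩))
  map_id T := by
    ext x
    induction x using Quot.ind
    change Quot.mk _ (U.obj.map _ _) = Quot.mk _ _
    simp
  map_comp f g := by
    ext x
    induction x using Quot.ind
    change Quot.mk _ (U.obj.map _ _) = Quot.mk _ _
    simp

/-- The projection to the presheaf quotient. -/
def quotPreπ (s t : R ⟶ U) : U.obj ⟶ quotPre s t where
  app T := ↾(Quot.mk (sectRel s t T))
  naturality _ _ _ := rfl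

theorem exists_sieve_rel {s t : R ⟶ U} (h : IsPreEqvRelSp s t) {T : Over S}
    (a b : (yon S).obj T ⟶ U) (e : a ≫ quotSpπ s t = b ≫ quotSpπ s t) :
    ∃ Sv ∈ J S T, ∀ ⦃T' : Over S⦄ (f : T' ⟶ T), Sv f →
      ∃ r : (yon S).obj T' ⟶ R, r ≫ t = (yon S).map f ≫ a ∧ r ≫ s = (yon S).map f ≫ b := by
  let Q : Sp S := (presheafToSheaf (J S) (Type (u + 1))).obj (quotPre s t)
  let η : quotPre s t ⟶ Q.obj := toSheafify (J S) (quotPre s t)
  let q : U ⟶ Q := ObjectProperty.homMk (quotPreπ s t ≫ η)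
  have hq : s ≫ q = t ≫ q := by
    ext T r
    exact congrArg (η.app T) (Quot.sound ⟨r, rfl, rfl⟩).symm
  have e2 : a ≫ q = b ≫ q := by
    rw [← quotSpπ_desc s t q hq, ← Category.assoc, e, Category.assoc]
  have e3 := congrArg yEquiv e2
  rw [yEquiv_comp, yEquiv_comp] at e3
  refine ⟨Presheaf.equalizerSieve (F := quotPre s t) (Quot.mk _ (yEquiv a)) (Quot.mk _ (yEquiv b)),
    Presheaf.equalizerSieve_mem (J S) η _ _ e3, ?_⟩
  intro T' f hf
  have heq : Equivalence (sectRel s t (op T')) := by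
    have key : ∀ x y : U.obj.obj (op T'), sectRel s t (op T') x y ↔
        ∃ r : (yon S).obj T' ⟶ R, r ≫ t = yEquiv.symm x ∧ r ≫ s = yEquiv.symm y := by
      intro x y
      constructor
      · rintro ⟨r, h1, h2⟩
        exact ⟨yEquiv.symm r, yEquiv.injective (by simp [yEquiv_comp, h1]),
          yEquiv.injective (by simp [yEquiv_comp, h2])⟩
      · rintro ⟨r, h1, h2⟩
        exact ⟨yEquiv r, by rw [← yEquiv_comp, h1, Equiv.apply_symm_apply],
          by rw [← yEquiv_comp, h2, Equiv.apply_symm_apply]⟩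
    exact ⟨fun x => (key x x).2 ((h T').refl _), fun hxy => (key _ _).2 ((h T').symm ((key _ _).1 hxy)),
      fun hxy hyz => (key _ _).2 ((h T').trans ((key _ _).1 hxy) ((key _ _).1 hyz))⟩
  have h4 : Quot.mk (sectRel s t (op T')) (U.obj.map f.op (yEquiv a)) =
      Quot.mk _ (U.obj.map f.op (yEquiv b)) := hf
  obtain ⟨r, h1, h2⟩ := heq.eqvGen_iff.1 (Quot.eqvGen_exact h4)
  exact ⟨yEquiv.symm r, yEquiv.injective (by rw [yEquiv_map, yEquiv_comp, Equiv.apply_symm_apply, h1]),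
    yEquiv.injective (by rw [yEquiv_map, yEquiv_comp, Equiv.apply_symm_apply, h2])⟩

theorem epi_quotSpπ (s t : R ⟶ U) : Epi (quotSpπ s t) :=
  inferInstanceAs (Epi (coequalizer.π s t))

/-- A map out of a quotient is injective when relations downstairs lift. -/
theorem mono_of_rel_lift {R' U' Q : Sp S} {s t : R ⟶ U} {s' t' : R' ⟶ U'} (h : IsPreEqvRelSp s t)
    (ι : quotSp s t ⟶ Q) [Mono ι] (g : U' ⟶ U)
    (ψ : quotSp s' t' ⟶ Q) (hψ : quotSpπ s' t' ≫ ψ = g ≫ quotSpπ s t ≫ ι)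
    (hlift : ∀ (T : Over S) (a b : (yon S).obj T ⟶ U') (r : (yon S).obj T ⟶ R),
      r ≫ t = a ≫ g → r ≫ s = b ≫ g →
        ∃ r' : (yon S).obj T ⟶ R', r' ≫ t' = a ∧ r' ≫ s' = b) : Mono ψ := by
  refine mono_of_yon ψ fun T x y e => ?_
  have := epi_quotSpπ s' t'
  obtain ⟨Sx, hSx, hx⟩ := exists_sieve_lift (quotSpπ s' t') x
  obtain ⟨Sy, hSy, hy⟩ := exists_sieve_lift (quotSpπ s' t') y
  refine yon_hom_ext_of_mem ((J S).intersection_covering hSx hSy) x y fun T' f hf => ?_
  obtain ⟨a, ha⟩ := hx f hf.1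
  obtain ⟨b, hb⟩ := hy f hf.2
  have e1 : (a ≫ g) ≫ quotSpπ s t = (b ≫ g) ≫ quotSpπ s t := by
    rw [← cancel_mono ι]
    simp only [Category.assoc, ← hψ]
    rw [reassoc_of% ha, reassoc_of% hb, e]
  obtain ⟨Sv, hSv, hr⟩ := exists_sieve_rel h _ _ e1
  rw [← ha, ← hb]
  refine yon_hom_ext_of_mem hSv _ _ fun T'' f' hf' => ?_
  obtain ⟨r, hr1, hr2⟩ := hr f' hf'
  obtain ⟨r', h1, h2⟩ := hlift T'' ((yon S).map f' ≫ a) ((yon S).map f' ≫ b) r
    (by rw [hr1, Category.assoc]) (by rw [hr2, Category.assoc])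
  rw [← Category.assoc, ← Category.assoc, ← h1, ← h2, Category.assoc, Category.assoc,
    quotSp_condition]

theorem isIso_quotSpDesc_of_epi {M : Sp S} {s t : R ⟶ U} (q : U ⟶ M) (w : s ≫ q = t ≫ q) [Epi q]
    [Epi (pullback.lift t s w.symm : R ⟶ pullback q q)] : IsIso (quotSpDesc q w) := by
  have : IsRegularEpi q := IsRegularEpiCategory.regularEpiOfEpi q
  have hc := (show IsKernelPair q (pullback.fst q q) (pullback.snd q q) from IsPullback.of_hasPullback q q).toCoequalizer'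
  have e : pullback.fst q q ≫ quotSpπ s t = pullback.snd q q ≫ quotSpπ s t := by
    rw [← cancel_epi (pullback.lift t s w.symm : R ⟶ pullback q q), pullback.lift_fst_assoc,
      pullback.lift_snd_assoc]
    exact (quotSp_condition s t).symm
  let v : M ⟶ quotSp s t := hc.desc (Cofork.ofπ _ e)
  have hv : q ≫ v = quotSpπ s t := Cofork.IsColimit.π_desc hc
  have := epi_quotSpπ s t
  exact ⟨v, by rw [← cancel_epi (quotSpπ s t), quotSpπ_desc_assoc, hv, Category.comp_id],
    by rw [← cancel_epi q, ← Category.assoc, hv, quotSpπ_desc, Category.comp_id]⟩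

end Groth.Agent.AlgSpB
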