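import Groth.Prelude.Def_AlgSpGpd

/-!
# Point calculus for groupoids in sheaves
-/

universe u

open CategoryTheory CategoryTheory.Limits AlgebraicGeometry Opposite

set_option backward.isDefEq.respectTransparency false
set_option autoImplicit false

namespace Groth.Agent.AlgSpB.Gpd

open _root_.AlgSp

variable {S : Scheme.{u}} {B : Sp S} {G : GroupoidSp B} {T T' : Sp S}

/-- Composite of two points with `s α = t β`. -/
noncomputable abbrev comp (α β : T ⟶ G.R) (h : α ≫ G.s = β ≫ G.t) : T ⟶ G.R :=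
  pullback.lift α β h ≫ G.c

@[reassoc]
theorem comp_s (α β : T ⟶ G.R) (h : α ≫ G.s = β ≫ G.t) : comp α β h ≫ G.s = β ≫ G.s :=
  G.comp_s α β h

@[reassoc]
theorem comp_t (α β : T ⟶ G.R) (h : α ≫ G.s = β ≫ G.t) : comp α β h ≫ G.t = α ≫ G.t :=
  G.comp_t α β h

theorem comp_congr {α α' β β' : T ⟶ G.R} {h : α ≫ G.s = β ≫ G.t} (e : α = α') (e' : β = β') :
    comp α β h = comp α' β' (e ▸ e' ▸ h) := by
  subst e e'
  rfl

theorem map_comp (g : T' ⟶ T) (α β : T ⟶ G.R) (h : α ≫ G.s = β ≫ G.t) :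
    g ≫ comp α β h = comp (g ≫ α) (g ≫ β) (by rw [Category.assoc, h, Category.assoc]) := by
  rw [comp, comp, ← Category.assoc]
  congr 1
  apply pullback.hom_ext <;> simp

theorem inv_left_cancel (α β : T ⟶ G.R) (h : α ≫ G.s = β ≫ G.t) :
    comp (α ≫ G.i) (comp α β h) (by rw [Category.assoc, G.i_s, comp_t]) = β := by
  refine (G.assoc (α ≫ G.i) α β (by rw [Category.assoc, G.i_s]) h).symm.trans ?_
  refine (comp_congr (h := by rw [G.comp_s, h]) (G.i_comp α) rfl).trans ?_
  refine (comp_congr (h := by rw [← h]; simp [G.e_s]) ?_ rfl).trans (G.e_comp β)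
  rw [reassoc_of% h]

theorem left_inv_cancel (α γ : T ⟶ G.R) (h : α ≫ G.t = γ ≫ G.t) :
    comp α (comp (α ≫ G.i) γ (by rw [Category.assoc, G.i_s, h]))
      (by rw [comp_t, Category.assoc, G.i_t]) = γ := by
  refine (G.assoc α (α ≫ G.i) γ (by rw [Category.assoc, G.i_t]) (by rw [Category.assoc, G.i_s, h])).symm.trans ?_
  refine (comp_congr (h := by rw [G.comp_s, Category.assoc, G.i_s, h]) (G.comp_i α) rfl).trans ?_
  refine (comp_congr (h := by simp [G.e_s, h]) ?_ rfl).trans (G.e_comp γ)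
  rw [reassoc_of% h]

theorem right_inv_cancel (α β : T ⟶ G.R) (h : α ≫ G.s = β ≫ G.t) :
    comp (comp α β h) (β ≫ G.i) (by rw [comp_s, Category.assoc, G.i_t]) = α := by
  refine (G.assoc α β (β ≫ G.i) h (by rw [Category.assoc, G.i_t])).trans ?_
  refine (comp_congr (h := by rw [G.comp_t]; exact h) rfl (G.comp_i β)).trans ?_
  refine (comp_congr (h := by simp [G.e_t, h]) rfl ?_).trans (G.comp_e α)
  rw [reassoc_of% h]

theorem inv_right_cancel (γ β : T ⟶ G.R) (h : γ ≫ G.s = β ≫ G.s) :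
    comp (comp γ (β ≫ G.i) (by rw [Category.assoc, G.i_t, h])) β
      (by rw [comp_s, Category.assoc, G.i_s]) = γ := by
  refine (G.assoc γ (β ≫ G.i) β (by rw [Category.assoc, G.i_t, h]) (by rw [Category.assoc, G.i_s])).trans ?_
  refine (comp_congr (h := by rw [G.comp_t, Category.assoc, G.i_t, h]) rfl (G.i_comp β)).trans ?_
  refine (comp_congr (h := by simp [G.e_t, h]) rfl ?_).trans (G.comp_e γ)
  rw [reassoc_of% h]

theorem isPreEqvRel (G : GroupoidSp B) : IsPreEqvRelSp G.s G.t := by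
  intro T
  refine ⟨fun a => ⟨a ≫ G.e, by rw [Category.assoc, G.e_t, Category.comp_id],
    by rw [Category.assoc, G.e_s, Category.comp_id]⟩, ?_, ?_⟩
  · rintro a b ⟨r, h1, h2⟩
    exact ⟨r ≫ G.i, by rw [Category.assoc, G.i_t, h2], by rw [Category.assoc, G.i_s, h1]⟩
  · rintro a b c ⟨r, h1, h2⟩ ⟨r', h3, h4⟩
    exact ⟨comp r r' (h2.trans h3.symm), by rw [comp_t, h1], by rw [comp_s, h4]⟩

theorem c_eq (G : GroupoidSp B) :
    G.c = comp (pullback.fst G.s G.t) (pullback.snd G.s G.t) pullback.condition := by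
  rw [comp, show pullback.lift (pullback.fst G.s G.t) (pullback.snd G.s G.t) pullback.condition = 𝟙 _
    from by apply pullback.hom_ext <;> simp, Category.id_comp]

theorem isPullback_comp_snd (G : GroupoidSp B) :
    IsPullback G.c (pullback.snd G.s G.t) G.s G.s := by
  have w : G.c ≫ G.s = pullback.snd G.s G.t ≫ G.s := by rw [c_eq, comp_s]
  refine IsPullback.of_isLimit (h := PullbackCone.IsLimit.mk w
    (fun s => pullback.lift (comp s.fst (s.snd ≫ G.i)
      (by rw [Category.assoc, G.i_t, s.condition])) s.snd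
      (by rw [comp_s, Category.assoc, G.i_s]))
    (fun s => inv_right_cancel s.fst s.snd s.condition) (fun s => pullback.lift_snd _ _ _)
    (fun s m h1 h2 => ?_))
  apply pullback.hom_ext
  · rw [pullback.lift_fst]
    have := right_inv_cancel (m ≫ pullback.fst G.s G.t) (m ≫ pullback.snd G.s G.t)
      (by rw [Category.assoc, pullback.condition, Category.assoc])
    rw [← this]
    refine comp_congr (h := _) ?_ (by rw [h2])
    rw [← h1, c_eq, map_comp]
  · rw [pullback.lift_snd, h2]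

end Groth.Agent.AlgSpB.Gpd
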