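import Groth.Prelude.Def_AlgSpRep
import Mathlib.CategoryTheory.Limits.Types.Filtered
import Mathlib.CategoryTheory.Limits.Types.Pullbacks
import Mathlib.CategoryTheory.Filtered.Final

/-!
Relative limit preservation of maps of presheaves, elementwise.
-/

set_option backward.isDefEq.respectTransparency false
set_option backward.isDefEq.respectTransparency.types false

universe u

open CategoryTheory CategoryTheory.Limits AlgebraicGeometry Opposite

namespace Groth.Agent.AlgSpB

open _root_.AlgSp

variable {S : Scheme.{u}}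

/-- Elementwise form of `IsRelLimitPreserving`. -/
def RelLP {F G : PSp S} (a : F ⟶ G) : Prop :=
  ∀ ⦃I : Type u⦄ [SmallCategory I] [IsCofiltered I] (D : I ⥤ Over S) (c : Cone D),
    IsLimit ((Over.forget S).mapCone c) → (∀ i, IsAffine (D.obj i).left) → IsAffine c.pt.left →
      (∀ (i : I) (y : G.obj (op (D.obj i))) (x : F.obj (op c.pt)),
        a.app _ x = G.map (c.π.app i).op y → ∃ (j : I) (f : j ⟶ i) (xj : F.obj (op (D.obj j))),
          a.app _ xj = G.map (D.map f).op y ∧ F.map (c.π.app j).op xj = x) ∧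
      ∀ (i : I) (x x' : F.obj (op (D.obj i))), a.app _ x = a.app _ x' →
        F.map (c.π.app i).op x = F.map (c.π.app i).op x' →
        ∃ (j : I) (f : j ⟶ i), F.map (D.map f).op x = F.map (D.map f).op x'

theorem map_map_eq {F : PSp S} {A B C : Over S} (p : A ⟶ B) (q : B ⟶ C) (r : A ⟶ C) (h : p ≫ q = r)
    (x : F.obj (op C)) : F.map p.op (F.map q.op x) = F.map r.op x := by
  rw [← Functor.map_comp_apply, ← op_comp, h]

theorem app_map_eq {F G : PSp S} (a : F ⟶ G) {A B : Over S} (p : A ⟶ B) (x : F.obj (op B)) :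
    a.app _ (F.map p.op x) = G.map p.op (a.app _ x) := NatTrans.naturality_apply _ _ _

theorem map_w {F : PSp S} {I : Type u} [SmallCategory I] {D : I ⥤ Over S} (c : Cone D) {i j : I}
    (f : j ⟶ i) (x : F.obj (op (D.obj i))) :
    F.map (c.π.app j).op (F.map (D.map f).op x) = F.map (c.π.app i).op x :=
  map_map_eq _ _ _ (c.w f) x

theorem map_D {F : PSp S} {I : Type u} [SmallCategory I] {D : I ⥤ Over S} {i j k : I}
    (f : j ⟶ i) (g : k ⟶ j) (x : F.obj (op (D.obj i))) :
    F.map (D.map g).op (F.map (D.map f).op x) = F.map (D.map (g ≫ f)).op x :=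
  map_map_eq _ _ _ (D.map_comp g f).symm x

theorem app_π {F G : PSp S} (a : F ⟶ G) {I : Type u} [SmallCategory I] {D : I ⥤ Over S} (c : Cone D)
    (i : I) (x : F.obj (op (D.obj i))) :
    a.app (op c.pt) (F.map (c.π.app i).op x) = G.map (c.π.app i).op (a.app _ x) :=
  app_map_eq a _ x

theorem RelLP.comp {F G H : PSp S} {a : F ⟶ G} {b : G ⟶ H} (ha : RelLP a) (hb : RelLP b) :
    RelLP (a ≫ b) := by
  intro I _ _ D c hc hD hT
  obtain ⟨ea, ua⟩ := ha D c hc hD hT
  obtain ⟨eb, ub⟩ := hb D c hc hD hT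
  refine ⟨fun i z x h => ?_, fun i x x' h hpt => ?_⟩
  · obtain ⟨j, f, g, hg, hgp⟩ := eb i z (a.app _ x) h
    obtain ⟨k, f', xk, hxk, hxp⟩ := ea j g x hgp.symm
    refine ⟨k, f' ≫ f, xk, ?_, hxp⟩
    change b.app _ (a.app _ xk) = _
    rw [hxk, app_map_eq, hg]; exact map_D f f' z
  · obtain ⟨j, f, hf⟩ := ub i (a.app _ x) (a.app _ x') h ((app_π a c i x).symm.trans ((congrArg _ hpt).trans (app_π a c i x')))
    obtain ⟨k, f', hf'⟩ := ua j (F.map (D.map f).op x) (F.map (D.map f).op x')
      (by rw [app_map_eq, app_map_eq, hf])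
      ((map_w c f x).trans (hpt.trans (map_w c f x').symm))
    exact ⟨k, f' ≫ f, (map_D f f' x).symm.trans (hf'.trans (map_D f f' x'))⟩

theorem RelLP.of_comp {F G H : PSp S} {a : F ⟶ G} {b : G ⟶ H} (hab : RelLP (a ≫ b)) (hb : RelLP b) :
    RelLP a := by
  intro I _ _ D c hc hD hT
  obtain ⟨eab, uab⟩ := hab D c hc hD hT
  obtain ⟨eb, ub⟩ := hb D c hc hD hT
  refine ⟨fun i g x h => ?_, fun i x x' h hpt => uab i x x' (congrArg (fun z => b.app _ z) h) hpt⟩
  obtain ⟨j, f, xj, hxj, hxp⟩ := eab i (b.app _ g) x (by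
    change b.app _ (a.app _ x) = _
    rw [h]; exact app_π b c i g)
  obtain ⟨k, f', hf'⟩ := ub j (a.app _ xj) (G.map (D.map f).op g)
    (by rw [app_map_eq]; exact hxj)
    (((app_π a c j xj).symm.trans ((congrArg _ hxp).trans h)).trans (map_w c f g).symm)
  refine ⟨k, f' ≫ f, F.map (D.map f').op xj, ?_, (map_w c f' xj).trans hxp⟩
  exact (app_map_eq a _ xj).trans (hf'.trans (map_D f f' g))

theorem RelLP.of_isPullback {F G H P : PSp S} {a : F ⟶ G} {b : H ⟶ G} {fst : P ⟶ F} {snd : P ⟶ H}
    (sq : IsPullback fst snd a b) (ha : RelLP a) : RelLP snd := by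
  intro I _ _ D c hc hD hT
  obtain ⟨ea, ua⟩ := ha D c hc hD hT
  have hsq : ∀ X, IsPullback (fst.app X) (snd.app X) (a.app X) (b.app X) := fun X =>
    sq.map ((evaluation _ _).obj X)
  have hw : ∀ X (p : P.obj X), a.app X (fst.app X p) = b.app X (snd.app X p) := fun X p =>
    ConcreteCategory.congr_hom (hsq X).w p
  refine ⟨fun i y x h => ?_, fun i x x' h hpt => ?_⟩
  · obtain ⟨j, f, xj, hxj, hxp⟩ := ea i (b.app _ y) (fst.app _ x) (by rw [hw, h]; exact app_π b c i y)
    obtain ⟨p, hp1, hp2⟩ := Types.exists_of_isPullback (hsq _) xj (H.map (D.map f).op y)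
      (by rw [hxj, app_map_eq])
    refine ⟨j, f, p, hp2, Types.ext_of_isPullback (hsq _) ?_ ?_⟩
    · exact (app_π fst c j p).trans ((congrArg _ hp1).trans hxp)
    · exact (app_π snd c j p).trans ((congrArg _ hp2).trans ((map_w c f y).trans h.symm))
  · obtain ⟨j, f, hf⟩ := ua i (fst.app _ x) (fst.app _ x') (by rw [hw, hw, h])
      ((app_π fst c i x).symm.trans ((congrArg _ hpt).trans (app_π fst c i x')))
    refine ⟨j, f, Types.ext_of_isPullback (hsq _) ?_ ?_⟩
    · rw [app_map_eq, app_map_eq, hf]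
    · rw [app_map_eq, app_map_eq, h]

theorem isRelLimitPreserving_of_relLP {F G : PSp S} {a : F ⟶ G} (ha : RelLP a) :
    IsRelLimitPreserving a := by
  intro T y I _ _ D c hc hD hT
  obtain ⟨ea, ua⟩ := ha (D ⋙ Over.map T.hom) ((Over.map T.hom).mapCone c)
    (hc : IsLimit ((Over.forget T.left).mapCone c)) hD hT
  refine ⟨Types.FilteredColimit.isColimitOf' _ _ (fun x => ?_) (fun i x x' h => ?_)⟩
  · obtain ⟨i₀⟩ : Nonempty I := IsCofiltered.nonempty
    obtain ⟨j, f, xj, hxj, hxp⟩ := ea i₀ (G.map (overHom T (D.obj i₀)).op y) x.1 (by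
      exact x.2.trans (map_map_eq _ _ _ (map_comp_overHom T (c.π.app i₀)) y).symm)
    refine ⟨op j, ⟨xj, ?_⟩, Subtype.ext hxp.symm⟩
    exact hxj.trans (map_map_eq _ _ _ (map_comp_overHom T (D.map f)) y)
  · obtain ⟨j, f, hf⟩ := ua i.unop x.1 x'.1 (x.2.trans x'.2.symm) (congrArg Subtype.val h)
    exact ⟨op j, f.op, Subtype.ext hf⟩

theorem relLP_of_isRelLimitPreserving {F G : PSp S} {a : F ⟶ G} (ha : IsRelLimitPreserving a) :
    RelLP a := by
  intro I _ _ D c hc hD hT
  have main : ∀ (i : I) (y : G.obj (op (D.obj i))),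
      (∀ x : F.obj (op c.pt), a.app _ x = G.map (c.π.app i).op y →
        ∃ (j : I) (f : j ⟶ i) (xj : F.obj (op (D.obj j))),
          a.app _ xj = G.map (D.map f).op y ∧ F.map (c.π.app j).op xj = x) ∧
      ∀ x x' : F.obj (op (D.obj i)), a.app _ x = y → a.app _ x' = y →
        F.map (c.π.app i).op x = F.map (c.π.app i).op x' →
        ∃ (j : I) (f : j ⟶ i), F.map (D.map f).op x = F.map (D.map f).op x' := by
    intro i y
    let D' : Over i ⥤ Over (D.obj i).left :=
      { obj := fun f => Over.mk (D.map f.hom).left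
        map := fun {f g} k => Over.homMk (D.map k.left).left (by
          change (D.map k.left).left ≫ (D.map g.hom).left = (D.map f.hom).left
          rw [← Over.comp_left, ← D.map_comp, Over.w k])
        map_id := fun f => by ext; simp
        map_comp := fun k l => by ext; simp }
    let c' : Cone D' :=
      { pt := Over.mk (c.π.app i).left
        π :=
          { app := fun f => Over.homMk (c.π.app f.left).left (by
              change (c.π.app f.left).left ≫ (D.map f.hom).left = (c.π.app i).left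
              rw [← Over.comp_left, c.w f.hom])
            naturality := fun f g k => by
              ext
              change 𝟙 _ ≫ (c.π.app g.left).left = (c.π.app f.left).left ≫ (D.map k.left).left
              rw [← Over.comp_left, c.w k.left, Category.id_comp] } }
    have hc' : IsLimit ((Over.forget (D.obj i).left).mapCone c') := by
      refine IsLimit.equivOfNatIsoOfIso (Iso.refl _) _ _ (Cone.ext (Iso.refl _) fun f => ?_)
        ((Functor.Initial.isLimitWhiskerEquiv (Over.forget i) _).symm hc)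
      simp [c']
    obtain ⟨hcol⟩ := ha (D.obj i) y D' c' hc' (fun f => hD f.left) hT
    -- comparison isomorphisms over `S`
    let ept : (Over.map (D.obj i).hom).obj c'.pt ⟶ c.pt := Over.homMk (𝟙 _) (by
      change 𝟙 _ ≫ c.pt.hom = (c.π.app i).left ≫ (D.obj i).hom
      rw [Category.id_comp, Over.w]; rfl)
    let e : ∀ f : Over i, (Over.map (D.obj i).hom).obj (D'.obj f) ⟶ D.obj f.left := fun f =>
      Over.homMk (𝟙 _) (by
        change 𝟙 _ ≫ (D.obj f.left).hom = (D.map f.hom).left ≫ (D.obj i).hom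
        rw [Category.id_comp, Over.w])
    let e' : ∀ f : Over i, D.obj f.left ⟶ (Over.map (D.obj i).hom).obj (D'.obj f) := fun f =>
      Over.homMk (𝟙 _) (by
        change 𝟙 _ ≫ (D.map f.hom).left ≫ (D.obj i).hom = (D.obj f.left).hom
        rw [Category.id_comp, Over.w])
    refine ⟨fun x hx => ?_, fun x x' hx hx' hpt => ?_⟩
    · let z : (fiberFun a (D.obj i) y).obj (op c'.pt) := ⟨F.map ept.op x, by
        rw [app_map_eq, hx]
        exact map_map_eq _ _ _ (by ext; simp [ept, c']) y⟩
      obtain ⟨f, w, hw⟩ := Types.jointly_surjective_of_isColimit hcol z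
      refine ⟨f.unop.left, f.unop.hom, F.map (e' f.unop).op w.1, ?_, ?_⟩
      · exact (app_map_eq a _ _).trans ((congrArg _ w.2).trans (map_map_eq _ _ _ (by ext; simp [e', D']) y))
      · let ept' : c.pt ⟶ (Over.map (D.obj i).hom).obj c'.pt := Over.homMk (𝟙 _) (by
          change 𝟙 _ ≫ (c.π.app i).left ≫ (D.obj i).hom = c.pt.hom
          rw [Category.id_comp, Over.w]; rfl)
        have h1 : F.map ((Over.map (D.obj i).hom).map (c'.π.app f.unop)).op w.1 = F.map ept.op x :=
          congrArg Subtype.val hw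
        have h2 := congrArg (F.map ept'.op) h1
        have h3 := h2.trans ((map_map_eq ept' ept (𝟙 _) (by ext; simp [ept, ept']) x).trans
          (by rw [op_id, Functor.map_id_apply]))
        refine Eq.trans ?_ h3
        exact (map_map_eq _ _ _ rfl _).trans ((congrArg (fun m : _ ⟶ (Over.map (D.obj i).hom).obj (D'.obj f.unop) => F.map m.op w.1)
          (by ext; simp [e', ept', c'])).trans (map_map_eq _ _ _ rfl _).symm)
    · let o : Over i := Over.mk (𝟙 i)
      let z : ∀ v : F.obj (op (D.obj i)), a.app _ v = y →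
          (fiberFun a (D.obj i) y).obj (op (D'.obj o)) := fun v hv => ⟨F.map (e o).op v, by
        rw [app_map_eq]
        exact (congrArg _ hv).trans (congrArg (fun m : _ ⟶ D.obj i => G.map m.op y) (by ext; simp [e, o, D']))⟩
      have key : ((fiberFun a (D.obj i) y).mapCocone c'.op).ι.app (op o) (z x hx) =
          ((fiberFun a (D.obj i) y).mapCocone c'.op).ι.app (op o) (z x' hx') := by
        apply Subtype.ext
        change F.map ((Over.map (D.obj i).hom).map (c'.π.app o)).op (F.map (e o).op x) =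
          F.map ((Over.map (D.obj i).hom).map (c'.π.app o)).op (F.map (e o).op x')
        have e1 : (Over.map (D.obj i).hom).map (c'.π.app o) ≫ e o = ept ≫ c.π.app i := by
          ext; simp [e, o, ept, c']
        have hk := fun v => (map_map_eq _ _ _ e1 v).trans (map_map_eq (F := F) _ _ _ rfl v).symm
        exact (hk x).trans ((congrArg (F.map ept.op) hpt).trans (hk x').symm)
      obtain ⟨f, g, hg⟩ := (Types.FilteredColimit.isColimit_eq_iff' hcol _ _).1 key
      refine ⟨f.unop.left, f.unop.hom, ?_⟩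
      have h1 : F.map ((Over.map (D.obj i).hom).map (D'.map g.unop)).op (F.map (e o).op x) =
          F.map ((Over.map (D.obj i).hom).map (D'.map g.unop)).op (F.map (e o).op x') :=
        congrArg Subtype.val hg
      rw [map_map_eq _ _ _ rfl, map_map_eq _ _ _ rfl] at h1
      have h2 := congrArg (F.map (e' f.unop).op) h1
      have e2 : e' f.unop ≫ ((Over.map (D.obj i).hom).map (D'.map g.unop) ≫ e o) = D.map f.unop.hom := by
        ext
        have : g.unop.left = f.unop.hom := by simpa [o] using Over.w g.unop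
        simp [e, e', D', this, o]
      rwa [map_map_eq _ _ _ e2, map_map_eq _ _ _ e2] at h2
  exact ⟨fun i y x h => (main i y).1 x h, fun i x x' h hpt => (main i _).2 x x' rfl h.symm hpt⟩

theorem isRelLimitPreserving_iff {F G : PSp S} {a : F ⟶ G} : IsRelLimitPreserving a ↔ RelLP a :=
  ⟨relLP_of_isRelLimitPreserving, isRelLimitPreserving_of_relLP⟩

theorem relLP_iff_isPullback {F G : PSp S} (a : F ⟶ G) :
    RelLP a ↔ ∀ ⦃I : Type u⦄ [SmallCategory I] [IsCofiltered I] (D : I ⥤ Over S) (c : Cone D),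
        IsLimit ((Over.forget S).mapCone c) → (∀ i, IsAffine (D.obj i).left) → IsAffine c.pt.left →
          IsPullback (colimMap (Functor.whiskerLeft D.op a)) (colimit.desc (D.op ⋙ F) (F.mapCocone c.op))
            (colimit.desc (D.op ⋙ G) (G.mapCocone c.op)) (a.app (op c.pt)) := by
  refine forall₂_congr fun I _ => forall_congr' fun _ => forall₅_congr fun D c hc hD hT => ?_
  have hF : ∀ i x, colimit.desc (D.op ⋙ F) (F.mapCocone c.op) (colimit.ι (D.op ⋙ F) i x) =
      F.map (c.π.app i.unop).op x := fun i x =>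
    ConcreteCategory.congr_hom (colimit.ι_desc (F.mapCocone c.op) i) x
  have hG : ∀ i x, colimit.desc (D.op ⋙ G) (G.mapCocone c.op) (colimit.ι (D.op ⋙ G) i x) =
      G.map (c.π.app i.unop).op x := fun i x =>
    ConcreteCategory.congr_hom (colimit.ι_desc (G.mapCocone c.op) i) x
  have hm : ∀ i x, colimMap (Functor.whiskerLeft D.op a) (colimit.ι (D.op ⋙ F) i x) =
      colimit.ι (D.op ⋙ G) i (a.app _ x) := fun i x =>
    ConcreteCategory.congr_hom (ι_colimMap (Functor.whiskerLeft D.op a) i) x
  constructor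
  · rintro ⟨ea, ua⟩
    refine (Types.isPullback_iff _ _ _ _).2 ⟨?_, fun p q hpq => ?_, fun g x hgx => ?_⟩
    · apply colimit.hom_ext
      intro i
      ext x
      change colimit.desc (D.op ⋙ G) (G.mapCocone c.op)
        (colimMap (Functor.whiskerLeft D.op a) (colimit.ι (D.op ⋙ F) i x)) =
        a.app _ (colimit.desc (D.op ⋙ F) (F.mapCocone c.op) (colimit.ι (D.op ⋙ F) i x))
      rw [hm, hG, hF]; exact (app_π a c i.unop x).symm
    · obtain ⟨i, x, rfl⟩ := Types.jointly_surjective' p
      obtain ⟨i', x', rfl⟩ := Types.jointly_surjective' q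
      obtain ⟨h1, h2⟩ := hpq
      rw [hm, hm] at h1
      obtain ⟨k, f, f', hk⟩ :=
        (Types.FilteredColimit.isColimit_eq_iff _ (colimit.isColimit (D.op ⋙ G))).1 h1
      rw [hF, hF] at h2
      obtain ⟨l, g, hg⟩ := ua k.unop (F.map (D.map f.unop).op x) (F.map (D.map f'.unop).op x')
        (by rw [app_map_eq, app_map_eq]; exact hk)
        ((map_w c f.unop x).trans (h2.trans (map_w c f'.unop x').symm))
      replace hg := (map_D f.unop g x).symm.trans (hg.trans (map_D f'.unop g x'))
      exact (Types.FilteredColimit.isColimit_eq_iff _ (colimit.isColimit (D.op ⋙ F))).2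
        ⟨op l, (g ≫ f.unop).op, (g ≫ f'.unop).op, hg⟩
    · obtain ⟨i, y, rfl⟩ := Types.jointly_surjective' g
      rw [hG] at hgx
      obtain ⟨j, f, xj, hxj, hxp⟩ := ea i.unop y x hgx.symm
      refine ⟨colimit.ι (D.op ⋙ F) (op j) xj, ?_, by rw [hF]; exact hxp⟩
      exact (hm _ xj).trans ((congrArg _ hxj).trans (ConcreteCategory.congr_hom (colimit.w (D.op ⋙ G) f.op) y))
  · intro sq
    refine ⟨fun i y x h => ?_, fun i x x' h hpt => ?_⟩
    · obtain ⟨p, hp1, hp2⟩ := Types.exists_of_isPullback sq (colimit.ι (D.op ⋙ G) (op i) y) x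
        (by rw [hG]; exact h.symm)
      obtain ⟨j, xj, rfl⟩ := Types.jointly_surjective' p
      rw [hm] at hp1
      rw [hF] at hp2
      obtain ⟨k, f, f', hk⟩ :=
        (Types.FilteredColimit.isColimit_eq_iff _ (colimit.isColimit (D.op ⋙ G))).1 hp1
      refine ⟨k.unop, f'.unop, F.map (D.map f.unop).op xj, (app_map_eq a _ _).trans hk, ?_⟩
      exact (map_w c f.unop xj).trans hp2
    · have := Types.ext_of_isPullback sq
        (x₁ := colimit.ι (D.op ⋙ F) (op i) x) (y₁ := colimit.ι (D.op ⋙ F) (op i) x')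
        ((hm _ x).trans ((congrArg _ h).trans (hm _ x').symm)) (by rw [hF, hF]; exact hpt)
      obtain ⟨j, f, hf⟩ :=
        (Types.FilteredColimit.isColimit_eq_iff' (colimit.isColimit (D.op ⋙ F)) x x').1 this
      exact ⟨j.unop, f.unop, hf⟩

end Groth.Agent.AlgSpB
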