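import Groth.Agent.AlgSpCov.Listed
import Groth.Agent.AlgSp.Space
import Groth.Agent.AlgSp.FppfLocal2
import Groth.Agent.AlgSp.PointsMor

/-!
`LocP` descends along locally surjective maps.
-/

set_option backward.isDefEq.respectTransparency false
set_option backward.isDefEq.respectTransparency.types false

universe u

open CategoryTheory CategoryTheory.Limits AlgebraicGeometry MorphismProperty

namespace Groth.Agent.AlgSpB

open _root_.AlgSp Groth.Agent.AlgSp

variable {S : Scheme.{u}}

instance isLocalAtTarget_flat_fppf : MorphismProperty.IsLocalAtTarget @Flat Scheme.fppfPrecoverage.{u} :=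
  isLocalAtTarget_fppf_of_fpqc _ AlgSpCov.descendsAlong_flat_fpqc

theorem locP_of_locallySurjective_baseChange {P : MorphismProperty Scheme.{u}} [P.IsStableUnderBaseChange]
    [P.IsLocalAtTarget Scheme.fppfPrecoverage] (hP : AlgSpCov.EtaleLocal P) {X Y Z Q : Sp S}
    (hY : IsAlgSpace Y) (hX : IsAlgSpace X) (hZ : IsAlgSpace Z) {f : X ⟶ Y} (p : Z ⟶ Y)
    [Sheaf.IsLocallySurjective p] {fst : Q ⟶ X} {snd : Q ⟶ Z} (sq : IsPullback fst snd f p)
    (h : LocP P snd) : LocP P f := by
  intro U V a b g ha hb w
  have hQ : IsAlgSpace Q := isAlgSpace_of_isPullback' hY hX hZ sq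
  obtain ⟨R, hR, hl⟩ := exists_cover_lift p b
  refine MorphismProperty.IsLocalAtTarget.of_forall_pullbackSnd (K := Scheme.fppfPrecoverage) hR ?_
  intro W k _ hk
  obtain ⟨l, hl⟩ := hl k hk
  let k' : Over.mk (k ≫ V.hom) ⟶ V := Over.homMk k rfl
  have sqb := IsPullback.of_hasPullback f b
  obtain ⟨a', ha', -, ha'2⟩ := AlgSpCov.etale_toPullback ha hb w sqb
  have sqk := IsPullback.of_hasPullback (pullback.snd f b) ((yon S).map k')
  have sq0 := sqk.paste_horiz sqb
  rw [← hl] at sq0
  have w1 : (pullback.fst (pullback.snd f b) ((yon S).map k') ≫ pullback.fst f b) ≫ f =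
      (pullback.snd (pullback.snd f b) ((yon S).map k') ≫ l) ≫ p := by rw [sq0.w, Category.assoc]
  have sq1 : IsPullback (sq.lift _ _ w1) (pullback.snd (pullback.snd f b) ((yon S).map k')) snd l := by
    refine IsPullback.of_right ?_ (sq.lift_snd _ _ w1) sq
    simpa [sq.lift_fst] using sq0
  have sq2 := (IsPullback.of_hasPullback g k').map (yon S)
  let m : (yon S).obj (pullback g k') ⟶ pullback (pullback.snd f b) ((yon S).map k') :=
    pullback.lift ((yon S).map (pullback.fst g k') ≫ a') ((yon S).map (pullback.snd g k'))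
      (by rw [Category.assoc, ha'2, sq2.w])
  have sqm : IsPullback ((yon S).map (pullback.fst g k')) m a' (pullback.fst (pullback.snd f b) ((yon S).map k')) := by
    refine IsPullback.of_bot ?_ (pullback.lift_fst _ _ _).symm sqk
    rw [show m ≫ pullback.snd (pullback.snd f b) ((yon S).map k') = (yon S).map (pullback.snd g k') from
      pullback.lift_snd _ _ _, ha'2]
    exact sq2
  have hP' : P (pullback.snd g k').left :=
    AlgSpCov.chart_of_locP hP hQ hZ h l sq1 (MorphismProperty.of_isPullback sqm ha') _ (pullback.lift_snd _ _ _)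
  have sq3 := (IsPullback.of_hasPullback g k').map (Over.forget S)
  have sq4 := IsPullback.of_hasPullback g.left k
  have : P.RespectsIso := MorphismProperty.IsStableUnderBaseChange.respectsIso
  rw [← IsPullback.isoIsPullback_hom_snd _ _ sq4 sq3]
  exact (P.cancel_left_of_respectsIso _ _).2 hP'

end Groth.Agent.AlgSpB
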