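import Groth.Agent.AlgSpB.QuotRel
import Groth.Agent.AlgSpB.Points
import Groth.Agent.AlgSpB.LocPDescent
import Groth.Prelude.Def_AlgSp4

/-!
Quotients by equivalence relations of sheaves.
-/

set_option backward.isDefEq.respectTransparency false
set_option backward.isDefEq.respectTransparency.types false

universe u

open CategoryTheory CategoryTheory.Limits AlgebraicGeometry

namespace Groth.Agent.AlgSpB

open _root_.AlgSp Groth.Agent.AlgSp

variable {S : Scheme.{u}}

/-- An equivalence relation is the kernel pair of its quotient. -/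
theorem isPullback_quotSpπ {R U : Sp S} {s t : R ⟶ U} (h : IsEqvRelSp s t) :
    IsPullback t s (quotSpπ s t) (quotSpπ s t) := by
  have w : t ≫ quotSpπ s t = s ≫ quotSpπ s t := (quotSp_condition s t).symm
  let l : R ⟶ pullback (quotSpπ s t) (quotSpπ s t) := pullback.lift t s w
  have hm : Mono l := mono_of_yon l fun T a b e => by
    refine h.injective T a b ?_ ?_
    · simpa [l] using congrArg (· ≫ pullback.fst _ _) e
    · simpa [l] using congrArg (· ≫ pullback.snd _ _) e
  have hs : Sheaf.IsLocallySurjective l := by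
    refine ⟨fun {T} x => ?_⟩
    let z : (yon S).obj T ⟶ pullback (quotSpπ s t) (quotSpπ s t) := yEquiv.symm x
    obtain ⟨Sv, hSv, hSv'⟩ := exists_sieve_rel (isEqvRelSp_iff _ _ |>.1 h).2 (z ≫ pullback.fst _ _)
      (z ≫ pullback.snd _ _) (by rw [Category.assoc, Category.assoc, pullback.condition])
    refine (J S).superset_covering (fun T' f hf => ?_) hSv
    obtain ⟨r, hr1, hr2⟩ := hSv' f hf
    refine ⟨yEquiv r, ?_⟩
    have e : r ≫ l = (yon S).map f ≫ z := by
      apply pullback.hom_ext
      · simpa [l] using hr1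
      · simpa [l] using hr2
    have := congrArg yEquiv e
    rw [yEquiv_comp, yEquiv_map] at this
    exact this.trans (by simp [z])
  have : Epi l := Sheaf.epi_of_isLocallySurjective l
  have : IsIso l := isIso_of_mono_of_epi l
  exact IsPullback.of_iso_pullback ⟨w⟩ (asIso l) (pullback.lift_fst _ _ _) (pullback.lift_snd _ _ _)

/-- A locally surjective map is surjective on points. -/
theorem surjective_map_of_isLocallySurjective {F G : Sp S} (f : F ⟶ G) [Sheaf.IsLocallySurjective f] :
    Function.Surjective (Points.map f) := by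
  intro y
  obtain ⟨p, hp⟩ := exists_eq_ofPt_toHom y
  obtain ⟨R, hR, hl⟩ := exists_cover_lift f p.toHom
  obtain ⟨ι, Y, g, rfl⟩ := Presieve.exists_eq_ofArrows R
  obtain ⟨i, w, -⟩ := ((Scheme.ofArrows_mem_precoverage_iff _).1 hR).1 (IsLocalRing.closedPoint p.K)
  obtain ⟨l, hl⟩ := hl (g i) ⟨i⟩
  refine ⟨Points.ofPt l w, ?_⟩
  rw [Points.map_ofPt, hl, ofPt_map_comp]
  exact hp _

theorem quotSpπ_flat_lfp {R U : Sp S} (hR : IsAlgSpace R) (hU : IsAlgSpace U) {s t : R ⟶ U}
    (h : IsEqvRelSp s t) (hF : IsAlgSpace (quotSp s t)) {P : MorphismProperty Scheme.{u}}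
    [P.IsStableUnderBaseChange] [P.IsLocalAtTarget Scheme.fppfPrecoverage] (hP : AlgSpCov.EtaleLocal P)
    (hs : LocP P s) : LocP P (quotSpπ s t) := by
  have := epi_quotSpπ s t
  have : Sheaf.IsLocallySurjective (quotSpπ s t) := (Sheaf.isLocallySurjective_iff_epi _).2 inferInstance
  exact locP_of_locallySurjective_baseChange hP hF hU hU (quotSpπ s t) (isPullback_quotSpπ h) hs

end Groth.Agent.AlgSpB
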