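import Groth.Prelude.Def_AlgSpRep
import Groth.Agent.AlgSp.Space
import Groth.Agent.AlgSp.Presheaf
import Groth.Agent.StFib.RepSp

/-!
Calculus of maps of presheaves representable by algebraic spaces.
-/

set_option backward.isDefEq.respectTransparency false
set_option backward.isDefEq.respectTransparency.types false

universe u

open CategoryTheory CategoryTheory.Limits AlgebraicGeometry Opposite

namespace Groth.Agent.AlgSpB

open _root_.AlgSp

variable {S : Scheme.{u}}

/-- A fibre product of presheaves which are algebraic spaces is an algebraic space. -/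
theorem isAlgSpaceP_of_isPullback {X Y Z P : PSp S} (hX : IsAlgSpaceP X) (hY : IsAlgSpaceP Y)
    (hZ : IsAlgSpaceP Z) {f : X ⟶ Z} {g : Y ⟶ Z} {fst : P ⟶ X} {snd : P ⟶ Y}
    (sq : IsPullback fst snd f g) : IsAlgSpaceP P := by
  obtain ⟨sX, hX⟩ := hX
  obtain ⟨sY, hY⟩ := hY
  obtain ⟨sZ, hZ⟩ := hZ
  have hP : Presheaf.IsSheaf (J S) P :=
    isSheaf_of_isPullback (F := ⟨X, sX⟩) (G := ⟨Z, sZ⟩) (H := ⟨Y, sY⟩) sq
  refine ⟨hP, Groth.Agent.AlgSp.isAlgSpace_of_isPullback' (H := ⟨Z, sZ⟩) hZ hX hY
    (f := ObjectProperty.homMk f) (g := ObjectProperty.homMk g) (fst := ObjectProperty.homMk fst)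
    (snd := ObjectProperty.homMk snd)
    (IsPullback.of_map_of_faithful (sheafToPresheaf (J S) (Type (u + 1))) sq)⟩

theorem isAlgSpaceP_pyon (U : Over S) : IsAlgSpaceP ((pyon S).obj U) :=
  (isAlgSpaceP_obj_iff ((yon S).obj U)).2 (IsAlgSpace.yon_obj U)

instance repBySp_isStableUnderBaseChange :
    (RepBySp (S := S)).IsStableUnderBaseChange :=
  ⟨fun sq ha => StFib.repBySp_of_isPullback sq ha⟩

instance repBySp_isStableUnderComposition :
    (RepBySp (S := S)).IsStableUnderComposition :=
  ⟨fun _ _ ha hb => StFib.repBySp_comp ha hb⟩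

/-- The diagonal of a map representable by algebraic spaces is representable by algebraic spaces. -/
theorem repBySp_diagonal {F G : PSp S} {a : F ⟶ G} (ha : RepBySp a) :
    RepBySp (pullback.diagonal a) := by
  intro U ξ F' fst snd sq
  have hE : IsAlgSpaceP (pullback a (ξ ≫ pullback.fst a a ≫ a)) :=
    ha _ _ _ (IsPullback.of_hasPullback a _)
  let x' : (pyon S).obj U ⟶ pullback a (ξ ≫ pullback.fst a a ≫ a) :=
    pullback.lift (ξ ≫ pullback.fst a a) (𝟙 _) (by simp)
  let y' : (pyon S).obj U ⟶ pullback a (ξ ≫ pullback.fst a a ≫ a) :=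
    pullback.lift (ξ ≫ pullback.snd a a) (𝟙 _) (by simp [pullback.condition])
  have hx : snd ≫ ξ ≫ pullback.fst a a = fst := by
    rw [← Category.assoc, ← sq.w, Category.assoc, pullback.diagonal_fst, Category.comp_id]
  have hy : snd ≫ ξ ≫ pullback.snd a a = fst := by
    rw [← Category.assoc, ← sq.w, Category.assoc, pullback.diagonal_snd, Category.comp_id]
  refine isAlgSpaceP_of_isPullback (isAlgSpaceP_pyon U) (isAlgSpaceP_pyon U) hE
    (f := x') (g := y') (fst := snd) (snd := snd) ?_
  have hw : snd ≫ x' = snd ≫ y' := by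
    apply pullback.hom_ext
    · simp [x', y', hx, hy]
    · simp [x', y']
  have key : ∀ c : PullbackCone x' y', c.fst = c.snd ∧
      (c.fst ≫ ξ ≫ pullback.fst a a) ≫ pullback.diagonal a = c.fst ≫ ξ := by
    intro c
    have h1 := congrArg (· ≫ pullback.fst _ _) c.condition
    have h2 := congrArg (· ≫ pullback.snd _ _) c.condition
    simp only [x', y', Category.assoc, pullback.lift_fst, pullback.lift_snd, Category.comp_id] at h1 h2
    refine ⟨h2, ?_⟩
    apply pullback.hom_ext
    · simp
    · simp only [Category.assoc, pullback.diagonal_snd, Category.comp_id]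
      rw [h1, h2]
  refine IsPullback.of_isLimit' ⟨hw⟩ (PullbackCone.IsLimit.mk _
    (fun c => sq.lift (c.fst ≫ ξ ≫ pullback.fst a a) c.fst (key c).2) (fun c => sq.lift_snd _ _ _)
    (fun c => (sq.lift_snd _ _ _).trans (key c).1) (fun c m hm1 _ => sq.hom_ext ?_ ?_))
  · rw [sq.lift_fst, ← hx, ← hm1]; simp
  · rw [sq.lift_snd, hm1]

theorem repBySp_prod_map {F₁ G₁ F₂ G₂ : PSp S} {a₁ : F₁ ⟶ G₁} {a₂ : F₂ ⟶ G₂}
    (h₁ : RepBySp a₁) (h₂ : RepBySp a₂) : RepBySp (prod.map a₁ a₂) :=
  Groth.Agent.AlgSp.prodMap_mem RepBySp h₁ h₂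

theorem repBySp_of_comp_of_diagonal {F G H : PSp S} (a : F ⟶ G) (b : G ⟶ H)
    (hΔ : RepBySp (pullback.diagonal b)) (hab : RepBySp (a ≫ b)) : RepBySp a := by
  let Γ : F ⟶ pullback (a ≫ b) b := pullback.lift (𝟙 F) a (by simp)
  have sq : IsPullback a Γ (pullback.diagonal b) (pullback.map (a ≫ b) b b b a (𝟙 G) (𝟙 H) (by simp) (by simp)) := by
    have key : ∀ c : PullbackCone (pullback.diagonal b)
        (pullback.map (a ≫ b) b b b a (𝟙 G) (𝟙 H) (by simp) (by simp)),
        (c.snd ≫ pullback.fst (a ≫ b) b) ≫ a = c.fst ∧ c.snd ≫ pullback.snd (a ≫ b) b = c.fst := by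
      intro c
      have h1 := congrArg (· ≫ pullback.fst _ _) c.condition
      have h2 := congrArg (· ≫ pullback.snd _ _) c.condition
      simp only [Category.assoc, pullback.diagonal_fst, pullback.diagonal_snd, pullback.map,
        pullback.lift_fst, pullback.lift_snd, Category.comp_id] at h1 h2 ⊢
      exact ⟨h1.symm, h2.symm⟩
    refine IsPullback.of_isLimit' ⟨by apply pullback.hom_ext <;> simp [Γ, pullback.map] <;> exact (Category.id_comp a).symm⟩
      (PullbackCone.IsLimit.mk _ (fun c => c.snd ≫ pullback.fst (a ≫ b) b) (fun c => ?_) (fun c => ?_)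
        (fun c m _ hm => ?_))
    · exact (key c).1
    · apply pullback.hom_ext
      · simp [Γ]
      · rw [(key c).2]; simp only [Γ, Category.assoc, pullback.lift_snd]; exact (Category.assoc _ _ _).symm.trans (key c).1
    · rw [← hm]; simp [Γ]
  have e : a = Γ ≫ pullback.snd (a ≫ b) b := by simp [Γ]
  rw [e]
  exact StFib.repBySp_comp (StFib.repBySp_of_isPullback sq hΔ)
    (StFib.repBySp_of_isPullback (IsPullback.of_hasPullback (a ≫ b) b) hab)

/-- The product of two representable presheaves is an algebraic space. -/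
theorem isAlgSpaceP_prod_pyon (U V : Over S) :
    IsAlgSpaceP ((pyon S).obj U ⨯ (pyon S).obj V) :=
  (isAlgSpaceP_pyon (U ⨯ V)).of_iso (Limits.PreservesLimitPair.iso (pyon S) U V)

theorem repBySp_diag_iff (F : PSp S) :
    RepBySp (Limits.diag F) ↔ ∀ (T : Over S) (ξ : (pyon S).obj T ⟶ F), RepBySp ξ := by
  refine ⟨fun h T ξ U η F' fst snd sq => ?_, fun h U ξ F' fst snd sq => ?_⟩
  · exact StFib.isAlgSpaceP_pullback h (isAlgSpaceP_prod_pyon T U)
      (Groth.Agent.AlgSp.isPullback_lift_diag sq)
  · let x := ξ ≫ prod.fst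
    let y := ξ ≫ prod.snd
    have hE : IsAlgSpaceP (pullback x y) := h U x y _ _ (IsPullback.of_hasPullback x y)
    have h1 : fst = snd ≫ x := by
      simpa [x] using congrArg (· ≫ prod.fst) sq.w
    have h2 : fst = snd ≫ y := by
      simpa [y] using congrArg (· ≫ prod.snd) sq.w
    refine isAlgSpaceP_of_isPullback hE (isAlgSpaceP_pyon U) (isAlgSpaceP_prod_pyon U U)
      (f := prod.lift (pullback.fst x y) (pullback.snd x y)) (g := Limits.diag _)
      (fst := pullback.lift snd snd (h1.symm.trans h2)) (snd := snd) ?_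
    have key : ∀ c : PullbackCone (prod.lift (pullback.fst x y) (pullback.snd x y))
        (Limits.diag ((pyon S).obj U)), c.fst ≫ pullback.fst x y = c.snd ∧
          c.fst ≫ pullback.snd x y = c.snd ∧ (c.snd ≫ x) ≫ Limits.diag F = c.snd ≫ ξ := by
      intro c
      have a := congrArg (· ≫ prod.fst) c.condition
      have b := congrArg (· ≫ prod.snd) c.condition
      simp only [Category.assoc, prod.lift_fst, prod.lift_snd, Category.comp_id] at a b
      refine ⟨a, b, ?_⟩
      have hxy : c.snd ≫ x = c.snd ≫ y := by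
        calc c.snd ≫ x = c.fst ≫ pullback.fst x y ≫ x := by rw [← a, Category.assoc]
          _ = c.fst ≫ pullback.snd x y ≫ y := by rw [pullback.condition]
          _ = c.snd ≫ y := by rw [← Category.assoc, b]
      apply prod.hom_ext
      · simp [x]
      · simpa [x, y] using hxy
    refine IsPullback.of_isLimit' ⟨by apply prod.hom_ext <;> simp [prod.lift_fst, prod.lift_snd]⟩
      (PullbackCone.IsLimit.mk _ (fun c => sq.lift (c.snd ≫ x) c.snd (key c).2.2)
        (fun c => ?_) (fun c => sq.lift_snd _ _ _) (fun c m _ hm => sq.hom_ext ?_ ?_))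
    · apply pullback.hom_ext
      · simp [(key c).1]
      · simp [(key c).2.1]
    · rw [sq.lift_fst, ← hm, h1, Category.assoc]
    · rw [sq.lift_snd, hm]

end Groth.Agent.AlgSpB
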