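import Groth.Agent.AlgSpB.LqfSep
import Groth.Agent.AlgSp.PointsMor
import Groth.Agent.AlgSpCov.LocPBasic
import Groth.Agent.AlgSpB.RepBy
import Groth.Agent.AlgSp.DescentSepLqf

/-!
# Bootstrap: maps representable by algebraic spaces that are representable by schemes
-/

universe u

open CategoryTheory CategoryTheory.Limits AlgebraicGeometry Opposite

set_option backward.isDefEq.respectTransparency false
set_option backward.isDefEq.respectTransparency.types false
set_option autoImplicit false

namespace Groth.Agent.AlgSpB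

open _root_.AlgSp

variable {S : Scheme.{u}}

theorem repWith_of_isIso {P : MorphismProperty Scheme.{u}} [P.ContainsIdentities] [P.RespectsIso]
    {F G : Sp S} (f : F ⟶ G) [IsIso f] : RepWith P f := by
  refine ⟨fun Z g => ⟨Z, 𝟙 Z, g ≫ inv f, ?_⟩, fun Z' Z g fst snd sqi => ?_⟩
  · exact IsPullback.of_vert_isIso ⟨by simp⟩
  · have : IsIso ((yon S).map snd) := sqi.isIso_snd_of_isIso
    have : IsIso snd := isIso_of_reflects_iso snd (yon S)
    have : IsIso snd.left := (inferInstance : IsIso ((Over.forget S).map snd))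
    exact MorphismProperty.of_isIso P snd.left

theorem isSeparatedMor_of_mono {F G : Sp S} (f : F ⟶ G) [Mono f] : IsSeparatedMor f :=
  repWith_of_isIso (pullback.diagonal f)

theorem locP_lqf_of_repWith_etale_comp {F G T : Sp S} (j : F ⟶ G) (f : G ⟶ T) (hj : RepWith @Etale j)
    {P : MorphismProperty Scheme.{u}} (hf : LocP P f) : LocP P (j ≫ f) := by
  intro A B α β h hα hβ w
  exact hf (α ≫ j) β h ((RepWith @Etale : MorphismProperty (Sp S)).comp_mem α j hα hj) hβ
    (by rw [Category.assoc]; exact w)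

/-- An algebraic space with a jointly injective map to a scheme and a locally quasi-finite map to a scheme
is a scheme. -/
theorem exists_iso_of_lqf_mono {P : Sp S} (hP : IsAlgSpace P) {X T : Over S} (f : P ⟶ (yon S).obj X)
    (g : P ⟶ (yon S).obj T) (hg : LocP (@LocallyQuasiFinite ⊓ @LocallyOfFiniteType) g)
    (hm : ∀ (W : Over S) (a b : (yon S).obj W ⟶ P), a ≫ f = b ≫ f → a ≫ g = b ≫ g → a = b) :
    ∃ O : Over S, Nonempty ((yon S).obj O ≅ P) := by
  have hloc : ∀ V : X.left.affineOpens, ∃ (Z : Over S) (j : (yon S).obj Z ⟶ P), RepWith @IsOpenImmersion j ∧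
      ∀ x, Points.map f x ∈ Set.range (Points.map ((yon S).map (Groth.Agent.AlgSp.openι X V.1))) →
        x ∈ Set.range (Points.map j) := by
    intro V
    let XV := Groth.Agent.AlgSp.openOver X V.1
    let ιV : XV ⟶ X := Groth.Agent.AlgSp.openι X V.1
    have : IsAffine XV.left := V.2
    have hι : RepWith @IsOpenImmersion ((yon S).map ιV) :=
      (repWith_yon_map_iff _ _).2 (inferInstanceAs (IsOpenImmersion (Scheme.Opens.ι V.1)))
    let PV := pullback f ((yon S).map ιV)
    let j : PV ⟶ P := pullback.fst f ((yon S).map ιV)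
    let fV : PV ⟶ (yon S).obj XV := pullback.snd f ((yon S).map ιV)
    have hj : RepWith @IsOpenImmersion j :=
      MorphismProperty.of_isPullback (IsPullback.of_hasPullback f ((yon S).map ιV)).flip hι
    have hPV : IsAlgSpace PV := Groth.Agent.AlgSp.isAlgSpace_pullback (IsAlgSpace.yon_obj X) hP
      (IsAlgSpace.yon_obj XV) _ _
    have hje : RepWith @Etale j :=
      Groth.Agent.AlgSp.repWith_mono (fun g hg => (have : IsOpenImmersion g := hg; inferInstance : Etale g)) hj
    have hjm := mono_of_isOpenImmersion hj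
    have hjw : j ≫ f = fV ≫ (yon S).map ιV := pullback.condition
    let pr : XV ⨯ T ⟶ T := prod.snd
    let i := prodComparison (yon S) XV T
    have hsep : IsSeparated pr.left := by
      have hXs : IsSeparated XV.hom := inferInstance
      have hpr : IsPullback (prod.fst : XV ⨯ T ⟶ XV).left (prod.snd : XV ⨯ T ⟶ T).left XV.hom T.hom :=
        CategoryTheory.Over.isPullback_of_binaryFan_isLimit (BinaryFan.mk prod.fst prod.snd) (prodIsProd XV T)
      exact MorphismProperty.of_isPullback hpr hXs
    let m : PV ⟶ (yon S).obj (XV ⨯ T) := prod.lift fV (j ≫ g) ≫ inv i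
    have hmm : Mono m := by
      refine Groth.Agent.AlgSp.mono_of_yon m fun W a b hab => ?_
      simp only [m, ← Category.assoc, cancel_mono] at hab
      have h1 := congrArg (· ≫ prod.fst) hab
      have h2 := congrArg (· ≫ prod.snd) hab
      simp only [Category.assoc, prod.lift_fst, prod.lift_snd] at h1 h2
      rw [← cancel_mono j]
      refine hm W _ _ ?_ (by simpa only [Category.assoc] using h2)
      simp only [Category.assoc, hjw, reassoc_of% h1]
    have hmg : m ≫ (yon S).map pr = j ≫ g := by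
      simp only [m, pr, i, Category.assoc]
      rw [IsIso.eq_inv_comp _ |>.2 (prodComparison_snd (yon S) (A := XV) (B := T)) |>.symm]
      exact prod.lift_snd _ _
    have hsp : IsSeparatedMor (j ≫ g) := by
      rw [← hmg]
      exact MorphismProperty.comp_mem (RepWith @IsClosedImmersion : MorphismProperty (Sp S)).diagonal
        m _ (isSeparatedMor_of_mono m) ((isSeparatedMor_yon_map_iff pr).2 hsep)
    obtain ⟨O, ⟨e⟩⟩ := exists_iso_of_lqf_sep hPV (j ≫ g) (locP_lqf_of_repWith_etale_comp j g hje hg) hsp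
    refine ⟨O, e.hom ≫ j, (MorphismProperty.cancel_left_of_respectsIso _ _ _).2 hj, fun x hx => ?_⟩
    obtain ⟨y, hy⟩ := hx
    obtain ⟨z, hz, -⟩ := exists_of_isPullback (IsPullback.of_hasPullback f ((yon S).map ιV)) x y hy.symm
    exact ⟨Points.map e.inv z, by rw [← Points.map_comp, e.inv_hom_id_assoc]; exact hz⟩
  choose Z j hj hmem using hloc
  refine exists_iso_yon_of_openCover hP Z j hj fun x => ?_
  obtain ⟨t, ht⟩ := surjective_ofPt (repWith_of_isIso (P := @Surjective) (𝟙 ((yon S).obj X))) (Points.map f x)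
  obtain ⟨_, ⟨V, hV, rfl⟩, htV, -⟩ := X.left.isBasis_affineOpens.exists_subset_of_mem_open
    (Set.mem_univ t) isOpen_univ
  refine ⟨⟨V, hV⟩, hmem _ x ?_⟩
  let t' : (Groth.Agent.AlgSp.openOver X V).left := ⟨t, htV⟩
  refine ⟨Points.ofPt (𝟙 _) t', ?_⟩
  rw [Points.map_ofPt, Category.id_comp, ← ht, ← Category.comp_id ((yon S).map _), ofPt_map_comp]
  rfl

/-- A map from a scheme which is representable by algebraic spaces and locally quasi-finite is representable. -/
theorem relativelyRepresentable_of_lqf {F : PSp S} {X : Over S} (p : (pyon S).obj X ⟶ F)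
    (hp : RepBySpWith (LocP (@LocallyQuasiFinite ⊓ @LocallyOfFiniteType)) p) :
    (pyon S).relativelyRepresentable p := by
  intro T ξ
  obtain ⟨h, hA, hl⟩ := hp ξ _ _ (IsPullback.of_hasPullback p ξ)
  let P : Sp S := ⟨_, h⟩
  let f : P ⟶ (yon S).obj X := ObjectProperty.homMk (pullback.fst p ξ)
  let g : P ⟶ (yon S).obj T := ObjectProperty.homMk (pullback.snd p ξ)
  obtain ⟨O, ⟨e⟩⟩ := exists_iso_of_lqf_mono (P := P) hA f g hl fun W a b h1 h2 =>
    ObjectProperty.hom_ext _ (pullback.hom_ext (congrArg (fun k => k.hom) h1) (congrArg (fun k => k.hom) h2))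
  obtain ⟨r, hr⟩ := (yon S).map_surjective (e.hom ≫ g)
  let e' : (pyon S).obj O ≅ pullback p ξ := (sheafToPresheaf (J S) (Type (u + 1))).mapIso e
  have hr' : (pyon S).map r = e'.hom ≫ pullback.snd p ξ := congrArg (fun k => k.hom) hr
  exact ⟨O, r, e'.hom ≫ pullback.fst p ξ, (IsPullback.of_hasPullback p ξ).of_iso e'.symm (Iso.refl _) (Iso.refl _)
    (Iso.refl _) (by simp) (by simp [hr']) (by simp) (by simp)⟩

theorem locP_lqf_of_etaleMor {F G : Sp S} {f : F ⟶ G} (hf : IsEtaleMor f) :
    LocP (@LocallyQuasiFinite ⊓ @LocallyOfFiniteType) f := fun U V a b h ha hb w =>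
  have he : Etale h.left := AlgSpCov.locP_etale_of_isEtaleMor hf a b h ha hb w
  ⟨AlgSpCov.etale_le_locallyQuasiFinite _ _ _ he, (inferInstance : LocallyOfFiniteType h.left)⟩

/-- The composite of an atlas with a map representable by algebraic spaces, etale and surjective. -/
theorem atlas_comp {F : PSp S} {X : Sp S} {U : Over S} (q : (yon S).obj U ⟶ X) (hq : RepWith @Etale q)
    (hqs : RepWith @Surjective q) (p : X.obj ⟶ F) (hp : RepBySpWith (IsSurjectiveMor ⊓ IsEtaleMor) p) :
    ∃ hc : (pyon S).relativelyRepresentable (q.hom ≫ p : (pyon S).obj U ⟶ F),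
      ∀ ⦃T : Over S⦄ (x : (pyon S).obj T ⟶ F), Etale (hc.snd x).left ∧ Surjective (hc.snd x).left := by
  have hrel : ∀ {T : Over S} (ξ : (pyon S).obj T ⟶ F), ∃ (V : Over S) (fst : (pyon S).obj V ⟶ (pyon S).obj U)
      (snd : V ⟶ T), IsPullback fst ((pyon S).map snd) (q.hom ≫ p) ξ ∧ Etale snd.left ∧ Surjective snd.left := by
    intro T ξ
    obtain ⟨h1, hA, hs, he⟩ := hp ξ _ _ (IsPullback.of_hasPullback p ξ)
    let P1 : Sp S := ⟨_, h1⟩
    let b : P1 ⟶ X := ObjectProperty.homMk (pullback.fst p ξ)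
    let snd1 : P1 ⟶ (yon S).obj T := ObjectProperty.homMk (pullback.snd p ξ)
    let P2 := pullback q b
    let fst2 := pullback.fst q b
    let snd2 := pullback.snd q b
    have sq2 := IsPullback.of_hasPullback q b
    have h2e : RepWith @Etale snd2 := MorphismProperty.of_isPullback sq2 hq
    have h2s : RepWith @Surjective snd2 := MorphismProperty.of_isPullback sq2 hqs
    have hA2 : IsAlgSpace P2 := by
      obtain ⟨V, v, hve, hvs⟩ := hA.atlas
      obtain ⟨W, w, fw, sw⟩ := h2e.1 v
      refine Groth.Agent.AlgSp.isAlgSpace_of_etale_surjective fw (MorphismProperty.of_isPullback sw.flip hve)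
        (MorphismProperty.of_isPullback sw.flip hvs)
    let g : P2 ⟶ (yon S).obj T := snd2 ≫ snd1
    have hge : IsEtaleMor g := fun W φ hφ => by
      have h := he (φ ≫ snd2) ((RepWith @Etale : MorphismProperty (Sp S)).comp_mem φ snd2 hφ h2e)
      rwa [Category.assoc] at h
    have hgs : IsSurjectiveMor g := fun x => by
      obtain ⟨y, hy⟩ := hs x
      obtain ⟨z, hz⟩ := ((Groth.Agent.AlgSp.repWith_surjective_iff snd2 h2s.1).1 h2s) y
      exact ⟨z, by rw [Points.map_comp, hz, hy]⟩
    have sqP : IsPullback fst2.hom g.hom (q.hom ≫ p) ξ :=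
      (sq2.map (sheafToPresheaf (J S) (Type (u + 1)))).paste_vert (IsPullback.of_hasPullback p ξ)
    obtain ⟨O, ⟨e⟩⟩ := exists_iso_of_lqf_mono hA2 fst2 g (locP_lqf_of_etaleMor hge) fun W a c h1 h2 =>
      ObjectProperty.hom_ext _ (sqP.hom_ext (congrArg (fun k => k.hom) h1) (congrArg (fun k => k.hom) h2))
    obtain ⟨r, hr⟩ := (yon S).map_surjective (e.hom ≫ g)
    let e' : (pyon S).obj O ≅ P2.obj := (sheafToPresheaf (J S) (Type (u + 1))).mapIso e
    have hr' : (pyon S).map r = e'.hom ≫ g.hom := congrArg (fun k => k.hom) hr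
    refine ⟨O, e'.hom ≫ fst2.hom, r, sqP.of_iso e'.symm (Iso.refl _) (Iso.refl _) (Iso.refl _) (by simp)
      (by simp [hr']) (by simp) (by simp), ?_, ⟨fun t => ?_⟩⟩
    · refine (isEtaleMor_yon_map_iff r).1 ?_
      rw [hr]
      intro W φ hφ
      have h := hge (φ ≫ e.hom) ((RepWith @Etale : MorphismProperty (Sp S)).comp_mem φ e.hom hφ (repWith_of_isIso e.hom))
      rwa [Category.assoc] at h
    · obtain ⟨z, hz⟩ := hgs (Points.ofScheme T t)
      obtain ⟨v, hv⟩ := surjective_ofPt (repWith_of_isIso (P := @Surjective) (𝟙 ((yon S).obj O))) (Points.map e.inv z)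
      refine ⟨v, ?_⟩
      have := congrArg (Points.map (e.hom ≫ g)) hv
      rw [← Points.map_comp e.inv, e.inv_hom_id_assoc, hz, ← hr, Points.map_ofPt, Category.id_comp] at this
      have h' := congrArg (Points.toScheme T) this
      rw [Points.toScheme_ofPt, Points.toScheme_ofScheme] at h'
      exact h'
  let P : MorphismProperty (Over S) := MorphismProperty.inverseImage (@Etale ⊓ @Surjective) (Over.forget S)
  have h : P.relative (pyon S) (q.hom ≫ p) := MorphismProperty.relative.of_exists fun T ξ => by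
    obtain ⟨V, fst, snd, h1, h2, h3⟩ := hrel ξ
    exact ⟨V, fst, snd, h1, h2, h3⟩
  exact ⟨h.1, fun T x => h.2 _ _ _ (h.1.isPullback x)⟩

end Groth.Agent.AlgSpB
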