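import Groth.Agent.AlgSpB.Bootstrap
import Groth.Agent.AlgSp.LocPFin
import Mathlib.AlgebraicGeometry.Morphisms.FlatMono
import Mathlib.RingTheory.Unramified.LocalStructure

/-!
# Bootstrap: descent of separated locally quasi-finite maps along maps representable by algebraic spaces
-/

universe u

open CategoryTheory CategoryTheory.Limits AlgebraicGeometry Opposite

set_option backward.isDefEq.respectTransparency false
set_option backward.isDefEq.respectTransparency.types false
set_option autoImplicit false

namespace Groth.Agent.AlgSpB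

open _root_.AlgSp

variable {S : Scheme.{u}}

theorem lqf_of_lft_unramified {A B : Scheme.{u}} (g : A ⟶ B) [h1 : LocallyOfFiniteType g]
    [h2 : FormallyUnramified g] : LocallyQuasiFinite g := ⟨fun {U} hU {V} hV e => by
  have hft := h1.finiteType_appLE hU hV e
  have hun := h2.formallyUnramified_appLE hU hV e
  algebraize [(g.appLE U V e).hom]
  exact RingHom.quasiFinite_algebraMap.2 inferInstance⟩

/-- The three properties used for effective descent, from the two properties. -/
theorem repWith_of_forall_snd {P : MorphismProperty Scheme.{u}} [P.IsStableUnderBaseChange]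
    {F G : Sp S} (a : F ⟶ G)
    (h : ∀ (T : Over S) (g : (yon S).obj T ⟶ G), RepWith P (pullback.snd a g)) : RepWith P a := by
  have : P.RespectsIso := MorphismProperty.IsStableUnderBaseChange.respectsIso
  refine ⟨fun T g => ?_, fun T V g fst snd sq => ?_⟩
  · obtain ⟨W, w, fst, sW⟩ := (h T g).1 (𝟙 _)
    exact ⟨W, w, fst ≫ pullback.fst a g, by simpa using sW.paste_horiz (IsPullback.of_hasPullback a g)⟩
  · have e := IsPullback.isoIsPullback_hom_snd _ _ sq (IsPullback.of_hasPullback a g)
    refine (repWith_yon_map_iff P snd).1 ?_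
    rw [← e]
    exact (MorphismProperty.cancel_left_of_respectsIso _ _ _).2 (h T g)

/-- Pullbacks of sheaves along a map representable by algebraic spaces. -/
theorem pullback_props {F G : Sp S} {a : F ⟶ G} {Q : MorphismProperty (Sp S)} (ha : RepBySpWith Q a.hom)
    {T : Over S} (g : (yon S).obj T ⟶ G) : IsAlgSpace (pullback a g) ∧ Q (pullback.snd a g) := by
  obtain ⟨_, hA, hQ⟩ := ha g.hom _ _ ((IsPullback.of_hasPullback a g).map (sheafToPresheaf (J S) (Type (u + 1))))
  exact ⟨hA, hQ⟩

/-- An fppf cover of a scheme lifting a map through a map representable by algebraic spaces, flat lfp surjective. -/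
theorem exists_fppf_lift {F G : Sp S} {a : F ⟶ G}
    (ha : RepBySpWith (IsSurjectiveMor ⊓ LocP @Flat ⊓ LocP @LocallyOfFinitePresentation) a.hom)
    {T : Over S} (g : (yon S).obj T ⟶ G) :
    ∃ (V : Over S) (k : V ⟶ T) (l : (yon S).obj V ⟶ F), Flat k.left ∧ Surjective k.left ∧
      LocallyOfFinitePresentation k.left ∧ l ≫ a = (yon S).map k ≫ g := by
  obtain ⟨hA, ⟨hs, hfl⟩, hlfp⟩ := pullback_props ha g
  obtain ⟨V, p, hpe, hps⟩ := hA.atlas
  let k : V ⟶ T := (yon S).preimage (p ≫ pullback.snd a g)
  have hk : (yon S).map k = p ≫ pullback.snd a g := Functor.map_preimage _ _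
  have hid : RepWith @Etale (𝟙 ((yon S).obj T)) := repWith_of_isIso _
  refine ⟨V, k, p ≫ pullback.fst a g, hfl p (𝟙 _) k hpe hid (by rw [hk, Category.comp_id]), ⟨fun x => ?_⟩,
    hlfp p (𝟙 _) k hpe hid (by rw [hk, Category.comp_id]),
    by rw [Category.assoc, pullback.condition, hk, Category.assoc]⟩
  obtain ⟨y, hy⟩ := hs (Points.ofScheme T x)
  obtain ⟨v, rfl⟩ := surjective_ofPt hps y
  refine ⟨v, ?_⟩
  have := congrArg (Points.toScheme T) hy
  rw [Points.map_ofPt, ← hk, Points.toScheme_ofScheme] at this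
  rw [← Category.comp_id ((yon S).map k), ofPt_map_comp, ← (yon S).map_id, Points.toScheme_ofPt] at this
  exact this

theorem repWith_sepLqf_yon {V T : Over S} {f : (yon S).obj V ⟶ (yon S).obj T}
    (hl : LocP (@LocallyQuasiFinite ⊓ @LocallyOfFiniteType) f) (hs : IsSeparatedMor f) :
    RepWith (@IsSeparated ⊓ @LocallyQuasiFinite ⊓ @LocallyOfFiniteType) f := by
  obtain ⟨h, rfl⟩ := (yon S).map_surjective f
  obtain ⟨h1, h2⟩ := hl (𝟙 _) (𝟙 _) h (repWith_of_isIso _) (repWith_of_isIso _) (by simp)
  exact (repWith_yon_map_iff _ _).2 ⟨⟨(isSeparatedMor_yon_map_iff h).1 hs, h1⟩, h2⟩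

theorem repWith_sepLqf_of_space {F : Sp S} (hF : IsAlgSpace F) {T : Over S} (f : F ⟶ (yon S).obj T)
    (hl : LocP (@LocallyQuasiFinite ⊓ @LocallyOfFiniteType) f) (hs : IsSeparatedMor f) :
    RepWith (@IsSeparated ⊓ @LocallyQuasiFinite ⊓ @LocallyOfFiniteType) f := by
  obtain ⟨O, ⟨e⟩⟩ := exists_iso_of_lqf_sep hF f hl hs
  refine (MorphismProperty.cancel_left_of_respectsIso _ e.hom f).1 (repWith_sepLqf_yon ?_ ?_)
  · exact locP_lqf_of_repWith_etale_comp e.hom f (repWith_of_isIso _) hl
  · exact MorphismProperty.comp_mem (RepWith @IsClosedImmersion : MorphismProperty (Sp S)).diagonal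
      e.hom f (isSeparatedMor_of_mono _) hs

/-- Descent of separated lqf maps along maps representable by algebraic spaces, flat, lfp and surjective. -/
theorem repWith_sepLqf_of_repBy {E F G H : Sp S} (a : E ⟶ F) (f : E ⟶ H) (g : F ⟶ G) (b : H ⟶ G)
    (sq : IsPullback a f g b)
    (hg : RepBySpWith (IsSurjectiveMor ⊓ LocP @Flat ⊓ LocP @LocallyOfFinitePresentation) g.hom)
    (ha : RepBySpWith (IsSeparatedMor ⊓ LocP (@LocallyQuasiFinite ⊓ @LocallyOfFiniteType)) a.hom) :
    RepWith (@IsSeparated ⊓ @LocallyQuasiFinite ⊓ @LocallyOfFiniteType) b := by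
  refine repWith_of_forall_snd b fun T ξ => ?_
  obtain ⟨W, k, l, hkf, hks, hkp, hl⟩ := exists_fppf_lift hg ξ
  obtain ⟨hA, hs, hq⟩ := pullback_props ha l
  have hQ := repWith_sepLqf_of_space hA (pullback.snd a l) hq hs
  have s1 : IsPullback (pullback.fst a l ≫ f) (pullback.snd a l) b ((yon S).map k ≫ ξ) := by
    rw [← hl]
    exact (IsPullback.of_hasPullback a l).flip.paste_vert sq |>.flip
  obtain ⟨π, h1, h2⟩ := (IsPullback.of_hasPullback b ξ).exists_lift (pullback.fst a l ≫ f)
    (pullback.snd a l ≫ (yon S).map k) (by rw [s1.w, Category.assoc])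
  have s2 : IsPullback π (pullback.snd a l) (pullback.snd b ξ) ((yon S).map k) :=
    IsPullback.of_right (by rw [h1]; exact s1) h2 (IsPullback.of_hasPullback b ξ)
  have := locSurj_yon k
  exact Groth.Agent.AlgSp.repWith_sepLqf_of_baseChange (pullback.snd b ξ) ((yon S).map k) s2 hQ

/-- A monomorphism to a scheme which is locally of finite type is locally quasi-finite. -/
theorem locP_lqf_of_mono {P : Sp S} (hP : IsAlgSpace P) {T : Over S} (m : P ⟶ (yon S).obj T) [Mono m]
    (hm : LocP @LocallyOfFiniteType m) : LocP (@LocallyQuasiFinite ⊓ @LocallyOfFiniteType) m := by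
  intro U V a b h ha hb w
  have hlft : LocallyOfFiniteType h.left := hm a b h ha hb w
  refine ⟨?_, hlft⟩
  obtain ⟨c, rfl⟩ := (yon S).map_surjective b
  have hc : Etale c.left := (repWith_yon_map_iff _ _).1 hb
  have hw : (yon S).map (h ≫ c) = a ≫ m := by rw [Functor.map_comp, w]
  obtain ⟨R, t, s, sq⟩ := exists_pullback_yon ha.1 a
  have hs : Etale s.left := ha.2 _ _ _ sq
  obtain ⟨e, he1, he2⟩ := relRaw_refl sq
  have sqm : IsPullback ((yon S).map t) ((yon S).map s) ((yon S).map (h ≫ c)) ((yon S).map (h ≫ c)) :=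
    hw ▸ isPullback_comp_mono sq m
  have sqO : IsPullback t.left s.left (h ≫ c).left (h ≫ c).left :=
    isPullback_map_left (IsPullback.of_map (yon S) ((yon S).map_injective (by
      rw [Functor.map_comp, Functor.map_comp]; exact sqm.w)) sqm)
  have : Mono e := ⟨fun x y hxy => by simpa [Category.assoc, he1] using congrArg (· ≫ t.left) hxy⟩
  have : Etale e := MorphismProperty.of_postcomp @Etale e s.left hs
    (by rw [he2]; exact (inferInstance : Etale (𝟙 U.left)))
  have : IsOpenImmersion e := IsOpenImmersion.of_flat_of_mono e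
  have ed : e ≫ sqO.isoPullback.hom = pullback.diagonal (h ≫ c).left := by
    apply pullback.hom_ext <;> simp [he1, he2]
  have : IsOpenImmersion (pullback.diagonal (h ≫ c).left) := ed ▸ inferInstance
  have hun : FormallyUnramified (h.left ≫ c.left) := (inferInstance : FormallyUnramified (h ≫ c).left)
  have := FormallyUnramified.of_comp h.left c.left
  exact lqf_of_lft_unramified h.left

end Groth.Agent.AlgSpB

namespace Groth.Agent.AlgSpB

open _root_.AlgSp

variable {S : Scheme.{u}}

theorem diag_fst_snd {Y : Sp S} : Limits.diag Y ≫ prod.fst = 𝟙 Y ∧ Limits.diag Y ≫ prod.snd = 𝟙 Y :=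
  ⟨prod.lift_fst _ _, prod.lift_snd _ _⟩

/-- The diagonal of a sheaf with an fppf cover by an algebraic space, representable by algebraic spaces, is
representable. -/
theorem representable_diag_of_fppf_cover {F X : Sp S} (hX : IsAlgSpace X) (p : X ⟶ F)
    (hp : RepBySpWith (IsSurjectiveMor ⊓ LocP @Flat ⊓ LocP @LocallyOfFinitePresentation) p.hom) :
    RepWith (@IsSeparated ⊓ @LocallyQuasiFinite ⊓ @LocallyOfFiniteType) (Limits.diag F) := by
  refine repWith_of_forall_snd _ fun T ξ => ?_
  obtain ⟨W₁, k₁, l₁, _, _, _, hl₁⟩ := exists_fppf_lift hp (ξ ≫ prod.fst)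
  obtain ⟨W, k₂, y, _, _, _, hy⟩ := exists_fppf_lift hp ((yon S).map k₁ ≫ ξ ≫ prod.snd)
  let k := k₂ ≫ k₁
  have : Flat k.left := inferInstanceAs (Flat (k₂.left ≫ k₁.left))
  have : Surjective k.left := inferInstanceAs (Surjective (k₂.left ≫ k₁.left))
  have : LocallyOfFinitePresentation k.left := inferInstanceAs (LocallyOfFinitePresentation (k₂.left ≫ k₁.left))
  let x := (yon S).map k₂ ≫ l₁
  have hx' : x ≫ p = ((yon S).map k ≫ ξ) ≫ prod.fst := by
    simp only [x, k, Functor.map_comp, Category.assoc, hl₁]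
  have hy' : y ≫ p = ((yon S).map k ≫ ξ) ≫ prod.snd := by
    simp only [k, Functor.map_comp, Category.assoc, hy]
  obtain ⟨hP, -, hlfp⟩ := pullback_props hp (y ≫ p)
  let P := pullback p (y ≫ p)
  let pX : P ⟶ X := pullback.fst p (y ≫ p)
  let pW : P ⟶ (yon S).obj W := pullback.snd p (y ≫ p)
  let m : P ⟶ X ⨯ X := prod.lift pX (pW ≫ x)
  let Q := pullback (Limits.diag X) m
  let qX : Q ⟶ X := pullback.fst (Limits.diag X) m
  let qP : Q ⟶ P := pullback.snd (Limits.diag X) m
  let r : Q ⟶ (yon S).obj W := qP ≫ pW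
  have hqP : RepWith @LocallyOfFiniteType qP := MorphismProperty.of_isPullback
    (IsPullback.of_hasPullback (Limits.diag X) m) (Groth.Agent.AlgSp.repWith_diag_lft X hX)
  have hqm : Mono qP := inferInstance
  have hQ : IsAlgSpace Q := isAlgSpace_of_mono_representable hP qP hqP.1
  have e1 : qP ≫ pX = qX := by
    have := congrArg (· ≫ prod.fst) (pullback.condition : qX ≫ Limits.diag X = qP ≫ m)
    simp only [Category.assoc, m, prod.lift_fst, diag_fst_snd.1, Category.comp_id] at this
    exact this.symm
  have e2 : qP ≫ pW ≫ x = qX := by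
    have := congrArg (· ≫ prod.snd) (pullback.condition : qX ≫ Limits.diag X = qP ≫ m)
    simp only [Category.assoc, m, prod.lift_snd, diag_fst_snd.2, Category.comp_id] at this
    exact this.symm
  have hpc : pX ≫ p = pW ≫ y ≫ p := pullback.condition
  have sq : IsPullback (qX ≫ p) r (Limits.diag F) ((yon S).map k ≫ ξ) := by
    have hex : ∀ c : PullbackCone (Limits.diag F) ((yon S).map k ≫ ξ), ∃ l : c.pt ⟶ Q,
        l ≫ qX ≫ p = c.fst ∧ l ≫ r = c.snd := by
      intro c
      have h1 : (c.snd ≫ x) ≫ p = c.fst := by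
        have := congrArg (· ≫ prod.fst) c.condition
        simp only [Category.assoc, diag_fst_snd.1, Category.comp_id] at this
        rw [Category.assoc, hx', Category.assoc]; exact this.symm
      have h2 : (c.snd ≫ y) ≫ p = c.fst := by
        have := congrArg (· ≫ prod.snd) c.condition
        simp only [Category.assoc, diag_fst_snd.2, Category.comp_id] at this
        rw [Category.assoc, hy', Category.assoc]; exact this.symm
      have h3 : (c.snd ≫ x) ≫ p = c.snd ≫ y ≫ p := by rw [h1, ← Category.assoc, h2]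
      let l₀ : c.pt ⟶ P := pullback.lift (c.snd ≫ x) c.snd h3
      refine ⟨pullback.lift (c.snd ≫ x) l₀ ?_, ?_, ?_⟩
      · apply prod.hom_ext
        · simp only [Category.assoc, diag_fst_snd.1, Category.comp_id, m, prod.lift_fst, l₀, pX, pullback.lift_fst]
        · simp only [Category.assoc, diag_fst_snd.2, Category.comp_id, m, prod.lift_snd, l₀, pW,
            pullback.lift_snd_assoc]
      · simp only [qX, pullback.lift_fst_assoc]; rw [h1]
      · simp only [r, qP, pW, l₀, pullback.lift_snd_assoc, pullback.lift_snd]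
    choose l hl using hex
    refine IsPullback.of_isLimit' ⟨?_⟩ (PullbackCone.IsLimit.mk _ l (fun c => (hl c).1) (fun c => (hl c).2)
      fun c l' h1 h2 => ?_)
    · apply prod.hom_ext
      · rw [Category.assoc, diag_fst_snd.1, Category.comp_id, Category.assoc, ← hx', ← e2]
        simp only [r, Category.assoc]
      · rw [Category.assoc, diag_fst_snd.2, Category.comp_id, Category.assoc, ← hy', ← e1]
        simp only [r, Category.assoc, hpc]
    · have hW : (l' ≫ qP) ≫ pW = (l c ≫ qP) ≫ pW := by
        rw [Category.assoc, Category.assoc]; exact h2.trans (hl c).2.symm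
      rw [← cancel_mono qP]
      apply pullback.hom_ext
      · change (l' ≫ qP) ≫ pX = (l c ≫ qP) ≫ pX
        rw [Category.assoc, Category.assoc, e1, ← e2, ← Category.assoc, ← Category.assoc, ← Category.assoc,
          ← Category.assoc, hW]
        simp only [x, Category.assoc]
      · exact hW
  have : Mono (Limits.diag F) := mono_of_mono_fac diag_fst_snd.1
  have hrm : Mono r := MorphismProperty.of_isPullback (P := MorphismProperty.monomorphisms (Sp S)) sq this
  have hlft : LocP @LocallyOfFiniteType r := AlgSpCov.locP_comp AlgSpCov.etaleLocal_locallyOfFiniteType hP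
    (IsAlgSpace.yon_obj W) (AlgSpCov.locP_of_repWith AlgSpCov.etaleLocal_locallyOfFiniteType hqP)
    (fun U V a b h ha hb w => (have : LocallyOfFinitePresentation h.left := hlfp a b h ha hb w; inferInstance))
  obtain ⟨π, h1, h2⟩ := (IsPullback.of_hasPullback (Limits.diag F) ξ).exists_lift (qX ≫ p)
    (r ≫ (yon S).map k) (by rw [sq.w]; simp only [r, Category.assoc])
  have s2 : IsPullback π r (pullback.snd (Limits.diag F) ξ) ((yon S).map k) :=
    IsPullback.of_right (by rw [h1]; exact sq) h2 (IsPullback.of_hasPullback _ ξ)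
  have := locSurj_yon k
  exact Groth.Agent.AlgSp.repWith_sepLqf_of_baseChange _ ((yon S).map k) s2
    (repWith_sepLqf_of_space hQ r (locP_lqf_of_mono hQ r hlft) (isSeparatedMor_of_mono r))

end Groth.Agent.AlgSpB
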