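import Mathlib.AlgebraicGeometry.Morphisms.OpenImmersion
import Mathlib.AlgebraicGeometry.Morphisms.ClosedImmersion
import Mathlib.AlgebraicGeometry.Morphisms.Flat

/-!
# Clopen subschemes of affine schemes and idempotents
-/

universe u

open CategoryTheory CategoryTheory.Limits AlgebraicGeometry TopologicalSpace

set_option backward.isDefEq.respectTransparency false
set_option autoImplicit false

namespace Groth.Agent.AlgSpB

theorem injective_appTop_of_flat_surjective {X Y : Scheme.{u}} [IsAffine X] [IsAffine Y] (f : X ⟶ Y)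
    [Flat f] [Surjective f] : Function.Injective f.appTop := by
  have h : f.appTop.hom.FaithfullyFlat :=
    (Flat.flat_and_surjective_iff_faithfullyFlat_of_isAffine f).1 ⟨inferInstance, inferInstance⟩
  exact h.injective

theorem eq_of_isIdempotentElem_of_basicOpen_eq {X : Scheme.{u}} [IsAffine X] {a b : Γ(X, ⊤)}
    (ha : IsIdempotentElem a) (hb : IsIdempotentElem b) (h : X.basicOpen a = X.basicOpen b) : a = b := by
  refine PrimeSpectrum.basicOpen_injOn_isIdempotentElem ha hb ?_
  rw [← Scheme.toSpecΓ_preimage_basicOpen, ← Scheme.toSpecΓ_preimage_basicOpen] at h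
  refine TopologicalSpace.Opens.ext ?_
  exact (X.isoSpec.hom.homeomorph.surjective.preimage_injective) (congrArg (fun o : X.Opens => (o : Set X)) h)

/-- The idempotent of a clopen subscheme of an affine scheme. -/
theorem exists_clopen_idem {W X : Scheme.{u}} [IsAffine X] (i : W ⟶ X) [IsOpenImmersion i]
    [IsClosedImmersion i] :
    ∃ e : Γ(X, ⊤), IsIdempotentElem e ∧ i.appTop e = 1 ∧ (∀ x, i.appTop x = 0 → x * e = 0) ∧
      (X.basicOpen e : Set X) = Set.range i := by
  obtain ⟨hW, hsurj⟩ := IsClosedImmersion.isAffine_surjective_of_isAffine i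
  have hs : IsOpenImmersion (Spec.map i.appTop) :=
    (MorphismProperty.arrow_mk_iso_iff @IsOpenImmersion (arrowIsoSpecΓOfIsAffine i)).1 inferInstance
  obtain ⟨ε, hε, hk⟩ := (isOpenImmersion_SpecMap_iff_of_surjective i.appTop hsurj).1 hs
  have hεm : i.appTop ε = 0 := by
    change ε ∈ RingHom.ker i.appTop.hom
    rw [hk]; exact Ideal.subset_span rfl
  have he1 : i.appTop (1 - ε) = 1 := by
    rw [map_sub, map_one, hεm, sub_zero]
  refine ⟨1 - ε, hε.one_sub, he1, fun x hx => ?_, ?_⟩
  · have : x ∈ Ideal.span {ε} := hk ▸ (show x ∈ RingHom.ker i.appTop.hom from hx)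
    obtain ⟨a, rfl⟩ := Ideal.mem_span_singleton'.1 this
    rw [mul_assoc, mul_sub, mul_one, hε.eq, sub_self, mul_zero]
  · apply Set.Subset.antisymm
    · intro x hx
      have hx' : 1 - ε ∉ (X.isoSpec.hom x).asIdeal := by
        rw [← Scheme.toSpecΓ_preimage_basicOpen] at hx
        exact hx
      have hε' : ε ∈ (X.isoSpec.hom x).asIdeal := by
        refine ((X.isoSpec.hom x).isPrime.mem_or_mem (show ε * (1 - ε) ∈ _ from ?_)).resolve_right hx'
        rw [mul_sub, mul_one, hε.eq, sub_self]
        exact zero_mem _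
      have : X.isoSpec.hom x ∈ Set.range (Spec.map i.appTop) := by
        change X.isoSpec.hom x ∈ Set.range (PrimeSpectrum.comap i.appTop.hom)
        rw [range_comap_of_surjective _ _ hsurj, hk]
        exact (PrimeSpectrum.mem_zeroLocus _ _).2 ((Ideal.span_singleton_le_iff_mem _).2 hε')
      obtain ⟨w, hw⟩ := this
      refine ⟨W.isoSpec.inv w, X.isoSpec.hom.homeomorph.injective ?_⟩
      change X.isoSpec.hom (i (W.isoSpec.inv w)) = X.isoSpec.hom x
      rw [← hw, ← Scheme.Hom.comp_apply, ← Scheme.Hom.comp_apply,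
        ← Scheme.isoSpec_hom_naturality, Iso.inv_hom_id_assoc]
    · rintro _ ⟨w, rfl⟩
      have : i ⁻¹ᵁ X.basicOpen (1 - ε) = ⊤ := by
        rw [Scheme.preimage_basicOpen, show i.app ⊤ (1 - ε) = 1 from he1]
        exact Scheme.basicOpen_of_isUnit _ isUnit_one
      exact this.ge (show w ∈ (⊤ : W.Opens) from trivial)

/-- Open immersion criterion by an idempotent. -/
theorem isOpenImmersion_of_idem {M Y : Scheme.{u}} [IsAffine M] [IsAffine Y] (c : M ⟶ Y) (e : Γ(Y, ⊤))
    (he : IsIdempotentElem e) (he1 : c.appTop e = 1) (hsurj : Function.Surjective c.appTop)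
    (hker : ∀ y, c.appTop y = 0 → y * e = 0) : IsOpenImmersion c := by
  refine (MorphismProperty.arrow_mk_iso_iff @IsOpenImmersion (arrowIsoSpecΓOfIsAffine c)).2 ?_
  refine (isOpenImmersion_SpecMap_iff_of_surjective c.appTop hsurj).2 ⟨1 - e, he.one_sub, le_antisymm ?_ ?_⟩
  · intro y hy
    refine Ideal.mem_span_singleton'.2 ⟨y, ?_⟩
    rw [mul_sub, mul_one, hker y hy, sub_zero]
  · rw [Ideal.span_singleton_le_iff_mem]
    change c.appTop (1 - e) = 0
    rw [map_sub, map_one, he1, sub_self]

end Groth.Agent.AlgSpB
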