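import Groth.Prelude.Def_AlgSpGpd
import Groth.Agent.AlgSpB.Open
import Groth.Agent.AlgSpB.Charts
import Groth.Agent.AlgSpB.Gpd
import Groth.Agent.AlgSp.QCMor

/-!
Invariant open subspaces of a groupoid.
-/

set_option backward.isDefEq.respectTransparency false
set_option backward.isDefEq.respectTransparency.types false

universe u

open CategoryTheory CategoryTheory.Limits AlgebraicGeometry

namespace Groth.Agent.AlgSpB

open _root_.AlgSp

variable {S : Scheme.{u}} {B : Sp S} (G : GroupoidSp B)

theorem mem_saturation_iff (W : Set (Points G.U)) (ρ : Points G.R) :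
    Points.map G.t ρ ∈ Points.map G.s '' (Points.map G.t ⁻¹' W) ↔
      Points.map G.s ρ ∈ Points.map G.s '' (Points.map G.t ⁻¹' W) := by
  have key : ∀ ρ : Points G.R, Points.map G.t ρ ∈ Points.map G.s '' (Points.map G.t ⁻¹' W) →
      Points.map G.s ρ ∈ Points.map G.s '' (Points.map G.t ⁻¹' W) := by
    rintro ρ ⟨σ, hσ, hs⟩
    obtain ⟨p, hp1, hp2⟩ := exists_of_isPullback (IsPullback.of_hasPullback G.s G.t) σ ρ hs
    have ht : G.c ≫ G.t = pullback.fst G.s G.t ≫ G.t := by rw [Gpd.c_eq, Gpd.comp_t]
    have hs' : G.c ≫ G.s = pullback.snd G.s G.t ≫ G.s := by rw [Gpd.c_eq, Gpd.comp_s]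
    refine ⟨Points.map G.c p, ?_, ?_⟩
    · rwa [Set.mem_preimage, ← Points.map_comp, ht, Points.map_comp, hp1]
    · rw [← Points.map_comp, hs', Points.map_comp, hp2]
  refine ⟨key ρ, fun h => ?_⟩
  have := key (Points.map G.i ρ) (by rwa [← Points.map_comp, G.i_t])
  rwa [← Points.map_comp, G.i_s] at this

theorem isInvariant_of_range {W' : Sp S} (w' : W' ⟶ G.U) (hw' : RepWith @IsOpenImmersion w')
    (W : Set (Points G.U))
    (h : Set.range (Points.map w') = Points.map G.s '' (Points.map G.t ⁻¹' W)) :
    G.IsInvariant w' := by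
  intro T r
  rw [exists_factor_isOpenImmersion_iff hw', exists_factor_isOpenImmersion_iff hw', h,
    Set.range_subset_iff, Set.range_subset_iff]
  refine forall_congr' fun x => ?_
  rw [Points.map_comp, Points.map_comp]
  exact mem_saturation_iff G W _

theorem isQuasiCompactSp_of_range {F W' : Sp S} (w : W' ⟶ F) (hF : IsAlgSpace F)
    (hw : RepWith @IsOpenImmersion w) (hc : IsCompact (Set.range (Points.map w))) :
    IsQuasiCompactSp W' := by
  have := mono_of_isOpenImmersion hw
  refine Groth.Agent.AlgSp.isQuasiCompactSp_of_compactSpace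
    (isAlgSpace_of_mono_representable hF w hw.1) ⟨?_⟩
  have ho : IsOpenMap (Points.map w) := Groth.Agent.AlgSp.isOpenMap_map_of_repWith
    (Groth.Agent.AlgSp.repWith_mono (Q := @UniversallyOpen) (fun f hf => have : IsOpenImmersion f := hf; inferInstance) hw)
  have he := Topology.IsOpenEmbedding.of_continuous_injective_isOpenMap (Points.continuous_map w)
    (injective_map_of_mono w) ho
  rwa [he.isEmbedding.isInducing.isCompact_iff, Set.image_univ]

theorem exists_invariant_quasiCompact (hU : IsAlgSpace G.U)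
    (hs : IsOpenMor G.s) (ht : IsQuasiCompactMor G.t) (x : Points G.U) :
    ∃ (W : Sp S) (w : W ⟶ G.U), RepWith @IsOpenImmersion w ∧ G.IsInvariant w ∧
      IsQuasiCompactSp W ∧ x ∈ Set.range (Points.map w) := by
  obtain ⟨U, p, hpe, hps⟩ := hU.atlas
  obtain ⟨V, hVo, hVc, hxV, -⟩ := exists_isOpen_isCompact_nhd hpe hps x Set.univ isOpen_univ trivial
  have hc : IsCompact (Points.map G.s '' (Points.map G.t ⁻¹' V)) :=
    (Groth.Agent.AlgSp.isCompact_preimage hU G.t ht V hVo hVc).image (Points.continuous_map _)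
  have ho : IsOpen (Points.map G.s '' (Points.map G.t ⁻¹' V)) :=
    hs _ (hVo.preimage (Points.continuous_map _))
  have hw := repWith_openSubι (G := G.U) ho
  refine ⟨_, openSubι G.U _, hw, isInvariant_of_range G _ hw V (range_openSubι _),
    isQuasiCompactSp_of_range _ hU hw (by rw [range_openSubι]; exact hc), ?_⟩
  rw [range_openSubι]
  refine ⟨Points.map G.e x, ?_, by rw [← Points.map_comp, G.e_s, Points.map_id]⟩
  rwa [Set.mem_preimage, ← Points.map_comp, G.e_t, Points.map_id]

end Groth.Agent.AlgSpB
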