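import Groth.Agent.AlgSpB.SplitField
import Groth.Agent.AlgSpB.OpenGlue
import Groth.Agent.AlgSpB.Points
import Groth.Agent.AlgSp.DescentLqf
import Groth.Agent.AlgSpCov.EtaleMono
import Groth.Agent.AlgSpCov.Listed

/-!
Algebraic spaces etale over a field are schemes.
-/

set_option backward.isDefEq.respectTransparency false
set_option backward.isDefEq.respectTransparency.types false

universe u

open CategoryTheory CategoryTheory.Limits AlgebraicGeometry

namespace Groth.Agent.AlgSpB

open _root_.AlgSp Groth.Agent.AlgSp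

variable {S : Scheme.{u}}

theorem scheme_etale_field_finite {X : Scheme.{u}} {K : Type u} [Field K] (w : X ⟶ Spec (CommRingCat.of K))
    [Etale w] [CompactSpace X] : Finite X ∧ DiscreteTopology X := by
  have : QuasiCompact w := (quasiCompact_iff_compactSpace w).2 inferInstance
  have : LocallyQuasiFinite w := AlgSpCov.etale_le_locallyQuasiFinite _ _ w ‹_›
  have hd : DiscreteTopology (w ⁻¹' {(default : PrimeSpectrum K)}) := (w.isDiscrete_preimage_singleton _).to_subtype
  have he : w ⁻¹' {(default : PrimeSpectrum K)} = Set.univ := Set.eq_univ_of_forall fun x =>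
    (inferInstance : Subsingleton (PrimeSpectrum K)).elim _ _
  rw [he] at hd
  have : DiscreteTopology X := (Homeomorph.Set.univ X).discreteTopology
  exact ⟨finite_of_compact_of_discrete, this⟩

theorem exists_iso_of_affine_atlas {X : Sp S} (hX : IsAlgSpace X) {k : Type u} [Field k]
    {str : Spec (CommRingCat.of k) ⟶ S} (f : X ⟶ (yon S).obj (Over.mk str)) {A : Over S} [IsAffine A.left]
    (q : (yon S).obj A ⟶ X) (hq : RepWith @Etale q) (hqs : RepWith @Surjective q) {ψ : A ⟶ Over.mk str}
    (hψ : (yon S).map ψ = q ≫ f) (hψe : Etale ψ.left) :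
    ∃ W : Over S, Nonempty ((yon S).obj W ≅ X) := by
  obtain ⟨K, _, b, hfl, hsu, hfp, hsplit⟩ := exists_splitting ψ.left
  let V : Over S := Over.mk (b ≫ str)
  let β : V ⟶ Over.mk str := Over.homMk b rfl
  let AK : Over S := Over.mk (pullback.snd ψ.left b ≫ V.hom)
  let π₁ : AK ⟶ A := Over.homMk (pullback.fst ψ.left b) (by
    change _ = pullback.snd ψ.left b ≫ b ≫ str
    rw [← pullback.condition_assoc]
    exact congrArg (_ ≫ ·) (Over.w ψ).symm)
  let π₂ : AK ⟶ V := Over.homMk (pullback.snd ψ.left b) rfl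
  have sqA : IsPullback π₁ π₂ ψ β :=
    IsPullback.of_map (Over.forget S) (Over.OverMorphism.ext pullback.condition)
      (IsPullback.of_hasPullback ψ.left b)
  have sqP := IsPullback.of_hasPullback f ((yon S).map β)
  have hP : IsAlgSpace (pullback f ((yon S).map β)) :=
    isAlgSpace_pullback (IsAlgSpace.yon_obj _) hX (IsAlgSpace.yon_obj _) f _
  have hwA : ((yon S).map π₁ ≫ q) ≫ f = (yon S).map π₂ ≫ (yon S).map β := by
    rw [Category.assoc, ← hψ, ← Functor.map_comp, ← Functor.map_comp, sqA.w]
  let q' : (yon S).obj AK ⟶ pullback f ((yon S).map β) :=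
    pullback.lift ((yon S).map π₁ ≫ q) ((yon S).map π₂) hwA
  have sq1 : IsPullback ((yon S).map π₁) q' q (pullback.fst f ((yon S).map β)) := by
    refine IsPullback.of_bot ?_ (pullback.lift_fst _ _ _).symm sqP
    rw [show q' ≫ pullback.snd f ((yon S).map β) = (yon S).map π₂ from pullback.lift_snd _ _ _, ← hψ]
    exact sqA.map (yon S)
  have hq' : RepWith @Etale q' := MorphismProperty.of_isPullback sq1 hq
  have hq's : RepWith @Surjective q' := MorphismProperty.of_isPullback sq1 hqs
  have : Etale π₂.left := MorphismProperty.of_isPullback (IsPullback.of_hasPullback ψ.left b) hψe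
  have hq'snd : q' ≫ pullback.snd f ((yon S).map β) = (yon S).map π₂ := pullback.lift_snd _ _ _
  choose σ hσ hwσ using hsplit
  let s : ∀ w, V ⟶ AK := fun w => Over.homMk (σ w) (by
    change σ w ≫ pullback.snd ψ.left b ≫ b ≫ str = b ≫ str
    rw [reassoc_of% (hσ w)])
  have hs : ∀ w, s w ≫ π₂ = 𝟙 V := fun w => Over.OverMorphism.ext (hσ w)
  have hse : ∀ w, Etale (s w).left := fun w => by
    have : Etale ((s w).left ≫ π₂.left) := by rw [← Over.comp_left, hs]; infer_instance
    exact Etale.of_comp (s w).left π₂.left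
  let j : AK.left → ((yon S).obj V ⟶ pullback f ((yon S).map β)) := fun w => (yon S).map (s w) ≫ q'
  have hjsnd : ∀ w, j w ≫ pullback.snd f ((yon S).map β) = 𝟙 _ := fun w => by
    rw [Category.assoc, hq'snd, ← Functor.map_comp, hs, CategoryTheory.Functor.map_id]
  have hj : ∀ w, RepWith @IsOpenImmersion (j w) := fun w => by
    have := hse w
    have : Mono (j w) := mono_of_mono_fac (hjsnd w)
    exact AlgSpCov.repWith_isOpenImmersion_of_mono_isEtaleMor (IsAlgSpace.yon_obj V) hP (j w)
      ((AlgSpCov.isEtaleMor_iff_locP_etale (IsAlgSpace.yon_obj V) hP).2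
        (AlgSpCov.locP_of_repWith AlgSpCov.etaleLocal_etale (repWith_etale_map_comp (s w) hq')))
  obtain ⟨W₀, ⟨e⟩⟩ := exists_iso_yon_of_openCover hP (fun _ : AK.left => V) j hj fun x => by
    obtain ⟨w, rfl⟩ := surjective_ofPt hq's x
    obtain ⟨v, hv⟩ := hwσ w
    refine ⟨w, Points.ofScheme V v, ?_⟩
    rw [← Points.ofPt_eq_map_ofScheme, ofPt_map_comp]
    exact congrArg _ hv
  obtain ⟨r, hr⟩ := (yon S).map_surjective (q' ≫ e.inv)
  obtain ⟨w, hw⟩ := (yon S).map_surjective (e.hom ≫ pullback.snd f ((yon S).map β))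
  have hre : Etale r.left := (repWith_yon_map_iff @Etale r).1 (hr ▸
    (MorphismProperty.cancel_right_of_respectsIso (RepWith @Etale) _ _).2 hq')
  have hrs : Surjective r.left := (repWith_yon_map_iff @Surjective r).1 (hr ▸
    (MorphismProperty.cancel_right_of_respectsIso (RepWith @Surjective) _ _).2 hq's)
  have hrw : r ≫ w = π₂ := (yon S).map_injective (by
    rw [Functor.map_comp, hr, hw, Category.assoc, e.inv_hom_id_assoc, hq'snd])
  have : CompactSpace AK.left := inferInstanceAs (CompactSpace ↑(pullback ψ.left b))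
  have : CompactSpace W₀.left := hrs.surj.compactSpace r.left.continuous
  have hwe : Etale w.left := by
    have : Etale (r.left ≫ w.left) := by rw [← Over.comp_left, hrw]; infer_instance
    exact (AlgSpCov.etaleLocal_etale.ofPrecomp r.left w.left hre hrs this)
  obtain ⟨_, _⟩ := scheme_etale_field_finite (K := K) w.left
  have : IsAffine V.left := inferInstanceAs (IsAffine (Spec (CommRingCat.of K)))
  have : IsAffine (Over.mk str).left := inferInstanceAs (IsAffine (Spec (CommRingCat.of k)))
  have : IsSeparated w.left := inferInstance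
  have : LocallyQuasiFinite w.left := AlgSpCov.etale_le_locallyQuasiFinite _ _ w.left hwe
  have : Flat β.left := hfl
  have : Surjective β.left := hsu
  have : LocallyOfFinitePresentation β.left := hfp
  exact exists_iso_of_fppf_lqf β f (e.hom ≫ pullback.fst f ((yon S).map β)) w
    (IsPullback.of_iso sqP e.symm (Iso.refl _) (Iso.refl _) (Iso.refl _) (by simp) (by simp [hw]) (by simp)
      (by simp))

theorem exists_iso_of_isEtaleMor_field {X : Sp S} (hX : IsAlgSpace X) {k : Type u} [Field k]
    {str : Spec (CommRingCat.of k) ⟶ S} (f : X ⟶ (yon S).obj (Over.mk str)) (hf : IsEtaleMor f) :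
    ∃ W : Over S, Nonempty ((yon S).obj W ≅ X) := by
  obtain ⟨U, p, hpe, hps⟩ := hX.atlas
  obtain ⟨ψ, hψ⟩ := (yon S).map_surjective (p ≫ f)
  have hψe : Etale ψ.left := (repWith_yon_map_iff @Etale ψ).1 (hψ ▸ hf p hpe)
  let AV : U.left.affineOpens → Over S := fun A => openOver U A.1
  let q : ∀ A, (yon S).obj (AV A) ⟶ X := fun A => (yon S).map (openι U A.1) ≫ p
  have hq : ∀ A, RepWith @Etale (q A) := fun A =>
    have : Etale (openι U A.1).left := inferInstanceAs (Etale A.1.ι)
    repWith_etale_map_comp _ hpe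
  have hopen : ∀ A : U.left.affineOpens, IsOpen (Set.range (Points.ofPt (q A))) := fun A =>
    (isOpenMap_ofPt (hq A)).isOpen_range
  choose X' j hj hjr using fun A => exists_openSubspace (⟨X, hX⟩ : Space S) (hopen A)
  have hlift : ∀ A, ∃ W : Over S, Nonempty ((yon S).obj W ≅ (X' A).obj) := fun A => by
    obtain ⟨q', hq'j, hq'e, hq's⟩ := exists_chart_into_subspace (X := (⟨X, hX⟩ : Space S)) (hq A) (hj A) (hjr A)
    have : IsAffine (AV A).left := A.2
    refine exists_iso_of_affine_atlas (X' A).property ((j A).hom ≫ f) q' hq'e hq's (ψ := openι U A.1 ≫ ψ)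
      ?_ (inferInstanceAs (Etale (A.1.ι ≫ ψ.left)))
    rw [Functor.map_comp, hψ, reassoc_of% hq'j, Category.assoc]
  choose W e using hlift
  exact exists_iso_yon_of_openCover hX W (fun A => (e A).some.hom ≫ (j A).hom) (fun A =>
    (MorphismProperty.cancel_left_of_respectsIso (RepWith @IsOpenImmersion) _ _).2 (hj A)) fun x => by
    obtain ⟨u, rfl⟩ := surjective_ofPt hps x
    obtain ⟨A, hA, hu, -⟩ := exists_isAffineOpen_mem_and_subset (x := u) (U := ⊤) trivial
    have : Points.ofPt p u ∈ Set.range (Points.map (j ⟨A, hA⟩).hom) := by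
      rw [hjr]
      exact ⟨⟨u, hu⟩, (ofPt_map_comp _ _ _).trans rfl⟩
    obtain ⟨y, hy⟩ := this
    refine ⟨⟨A, hA⟩, Points.map (e ⟨A, hA⟩).some.inv y, ?_⟩
    rw [← Points.map_comp, Iso.inv_hom_id_assoc, hy]

end Groth.Agent.AlgSpB
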