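import Groth.Prelude.Def_AlgSpRep
import Groth.Agent.AlgSp.Quot
import Groth.Agent.AlgSp.DescentSepLqf
import Groth.Agent.StFib.RepSp
import Mathlib.CategoryTheory.Subfunctor.Image
import Mathlib.CategoryTheory.Sites.LocallyBijective
import Mathlib.CategoryTheory.Sites.PreservesLocallyBijective

/-!
Algebraic spaces defined with the etale topology.
-/

set_option backward.isDefEq.respectTransparency false
set_option backward.isDefEq.respectTransparency.types false

universe u

open CategoryTheory CategoryTheory.Limits AlgebraicGeometry Opposite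

namespace Groth.Agent.AlgSpB

open _root_.AlgSp

variable {S : Scheme.{u}}

/-- The etale topology on schemes over `S`. -/
abbrev etJ (S : Scheme.{u}) : GrothendieckTopology (Over S) := QuotSh.J Scheme.etalePrecoverage S

theorem etJ_le : etJ S ≤ AlgSp.J S := by
  have h : Scheme.etalePrecoverage.{u} ≤ Scheme.fppfPrecoverage :=
    Scheme.precoverage_mono fun X Y f hf => by
      have : Etale f := hf
      exact ⟨inferInstance, inferInstance⟩
  intro U T hT
  exact Precoverage.toGrothendieck_mono h _ hT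

theorem mem_etJ {U V : Over S} (g : V ⟶ U) [Etale g.left] [Surjective g.left]
    {T : Sieve U} (hT : T g) : T ∈ etJ S U := by
  change Sieve.overEquiv U T ∈ Scheme.etalePrecoverage.toGrothendieck U.left
  refine GrothendieckTopology.superset_covering _ ?_
    (Precoverage.generate_mem_toGrothendieck (R := Presieve.singleton g.left)
      ((Scheme.singleton_mem_precoverage_iff (P := @Etale) g.left).2 ⟨fun x => Surjective.surj x, inferInstance⟩))
  rw [Sieve.generate_le_iff]
  intro W k hk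
  cases hk
  refine (Sieve.overEquiv_iff T g.left).2 ?_
  have : (Over.homMk g.left rfl : Over.mk (g.left ≫ U.hom) ⟶ U) =
      (Over.homMk (𝟙 V.left) (by simp) : Over.mk (g.left ≫ U.hom) ⟶ V) ≫ g :=
    Over.OverMorphism.ext (by simp)
  rw [this]
  exact T.downward_closed hT _

theorem isSheaf_etJ {F : PSp S} (h : Presheaf.IsSheaf (AlgSp.J S) F) : Presheaf.IsSheaf (etJ S) F :=
  (isSheaf_iff_isSheaf_of_type _ _).2
    (Presieve.isSheaf_of_le _ etJ_le ((isSheaf_iff_isSheaf_of_type _ _).1 h))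

theorem exists_iso_of_locallyBijective {I F G : PSp S} (hF : Presheaf.IsSheaf (etJ S) F)
    (hG : Presheaf.IsSheaf (etJ S) G) (a : I ⟶ F) (b : I ⟶ G) (ha : (etJ S).W a) (hb : (etJ S).W b) :
    Nonempty (G ≅ F) := by
  obtain ⟨j₁, hj₁⟩ := (ha G hG).2 b
  obtain ⟨j₂, hj₂⟩ := (hb F hF).2 a
  have h1 : a ≫ j₁ = b := hj₁
  have h2 : b ≫ j₂ = a := hj₂
  exact ⟨⟨j₂, j₁, (hb G hG).1 (by change b ≫ j₂ ≫ j₁ = b ≫ 𝟙 G; rw [reassoc_of% h2, h1, Category.comp_id]),
    (ha F hF).1 (by change a ≫ j₁ ≫ j₂ = a ≫ 𝟙 F; rw [reassoc_of% h1, h2, Category.comp_id])⟩⟩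

theorem locallySurjective_of_lift {I F : PSp S} (a : I ⟶ F)
    (h : ∀ (T : Over S) (x : F.obj (op T)), ∃ (V : Over S) (g : V ⟶ T) (y : I.obj (op V)),
      Etale g.left ∧ Surjective g.left ∧ a.app _ y = F.map g.op x) :
    Presheaf.IsLocallySurjective (etJ S) a := by
  refine ⟨fun {T} x => ?_⟩
  obtain ⟨V, g, y, he, hs, hy⟩ := h T x
  exact mem_etJ g ⟨y, hy⟩

theorem isAlgSpaceP_of_etaleSheaf (F : PSp S) (h1 : Presheaf.IsSheaf (etJ S) F) (U : Over S)
    (p : (pyon S).obj U ⟶ F)
    (hp : (pyon S).relativelyRepresentable p)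
    (he : ∀ ⦃T : Over S⦄ (x : (pyon S).obj T ⟶ F), Etale (hp.snd x).left ∧ Surjective (hp.snd x).left) :
    IsAlgSpaceP F := by
  -- the kernel pair
  let R := hp.pullback p
  let s : R ⟶ U := hp.snd p
  let t : R ⟶ U := (uliftYoneda.{u + 1}).preimage (hp.fst p)
  have ht : (pyon S).map t = hp.fst p := Functor.map_preimage _ _
  have sq : IsPullback ((pyon S).map t) ((pyon S).map s) p p := ht ▸ hp.isPullback p
  have heq : IsEqvRel s t := by
    have key : ∀ {T : Over S} (a b : T ⟶ U), (pyon S).map a ≫ p = (pyon S).map b ≫ p →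
        ∃ r : T ⟶ R, r ≫ t = a ∧ r ≫ s = b := by
      intro T a b h
      obtain ⟨l, hl1, hl2⟩ := sq.exists_lift _ _ h
      obtain ⟨l, rfl⟩ := (pyon S).map_surjective l
      exact ⟨l, (pyon S).map_injective (by rw [Functor.map_comp]; exact hl1),
        (pyon S).map_injective (by rw [Functor.map_comp]; exact hl2)⟩
    have hc : ∀ {T : Over S} (r : T ⟶ R), (pyon S).map (r ≫ t) ≫ p = (pyon S).map (r ≫ s) ≫ p := by
      intro T r; rw [Functor.map_comp, Functor.map_comp, Category.assoc, Category.assoc, sq.w]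
    refine ⟨fun T r r' h1 h2 => (pyon S).map_injective (sq.hom_ext ?_ ?_), fun T => ⟨fun a => ?_, ?_, ?_⟩⟩
    · rw [← Functor.map_comp, ← Functor.map_comp, h1]
    · rw [← Functor.map_comp, ← Functor.map_comp, h2]
    · exact key a a rfl
    · rintro a b ⟨r, rfl, rfl⟩; exact key _ _ (hc r).symm
    · rintro a b c ⟨r, rfl, rfl⟩ ⟨r', h3, rfl⟩
      exact key _ _ (by rw [hc r, ← h3, hc r'])
  let π := Groth.Agent.AlgSp.yπ s t
  have : Sheaf.IsLocallySurjective π := Groth.Agent.AlgSp.isLocallySurjective_yπ s t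
  have sqπ := Groth.Agent.AlgSp.isPullback_yπ s t heq
  obtain ⟨hG, hπe, hπs⟩ := Groth.Agent.AlgSp.isAlgSpace_of_kernelPair π sqπ (he p).1
  let Q : Sp S := QuotSh.quot Scheme.fppfPrecoverage s t
  let I : PSp S := (Subfunctor.range p).toFunctor
  have wd : ∀ (T : (Over S)ᵒᵖ) (a b : ((pyon S).obj U).obj T), p.app T a = p.app T b →
      π.hom.app T a = π.hom.app T b := by
    intro T a b h
    obtain ⟨r, h1, h2⟩ := Types.exists_of_isPullback (sq.map ((evaluation _ _).obj T)) a b h
    rw [← h1, ← h2]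
    exact ConcreteCategory.congr_hom
      ((sqπ.map (sheafToPresheaf _ _)).map ((evaluation _ _).obj T)).w r
  have inj : ∀ (T : (Over S)ᵒᵖ) (a b : ((pyon S).obj U).obj T), π.hom.app T a = π.hom.app T b →
      p.app T a = p.app T b := by
    intro T a b h
    obtain ⟨r, h1, h2⟩ := Types.exists_of_isPullback
      ((sqπ.map (sheafToPresheaf _ _)).map ((evaluation _ _).obj T)) a b h
    rw [← h1, ← h2]
    exact ConcreteCategory.congr_hom (sq.map ((evaluation _ _).obj T)).w r
  have hI : ∀ (T : (Over S)ᵒᵖ) (x : I.obj T), ∃ a, p.app T a = x.1 := fun T x => x.2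
  choose lift hlift using hI
  let β : I ⟶ Q.obj :=
    { app := fun T => ↾fun x => π.hom.app T (lift T x)
      naturality := fun T T' f => by
        ext x
        change π.hom.app T' (lift T' (I.map f x)) = Q.obj.map f (π.hom.app T (lift T x))
        rw [← NatTrans.naturality_apply]
        refine wd _ _ _ ?_
        rw [hlift]
        exact ((NatTrans.naturality_apply p f _).trans (congrArg _ (hlift T x))).symm }
  let α : I ⟶ F := (Subfunctor.range p).ι
  have hαi : Presheaf.IsLocallyInjective (etJ S) α :=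
    Presheaf.isLocallyInjective_of_injective _ α fun T x y h => Subtype.ext h
  have hβi : Presheaf.IsLocallyInjective (etJ S) β :=
    Presheaf.isLocallyInjective_of_injective _ β fun T x y h => Subtype.ext
      (by rw [← hlift T x, ← hlift T y]; exact inj _ _ _ h)
  have hαs : Presheaf.IsLocallySurjective (etJ S) α := by
    refine locallySurjective_of_lift α fun T x => ?_
    let ξ : (pyon S).obj T ⟶ F := uliftYonedaEquiv.symm x
    refine ⟨hp.pullback ξ, hp.snd ξ, ⟨_, ⟨uliftYonedaEquiv (hp.fst ξ), rfl⟩⟩, (he ξ).1, (he ξ).2, ?_⟩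
    have h1 := congrArg uliftYonedaEquiv (hp.isPullback ξ).w
    rw [StFib.pEquiv_map, Equiv.apply_symm_apply] at h1
    exact h1
  have hβs : Presheaf.IsLocallySurjective (etJ S) β := by
    refine locallySurjective_of_lift β fun T x => ?_
    let ξ : (yon S).obj T ⟶ Q := Groth.Agent.AlgSp.yEquiv.symm x
    have hsq := hπe.1.isPullback ξ
    let a := Groth.Agent.AlgSp.yEquiv (hπe.1.fst ξ)
    let y : I.obj (op (hπe.1.pullback ξ)) := ⟨p.app _ a, a, rfl⟩
    refine ⟨hπe.1.pullback ξ, hπe.1.snd ξ, y, hπe.2 _ _ _ hsq, hπs.2 _ _ _ hsq, ?_⟩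
    have h1 := congrArg Groth.Agent.AlgSp.yEquiv hsq.w
    rw [Groth.Agent.AlgSp.yEquiv_map, Groth.Agent.AlgSp.yEquiv_comp, Equiv.apply_symm_apply] at h1
    exact (wd _ _ _ (hlift _ y)).trans h1
  obtain ⟨e⟩ := exists_iso_of_locallyBijective h1 (isSheaf_etJ Q.property) α β
    (GrothendieckTopology.W_of_isLocallyBijective _ α) (GrothendieckTopology.W_of_isLocallyBijective _ β)
  exact IsAlgSpaceP.of_iso ((isAlgSpaceP_obj_iff Q).2 hG) e

end Groth.Agent.AlgSpB
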