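import Mathlib.AlgebraicGeometry.Morphisms.Affine
import Mathlib.AlgebraicGeometry.Morphisms.Flat
import Mathlib.RingTheory.Flat.Equalizer

/-!
# Invariant functions and flat base change
-/

universe u

open CategoryTheory CategoryTheory.Limits AlgebraicGeometry TensorProduct

set_option autoImplicit false

namespace Groth.Agent.AlgSpB

/-- Flat base change of an exact fork of rings, in pushout form. -/
theorem fork_baseChange {A A' E B C E' B' C' : CommRingCat.{u}} (a : A ⟶ A') (ha : a.hom.Flat)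
    (i : A ⟶ E) (g : E ⟶ B) (t s : B ⟶ C) (hw : g ≫ t = g ≫ s)
    {eE : E ⟶ E'} {fE : A' ⟶ E'} (hE : IsPushout i a eE fE)
    {eB : B ⟶ B'} {fB : A' ⟶ B'} (hB : IsPushout (i ≫ g) a eB fB)
    {eC : C ⟶ C'} {fC : A' ⟶ C'} (hC : IsPushout (i ≫ g ≫ t) a eC fC)
    (g' : E' ⟶ B') (hg : eE ≫ g' = g ≫ eB) (hgf : fE ≫ g' = fB)
    (t' s' : B' ⟶ C') (ht : eB ≫ t' = t ≫ eC) (htf : fB ≫ t' = fC)
    (hs : eB ≫ s' = s ≫ eC) (hsf : fB ≫ s' = fC)
    (hinj : Function.Injective g.hom) (hex : ∀ b, t.hom b = s.hom b → b ∈ Set.range g.hom) :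
    Function.Injective g'.hom ∧ ∀ b, t'.hom b = s'.hom b → b ∈ Set.range g'.hom := by
  algebraize [a.hom, i.hom, (i ≫ g).hom, (i ≫ g ≫ t).hom]
  let γ : E →ₐ[A] B := { g.hom with commutes' := fun _ => rfl }
  let τ : B →ₐ[A] C := { t.hom with commutes' := fun _ => rfl }
  have hσ : ∀ r : A, s.hom (g.hom (i.hom r)) = t.hom (g.hom (i.hom r)) := fun r =>
    (congrArg (fun k : E ⟶ C => k.hom (i.hom r)) hw).symm
  let σ : B →ₐ[A] C := { s.hom with commutes' := hσ }
  have pE := CommRingCat.isPushout_tensorProduct A E A'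
  have pB := CommRingCat.isPushout_tensorProduct A B A'
  have pC := CommRingCat.isPushout_tensorProduct A C A'
  let θE := pE.isoIsPushout _ _ hE
  let θB := pB.isoIsPushout _ _ hB
  let θC := pC.isoIsPushout _ _ hC
  let γ' := Algebra.TensorProduct.map γ (AlgHom.id A A')
  let τ' := Algebra.TensorProduct.map τ (AlgHom.id A A')
  let σ' := Algebra.TensorProduct.map σ (AlgHom.id A A')
  have hBl : _ ≫ θB.hom = eB := pB.inl_isoIsPushout_hom _ _ hB
  have hBr : _ ≫ θB.hom = fB := pB.inr_isoIsPushout_hom _ _ hB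
  have hCl : _ ≫ θC.hom = eC := pC.inl_isoIsPushout_hom _ _ hC
  have hCr : _ ≫ θC.hom = fC := pC.inr_isoIsPushout_hom _ _ hC
  have cg : θE.hom ≫ g' = CommRingCat.ofHom γ'.toRingHom ≫ θB.hom := by
    apply pE.hom_ext
    · rw [IsPushout.inl_isoIsPushout_hom_assoc, hg]
      have e : CommRingCat.ofHom Algebra.TensorProduct.includeLeftRingHom ≫ CommRingCat.ofHom γ'.toRingHom =
          g ≫ CommRingCat.ofHom (Algebra.TensorProduct.includeLeftRingHom : B →+* B ⊗[A] A') := by
        ext x; exact congrArg (fun z => g.hom x ⊗ₜ[A] z) rfl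
      rw [reassoc_of% e]
      first | rw [hBl] | rw [hCl]
    · rw [IsPushout.inr_isoIsPushout_hom_assoc, hgf]
      have e : CommRingCat.ofHom (Algebra.TensorProduct.includeRight (A := E) (B := A') : A' →ₐ[A] E ⊗[A] A').toRingHom ≫
          CommRingCat.ofHom γ'.toRingHom =
          CommRingCat.ofHom (Algebra.TensorProduct.includeRight : A' →ₐ[A] B ⊗[A] A').toRingHom := by
        ext x; exact congrArg (fun z => z ⊗ₜ[A] x) (map_one γ)
      rw [reassoc_of% e]
      first | rw [hBr] | rw [hCr]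
  have ct : ∀ (φ : B →ₐ[A] C) (φ' : B' ⟶ C'), eB ≫ φ' = CommRingCat.ofHom φ.toRingHom ≫ eC → fB ≫ φ' = fC →
      θB.hom ≫ φ' = CommRingCat.ofHom (Algebra.TensorProduct.map φ (AlgHom.id A A')).toRingHom ≫ θC.hom := by
    intro φ φ' h1 h2
    apply pB.hom_ext
    · rw [IsPushout.inl_isoIsPushout_hom_assoc, h1]
      have e : CommRingCat.ofHom Algebra.TensorProduct.includeLeftRingHom ≫
          CommRingCat.ofHom (Algebra.TensorProduct.map φ (AlgHom.id A A')).toRingHom =
          CommRingCat.ofHom φ.toRingHom ≫ CommRingCat.ofHom (Algebra.TensorProduct.includeLeftRingHom : C →+* C ⊗[A] A') := by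
        ext x; rfl
      rw [reassoc_of% e]
      first | rw [hBl] | rw [hCl]
    · rw [IsPushout.inr_isoIsPushout_hom_assoc, h2]
      have e : CommRingCat.ofHom (Algebra.TensorProduct.includeRight : A' →ₐ[A] B ⊗[A] A').toRingHom ≫
          CommRingCat.ofHom (Algebra.TensorProduct.map φ (AlgHom.id A A')).toRingHom =
          CommRingCat.ofHom (Algebra.TensorProduct.includeRight : A' →ₐ[A] C ⊗[A] A').toRingHom := by
        ext x; exact congrArg (fun z => z ⊗ₜ[A] x) (map_one φ)
      rw [reassoc_of% e]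
      first | rw [hBr] | rw [hCr]
  have c1 := ct τ t' ht htf
  have c2 := ct σ s' hs hsf
  have bE : Function.Bijective θE.hom.hom := (ConcreteCategory.bijective_of_isIso θE.hom)
  have bB : Function.Bijective θB.hom.hom := (ConcreteCategory.bijective_of_isIso θB.hom)
  have bC : Function.Bijective θC.hom.hom := (ConcreteCategory.bijective_of_isIso θC.hom)
  have key : ∀ x, g'.hom (θE.hom.hom x) = θB.hom.hom (γ.toLinearMap.rTensor A' x) := fun x =>
    congrArg (fun k => k.hom x) cg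
  refine ⟨fun y₁ y₂ e => ?_, fun b hb => ?_⟩
  · obtain ⟨x₁, rfl⟩ := bE.2 y₁
    obtain ⟨x₂, rfl⟩ := bE.2 y₂
    rw [key, key] at e
    exact congrArg _ (Module.Flat.rTensor_preserves_injective_linearMap (M := A') γ.toLinearMap hinj (bB.1 e))
  · obtain ⟨x, rfl⟩ := bB.2 b
    have e : τ.toLinearMap.rTensor A' x = σ.toLinearMap.rTensor A' x :=
      bC.1 (((congrArg (fun k => k.hom x) c1).symm.trans hb).trans (congrArg (fun k => k.hom x) c2))
    have hexact : Function.Exact γ.toLinearMap (τ.toLinearMap - σ.toLinearMap) := by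
      intro y
      rw [LinearMap.sub_apply, sub_eq_zero]
      refine ⟨fun h => hex y h, ?_⟩
      rintro ⟨z, rfl⟩
      exact congrArg (fun k => k.hom z) hw
    obtain ⟨z, hz⟩ := ((Module.Flat.rTensor_exact A' hexact) x).1 (by
      rw [LinearMap.rTensor_sub, LinearMap.sub_apply, e, sub_self])
    exact ⟨θE.hom.hom z, (key z).trans (congrArg _ hz)⟩

/-- Invariant functions commute with flat base change of affine schemes. -/
theorem invariants_baseChange {T T' X U R X' U' R' : Scheme.{u}} [IsAffine T] [IsAffine T'] [IsAffine X]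
    [IsAffine U] [IsAffine R] (k : T' ⟶ T) [Flat k] (h : X ⟶ T) (g : U ⟶ X) (t s : R ⟶ U)
    (hw : t ≫ g = s ≫ g) {kX : X' ⟶ X} {fX : X' ⟶ T'} (sX : IsPullback kX fX h k)
    {kU : U' ⟶ U} {fU : U' ⟶ T'} (sU : IsPullback kU fU (g ≫ h) k)
    {kR : R' ⟶ R} {fR : R' ⟶ T'} (sR : IsPullback kR fR (t ≫ g ≫ h) k)
    (g' : U' ⟶ X') (hg : g' ≫ kX = kU ≫ g) (hgf : g' ≫ fX = fU)
    (t' s' : R' ⟶ U') (ht : t' ≫ kU = kR ≫ t) (htf : t' ≫ fU = fR)
    (hs : s' ≫ kU = kR ≫ s) (hsf : s' ≫ fU = fR)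
    (hinj : Function.Injective g.appTop) (hex : ∀ b, t.appTop b = s.appTop b → b ∈ Set.range g.appTop) :
    Function.Injective g'.appTop ∧ ∀ b, t'.appTop b = s'.appTop b → b ∈ Set.range g'.appTop := by
  have hk : k.appTop.hom.Flat := (HasRingHomProperty.iff_of_isAffine (P := @Flat)).1 inferInstance
  have pX := isPushout_appTop_of_isPullback sX
  have pU := isPushout_appTop_of_isPullback sU
  have pR := isPushout_appTop_of_isPullback sR
  simp only [Scheme.Hom.comp_appTop] at pU pR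
  rw [Category.assoc] at pR
  exact fork_baseChange k.appTop hk h.appTop g.appTop t.appTop s.appTop
    (by rw [← Scheme.Hom.comp_appTop, hw, Scheme.Hom.comp_appTop]) pX pU pR g'.appTop
    (by rw [← Scheme.Hom.comp_appTop, hg, Scheme.Hom.comp_appTop])
    (by rw [← Scheme.Hom.comp_appTop, hgf]) t'.appTop s'.appTop
    (by rw [← Scheme.Hom.comp_appTop, ht, Scheme.Hom.comp_appTop])
    (by rw [← Scheme.Hom.comp_appTop, htf])
    (by rw [← Scheme.Hom.comp_appTop, hs, Scheme.Hom.comp_appTop])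
    (by rw [← Scheme.Hom.comp_appTop, hsf]) hinj hex

end Groth.Agent.AlgSpB
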