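import Groth.Agent.AlgSp.ClosedSub
import Groth.Agent.AlgSp.LimSp
import Groth.Agent.AlgSp.InfGlue
import Groth.Agent.AlgSpB.Open
import Groth.Agent.AlgSpB.Art.ClosedChain

/-!
# Limits of systems of closed subspaces
-/

universe u

open CategoryTheory CategoryTheory.Limits AlgebraicGeometry Opposite

set_option backward.isDefEq.respectTransparency false
set_option backward.isDefEq.respectTransparency.types false
set_option autoImplicit false

namespace Groth.Agent.AlgSpB.LimClosedSys

open _root_.AlgSp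
open Groth.Agent.AlgSp (LimSp.sys)
open Groth.Agent.AlgSp.CartierDesc (subOver subι exists_ideal)

/-- On an affine scheme a kernel inclusion is tested on global sections. -/
theorem le_ker_of_global {X T : Scheme.{u}} [IsAffine X] {I : X.IdealSheafData} (m : T ⟶ X)
    (h : ∀ f ∈ I.ideal ⟨⊤, isAffineOpen_top X⟩, m.appTop f = 0) : I ≤ m.ker := by
  refine Scheme.IdealSheafData.le_ofIdeals_iff.2 fun U => ?_
  rw [← Scheme.IdealSheafData.map_ideal (U := U) (V := ⟨⊤, isAffineOpen_top X⟩) I (le_top (a := U.1))]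
  refine Ideal.map_le_iff_le_comap.2 fun f hf => ?_
  rw [Ideal.mem_comap, RingHom.mem_ker]
  have e := congr($(m.naturality (homOfLE (le_top (a := U.1))).op) f)
  rw [CategoryTheory.comp_apply, CategoryTheory.comp_apply] at e
  refine e.trans ?_
  rw [show m.app ⊤ f = 0 from h f hf, map_zero]

/-- A section of an ideal below a kernel pulls back to zero. -/
theorem appTop_eq_zero {X T : Scheme.{u}} [IsAffine X] {I : X.IdealSheafData} (m : T ⟶ X)
    (h : I ≤ m.ker) {f : Γ(X, ⊤)} (hf : f ∈ I.ideal ⟨⊤, isAffineOpen_top X⟩) : m.appTop f = 0 :=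
  m.ideal_ker_le ⟨⊤, isAffineOpen_top X⟩ (h _ hf)

variable {S : Scheme.{u}} {I : Type u} [SmallCategory I] [IsCofiltered I] {D : I ⥤ Sp S}

/-- A system of closed subspaces has a closed subspace of the limit as limit if on affine étale charts
every section of its ideal comes from a section of an ideal at some stage. -/
theorem nonempty_isLimit (hD : ∀ i, IsAlgSpace (D.obj i))
    (hDa : ∀ (i j : I) (φ : i ⟶ j), IsAffineMor (D.map φ)) {c : Cone D} (hc : IsLimit c)
    {Z : Sp S} (zι : Z ⟶ c.pt) (hz : RepWith @IsClosedImmersion zι) {DZ : I ⥤ Sp S} (ι : DZ ⟶ D)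
    (hι : ∀ i, RepWith @IsClosedImmersion (ι.app i)) (ξ : (Functor.const I).obj Z ⟶ DZ)
    (hξ : ∀ i, ξ.app i ≫ ι.app i = zι ≫ c.π.app i)
    (H : ∀ (i₀ : I) (U : Over S) (g : (yon S).obj U ⟶ D.obj i₀), RepWith @Etale g → IsAffine U.left →
      ∀ (L : Cone (LimSp.sys hDa g)) (l : (yon S).obj L.pt ⟶ c.pt) (q : L.pt ⟶ U),
      Nonempty (IsLimit ((Over.forget S).mapCone L)) → IsAffineHom q.left →
      (∀ j, L.π.app j ≫ Groth.Agent.AlgSp.LimSp.sysSnd hDa g j = q) →
      (∀ j, l ≫ c.π.app j.left = (yon S).map (L.π.app j) ≫ (Groth.Agent.AlgSp.LimSp.sysFst hDa g).app j) →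
      IsPullback l ((yon S).map q) (c.π.app i₀) g → ∀ [IsAffine L.pt.left]
      [∀ j, IsAffine ((LimSp.sys hDa g).obj j).left],
      ∀ (K : L.pt.left.IdealSheafData) (fstK : (yon S).obj (subOver L.pt K) ⟶ Z),
      IsPullback fstK ((yon S).map (subι L.pt K)) zι l →
      ∀ f ∈ K.ideal ⟨⊤, isAffineOpen_top L.pt.left⟩, ∃ (j : Over i₀)
        (K' : ((LimSp.sys hDa g).obj j).left.IdealSheafData)
        (fst' : (yon S).obj (subOver ((LimSp.sys hDa g).obj j) K') ⟶ DZ.obj j.left)
        (f' : Γ(((LimSp.sys hDa g).obj j).left, ⊤)),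
        IsPullback fst' ((yon S).map (subι ((LimSp.sys hDa g).obj j) K')) (ι.app j.left)
          ((Groth.Agent.AlgSp.LimSp.sysFst hDa g).app j) ∧
        f' ∈ K'.ideal ⟨⊤, isAffineOpen_top _⟩ ∧ (L.π.app j).left.appTop f' = f) :
    Nonempty (IsLimit (Cone.mk Z ξ)) := by
  have hmι : ∀ i, Mono (ι.app i) := fun i => Groth.Agent.AlgSpB.mono_of_isClosedImmersion (hι i)
  have hmz : Mono zι := Groth.Agent.AlgSpB.mono_of_isClosedImmersion hz
  obtain ⟨i₀⟩ := IsCofiltered.nonempty (C := I)
  -- schemes factoring through every stage factor through the closed subspace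
  have key : ∀ (T : Over S) (t : (yon S).obj T ⟶ c.pt), (∀ i, ∃ k, k ≫ ι.app i = t ≫ c.π.app i) →
      ∃ k, k ≫ zι = t := by
    intro T t ht
    have hloc : ∀ z : T.left, ∃ (N : Over S) (n : N ⟶ T) (y : (yon S).obj N ⟶ Z),
        Etale n.left ∧ z ∈ Set.range n.left ∧ y ≫ zι = (yon S).map n ≫ t := by
      intro z
      obtain ⟨W, p, hp, hps⟩ := (hD i₀).atlas
      obtain ⟨w, hw⟩ := Groth.Agent.AlgSpB.surjective_ofPt hps (Points.map (c.π.app i₀) (Points.ofPt t z))
      obtain ⟨V, hV, hwV⟩ : ∃ V : W.left.Opens, IsAffineOpen V ∧ w ∈ V := by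
        obtain ⟨_, ⟨V, hV, rfl⟩, hwV, -⟩ := W.left.isBasis_affineOpens.exists_subset_of_mem_open
          (Set.mem_univ w) isOpen_univ
        exact ⟨V, hV, hwV⟩
      let U : Over S := Over.mk (V.ι ≫ W.hom)
      let jU : U ⟶ W := Over.homMk V.ι rfl
      have hUa : IsAffine U.left := hV
      let g : (yon S).obj U ⟶ D.obj i₀ := (yon S).map jU ≫ p
      have hjU : Etale jU.left := inferInstanceAs (Etale V.ι)
      have hg : RepWith @Etale g := Groth.Agent.AlgSpB.repWith_etale_map_comp jU hp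
      obtain ⟨L, l, q, hL, hq, hqs, hl, sq⟩ := Groth.Agent.AlgSp.LimSp.exists_isPullback hDa g c hc
      have hLa : IsAffine L.pt.left := isAffine_of_isAffineHom q.left
      have hsa : ∀ j, IsAffine ((LimSp.sys hDa g).obj j).left := fun j =>
        have := Groth.Agent.AlgSp.LimSp.isAffineHom_sysSnd hDa g j
        isAffine_of_isAffineHom (Groth.Agent.AlgSp.LimSp.sysSnd hDa g j).left
      have hle : RepWith @Etale l := MorphismProperty.of_isPullback sq.flip hg
      obtain ⟨K, fstK, sqK⟩ := exists_ideal hz l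
      let N := hle.1.pullback t
      let n : N ⟶ T := hle.1.snd t
      let m : N ⟶ L.pt := hle.1.fst' t
      have sqN := hle.1.isPullback t
      have hn : Etale n.left := hle.2 _ _ _ sqN
      have hmn : (yon S).map m ≫ l = (yon S).map n ≫ t := by
        rw [Functor.relativelyRepresentable.map_fst']; exact sqN.w
      have hzr : z ∈ Set.range n.left := by
        have hu : Points.ofPt g (show U.left from ⟨w, hwV⟩) = Points.map (c.π.app i₀) (Points.ofPt t z) :=
          (Groth.Agent.AlgSpB.ofPt_map_comp jU p _).trans hw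
        obtain ⟨a, ha, -⟩ := Groth.Agent.AlgSpB.exists_of_isPullback sq (Points.ofPt t z)
          (Points.ofScheme U (show U.left from ⟨w, hwV⟩)) (hu.symm.trans (Points.ofPt_eq_map_ofScheme g _))
        rw [← Points.ofScheme_toScheme L.pt a, ← Points.ofPt_eq_map_ofScheme] at ha
        obtain ⟨b, -, hb⟩ := (Groth.Agent.AlgSpB.ofPt_eq_ofPt_iff' sqN _ z).1 ha
        exact ⟨b, hb⟩
      have hm : K ≤ m.left.ker := by
        refine le_ker_of_global m.left fun f hf => ?_
        obtain ⟨j, K', fst', f', sq', hf', rfl⟩ :=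
          H i₀ U g hg hUa L l q hL hq hqs hl sq K fstK sqK f hf
        have hfac : ∃ y, y ≫ ι.app j.left =
            (yon S).map (m ≫ L.π.app j) ≫ (Groth.Agent.AlgSp.LimSp.sysFst hDa g).app j := by
          obtain ⟨k, hk⟩ := ht j.left
          refine ⟨(yon S).map n ≫ k, ?_⟩
          rw [Category.assoc, hk, ← Category.assoc, ← hmn, Category.assoc, hl, ← Category.assoc,
            ← Functor.map_comp]
        have hle' := (Groth.Agent.AlgSp.ClosedSub.exists_factor_yon_iff sq' (m ≫ L.π.app j)).1 hfac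
        have h0 := appTop_eq_zero (m ≫ L.π.app j).left hle' hf'
        rw [Over.comp_left, Scheme.Hom.comp_appTop, CategoryTheory.comp_apply] at h0
        exact h0
      obtain ⟨y, hy⟩ := (Groth.Agent.AlgSp.ClosedSub.exists_factor_yon_iff sqK m).2 hm
      exact ⟨N, n, y, hn, hzr, hy.trans hmn⟩
    choose N n y hn hzn hy using hloc
    obtain ⟨k, hk⟩ := Groth.Agent.AlgSp.InfGlue.exists_glue n hn (fun z => ⟨z, hzn z⟩) y
      fun a b P u v huv => by
        rw [← cancel_mono zι, Category.assoc, Category.assoc, hy, hy, ← Functor.map_comp_assoc,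
          ← Functor.map_comp_assoc, huv]
    refine ⟨k, Groth.Agent.AlgSp.InfGlue.hom_ext_cover n hn (fun z => ⟨z, hzn z⟩) _ _ fun z => ?_⟩
    rw [← Category.assoc, hk, hy]
  have hex : ∀ s : Cone DZ, ∃ k : s.pt ⟶ Z, ∀ i, k ≫ ξ.app i = s.π.app i := by
    intro s
    obtain ⟨k, hk⟩ := Groth.Agent.AlgSpB.Art.exists_factor_of_yon (i := zι)
      (hc.lift ((Cone.postcompose ι).obj s)) fun T t => key T _ fun i => ⟨t ≫ s.π.app i, by
        rw [Category.assoc, Category.assoc, hc.fac]
        rfl⟩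
    refine ⟨k, fun i => (cancel_mono (ι.app i)).1 ?_⟩
    rw [Category.assoc, hξ, ← Category.assoc, hk, hc.fac]
    rfl
  choose k hk using hex
  exact ⟨{ lift := k
           fac := hk
           uniq := fun s k' hk' => (cancel_mono zι).1 (hc.hom_ext fun i => by
             rw [Category.assoc, Category.assoc, ← hξ, ← Category.assoc, ← Category.assoc, hk s i]
             exact congrArg (· ≫ ι.app i) (hk' i)) }⟩

end Groth.Agent.AlgSpB.LimClosedSys
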