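import Groth.Prelude.Def_AlgSpGpd
import Groth.Agent.AlgSp.Space

/-!
# The restriction of a groupoid along a map of objects
-/

set_option backward.isDefEq.respectTransparency false
set_option backward.isDefEq.respectTransparency.types false

universe u

open CategoryTheory CategoryTheory.Limits AlgebraicGeometry

namespace Groth.Agent.AlgSpB.Restrict

open _root_.AlgSp

variable {S : Scheme.{u}} {B : Sp S} {G' G : GroupoidSp B} (φ : GroupoidSp.Hom G' G)

theorem exists_point (hφ : φ.IsRestriction) {T : Sp S} (r : T ⟶ G.R) (x y : T ⟶ G'.U)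
    (hx : r ≫ G.t = x ≫ φ.fU) (hy : r ≫ G.s = y ≫ φ.fU) :
    ∃ z : T ⟶ G'.R, z ≫ φ.fR = r ∧ z ≫ G'.t = x ∧ z ≫ G'.s = y := by
  have hxy : x ≫ G'.pU = y ≫ G'.pU := by
    rw [← φ.fU_over, ← reassoc_of% hx, ← reassoc_of% hy, G.t_over, G.s_over]
  obtain ⟨z, hz1, hz2⟩ := IsPullback.exists_lift hφ r (pullback.lift x y hxy) (by
    apply pullback.hom_ext
    · simp [GroupoidSp.Hom.prodMap, hx]
    · simp [GroupoidSp.Hom.prodMap, hy])
  refine ⟨z, hz1, ?_, ?_⟩
  · simpa using congrArg (· ≫ pullback.fst _ _) hz2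
  · simpa using congrArg (· ≫ pullback.snd _ _) hz2

theorem point_ext (hφ : φ.IsRestriction) {T : Sp S} {z z' : T ⟶ G'.R} (h : z ≫ φ.fR = z' ≫ φ.fR)
    (ht : z ≫ G'.t = z' ≫ G'.t) (hs : z ≫ G'.s = z' ≫ G'.s) : z = z' := by
  refine IsPullback.hom_ext hφ h ?_
  apply pullback.hom_ext
  · simpa using ht
  · simpa using hs

/-- The source of the restriction is a base change of `U' ×_{U, t} R ⟶ U`. -/
theorem isPullback_s (hφ : φ.IsRestriction) :
    IsPullback (pullback.lift G'.t φ.fR φ.comm_t.symm) G'.s (pullback.snd φ.fU G.t ≫ G.s) φ.fU := by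
  have w : pullback.lift G'.t φ.fR φ.comm_t.symm ≫ pullback.snd φ.fU G.t ≫ G.s = G'.s ≫ φ.fU := by
    rw [pullback.lift_snd_assoc, φ.comm_s]
  have ex : ∀ c : PullbackCone (pullback.snd φ.fU G.t ≫ G.s) φ.fU, ∃ z : c.pt ⟶ G'.R,
      z ≫ φ.fR = c.fst ≫ pullback.snd φ.fU G.t ∧ z ≫ G'.t = c.fst ≫ pullback.fst φ.fU G.t ∧
        z ≫ G'.s = c.snd := fun c =>
    exists_point φ hφ _ _ _ (by simp [pullback.condition]) (by simpa using c.condition)
  choose z hz1 hz2 hz3 using ex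
  refine IsPullback.of_isLimit' ⟨w⟩ (PullbackCone.IsLimit.mk _ z (fun c => ?_) hz3
    (fun c m hm1 hm2 => point_ext φ hφ ?_ ?_ (hm2.trans (hz3 c).symm)))
  · apply pullback.hom_ext
    · simp [hz2]
    · simp [hz1]
  · rw [hz1, ← hm1]; simp
  · rw [hz2, ← hm1]; simp

/-- The target of the restriction is a base change of `U' ×_{U, s} R ⟶ U`. -/
theorem isPullback_t (hφ : φ.IsRestriction) :
    IsPullback (pullback.lift G'.s φ.fR φ.comm_s.symm) G'.t (pullback.snd φ.fU G.s ≫ G.t) φ.fU := by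
  have w : pullback.lift G'.s φ.fR φ.comm_s.symm ≫ pullback.snd φ.fU G.s ≫ G.t = G'.t ≫ φ.fU := by
    rw [pullback.lift_snd_assoc, φ.comm_t]
  have ex : ∀ c : PullbackCone (pullback.snd φ.fU G.s ≫ G.t) φ.fU, ∃ z : c.pt ⟶ G'.R,
      z ≫ φ.fR = c.fst ≫ pullback.snd φ.fU G.s ∧ z ≫ G'.t = c.snd ∧
        z ≫ G'.s = c.fst ≫ pullback.fst φ.fU G.s := fun c =>
    exists_point φ hφ _ _ _ (by simpa using c.condition) (by simp [pullback.condition])
  choose z hz1 hz2 hz3 using ex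
  refine IsPullback.of_isLimit' ⟨w⟩ (PullbackCone.IsLimit.mk _ z (fun c => ?_) hz2
    (fun c m hm1 hm2 => point_ext φ hφ ?_ (hm2.trans (hz2 c).symm) ?_))
  · apply pullback.hom_ext
    · simp [hz3]
    · simp [hz1]
  · rw [hz1, ← hm1]; simp
  · rw [hz3, ← hm1]; simp

end Groth.Agent.AlgSpB.Restrict
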