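import Groth.Agent.AlgSpB.Diag
import Mathlib.Algebra.Category.Ring.Constructions

/-!
# The affine criterion of separatedness
-/

universe u

open CategoryTheory CategoryTheory.Limits AlgebraicGeometry Opposite

set_option backward.isDefEq.respectTransparency false

namespace Groth.Agent.AlgSpB

open _root_.AlgSp

variable {W W' U V : Scheme.{u}}

/-- `Γ(U) ⊗ Γ(V) ⟶ Γ(W)`. -/
noncomputable def globalPair (f : W ⟶ U) (g : W ⟶ V) :
    CommRingCat.of (TensorProduct ℤ Γ(U, ⊤) Γ(V, ⊤)) ⟶ Γ(W, ⊤) :=
  CommRingCat.ofHom
    (Algebra.TensorProduct.productMap f.appTop.hom.toIntAlgHom g.appTop.hom.toIntAlgHom).toRingHom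

/-- `W ⟶ Spec (Γ(U) ⊗ Γ(V))`. -/
noncomputable def pairSpec (f : W ⟶ U) (g : W ⟶ V) :
    W ⟶ Spec (CommRingCat.of (TensorProduct ℤ Γ(U, ⊤) Γ(V, ⊤))) :=
  W.toSpecΓ ≫ Spec.map (globalPair f g)

theorem comp_pairSpec (m : W' ⟶ W) (f : W ⟶ U) (g : W ⟶ V) :
    m ≫ pairSpec f g = pairSpec (m ≫ f) (m ≫ g) := by
  simp only [pairSpec]
  rw [Scheme.toSpecΓ_naturality_assoc, ← Spec.map_comp]
  congr 2
  apply CommRingCat.hom_ext
  apply RingHom.toIntAlgHom_injective
  ext x <;> simp [globalPair]

theorem pairSpec_fst [IsAffine U] (f : W ⟶ U) (g : W ⟶ V) :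
    pairSpec f g ≫ Spec.map (CommRingCat.ofHom
      (Algebra.TensorProduct.includeLeft (R := ℤ) (S := ℤ) (A := Γ(U, ⊤)) (B := Γ(V, ⊤))).toRingHom) ≫
        U.isoSpec.inv = f := by
  simp only [pairSpec, Category.assoc]
  rw [← Spec.map_comp_assoc]
  rw [show CommRingCat.ofHom _ ≫ globalPair f g = f.appTop from ?_,
    ← Scheme.toSpecΓ_naturality_assoc, Scheme.toSpecΓ_isoSpec_inv, Category.comp_id]
  ext x
  simp [globalPair]

theorem pairSpec_snd [IsAffine V] (f : W ⟶ U) (g : W ⟶ V) :
    pairSpec f g ≫ Spec.map (CommRingCat.ofHom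
      (Algebra.TensorProduct.includeRight (R := ℤ) (A := Γ(U, ⊤)) (B := Γ(V, ⊤))).toRingHom) ≫
        V.isoSpec.inv = g := by
  simp only [pairSpec, Category.assoc]
  rw [← Spec.map_comp_assoc]
  rw [show CommRingCat.ofHom _ ≫ globalPair f g = g.appTop from ?_,
    ← Scheme.toSpecΓ_naturality_assoc, Scheme.toSpecΓ_isoSpec_inv, Category.comp_id]
  ext x
  simp [globalPair]

theorem isClosedImmersion_pairSpec_iff [IsAffine W] (f : W ⟶ U) (g : W ⟶ V) :
    IsClosedImmersion (pairSpec f g) ↔
      Function.Surjective (Algebra.TensorProduct.productMap f.appTop.hom.toIntAlgHom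
        g.appTop.hom.toIntAlgHom) := by
  have : IsIso W.toSpecΓ := W.isoSpec.isIso_hom
  rw [pairSpec, MorphismProperty.cancel_left_of_respectsIso @IsClosedImmersion]
  constructor
  · intro h
    have h1 := (IsClosedImmersion.isAffine_surjective_of_isAffine (f := Spec.map (globalPair f g))).2
    have h2 := (ConcreteCategory.bijective_of_isIso (Scheme.ΓSpecIso Γ(W, ⊤)).hom).2.comp h1
    intro y
    obtain ⟨z, hz⟩ := h2 y
    refine ⟨(Scheme.ΓSpecIso _).hom z, ?_⟩
    rw [← hz]
    exact (congrArg (fun k => k z) (Scheme.ΓSpecIso_naturality (globalPair f g))).symm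
  · exact fun h => IsClosedImmersion.spec_of_surjective _ h

variable {S : Scheme.{u}}

/-- For affine `U`, `V`, the map from `U ×_Z V` to the spectrum of the tensor product is a closed
immersion (indeed an isomorphism). -/
theorem isClosedImmersion_pairSpec_terminal [IsAffine U] [IsAffine V] :
    IsClosedImmersion (pairSpec (pullback.fst (terminal.from U) (terminal.from V))
      (pullback.snd (terminal.from U) (terminal.from V))) := by
  let fl := Spec.map (CommRingCat.ofHom
      (Algebra.TensorProduct.includeLeft (R := ℤ) (S := ℤ) (A := Γ(U, ⊤)) (B := Γ(V, ⊤))).toRingHom) ≫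
        U.isoSpec.inv
  let fr := Spec.map (CommRingCat.ofHom
      (Algebra.TensorProduct.includeRight (R := ℤ) (A := Γ(U, ⊤)) (B := Γ(V, ⊤))).toRingHom) ≫
        V.isoSpec.inv
  let r : Spec (CommRingCat.of (TensorProduct ℤ Γ(U, ⊤) Γ(V, ⊤))) ⟶
      pullback (terminal.from U) (terminal.from V) :=
    pullback.lift fl fr (terminal.hom_ext _ _)
  have h : pairSpec (pullback.fst (terminal.from U) (terminal.from V))
      (pullback.snd (terminal.from U) (terminal.from V)) ≫ r = 𝟙 _ := by
    apply pullback.hom_ext
    · simp only [r, fl, Category.assoc, pullback.lift_fst, Category.id_comp]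
      exact pairSpec_fst _ _
    · simp only [r, fr, Category.assoc, pullback.lift_snd, Category.id_comp]
      exact pairSpec_snd _ _
  have : IsClosedImmersion (pairSpec (pullback.fst (terminal.from U) (terminal.from V))
      (pullback.snd (terminal.from U) (terminal.from V)) ≫ r) := h ▸ inferInstance
  exact IsClosedImmersion.of_comp _ r

theorem isClosedImmersion_pairHom {U V P : Over S} (fst : P ⟶ U) (snd : P ⟶ V) [IsAffine U.left]
    [IsAffine V.left] [IsAffine P.left]
    (h : Function.Surjective (Algebra.TensorProduct.productMap fst.left.appTop.hom.toIntAlgHom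
        snd.left.appTop.hom.toIntAlgHom)) : IsClosedImmersion (pairHom fst snd) := by
  have h1 := (isClosedImmersion_pairSpec_iff fst.left snd.left).2 h
  have e : pairHom fst snd ≫ pairSpec (pullback.fst U.hom V.hom) (pullback.snd U.hom V.hom) =
      pairSpec fst.left snd.left := by
    rw [comp_pairSpec, pullback.lift_fst, pullback.lift_snd]
  rw [← e] at h1
  have : (pullback U.hom V.hom).IsSeparated :=
    ⟨by rw [terminal.hom_ext (terminal.from _)
          (pullback.fst U.hom V.hom ≫ terminal.from U.left)]
        infer_instance⟩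
  exact IsClosedImmersion.of_comp _
    (pairSpec (pullback.fst U.hom V.hom) (pullback.snd U.hom V.hom))

theorem affine_of_isClosedImmersion_pairHom [S.IsSeparated] {U V P : Over S} (fst : P ⟶ U)
    (snd : P ⟶ V) [IsAffine U.left] [IsAffine V.left] [IsClosedImmersion (pairHom fst snd)] :
    IsAffine P.left ∧ Function.Surjective
      (Algebra.TensorProduct.productMap fst.left.appTop.hom.toIntAlgHom
        snd.left.appTop.hom.toIntAlgHom) := by
  let i : pullback U.hom V.hom ⟶ pullback (terminal.from U.left) (terminal.from V.left) :=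
    pullback.lift (pullback.fst _ _) (pullback.snd _ _) (terminal.hom_ext _ _)
  have : IsClosedImmersion (pullback.mapDesc U.hom V.hom (terminal.from S)) := inferInstance
  have hi : IsClosedImmersion i := by
    let e : pullback (U.hom ≫ terminal.from S) (V.hom ≫ terminal.from S) ≅
        pullback (terminal.from U.left) (terminal.from V.left) :=
      pullback.congrHom (terminal.hom_ext _ _) (terminal.hom_ext _ _)
    have : i = pullback.mapDesc U.hom V.hom (terminal.from S) ≫ e.hom := by
      apply pullback.hom_ext <;> simp [i, e]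
    rw [this]
    infer_instance
  have := isClosedImmersion_pairSpec_terminal (U := U.left) (V := V.left)
  have hc : IsClosedImmersion (pairHom fst snd ≫ i ≫
      pairSpec (pullback.fst (terminal.from U.left) (terminal.from V.left))
        (pullback.snd (terminal.from U.left) (terminal.from V.left))) := inferInstance
  have e : pairHom fst snd ≫ i ≫
      pairSpec (pullback.fst (terminal.from U.left) (terminal.from V.left))
        (pullback.snd (terminal.from U.left) (terminal.from V.left)) =
      pairSpec fst.left snd.left := by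
    rw [comp_pairSpec, comp_pairSpec, pullback.lift_fst, pullback.lift_snd, pullback.lift_fst,
      pullback.lift_snd]
  rw [e] at hc
  have hP : IsAffine P.left := isAffine_of_isAffineHom (pairSpec fst.left snd.left)
  exact ⟨hP, (isClosedImmersion_pairSpec_iff _ _).1 hc⟩

end Groth.Agent.AlgSpB
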