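import Mathlib.AlgebraicGeometry.Morphisms.Etale
import Mathlib.AlgebraicGeometry.Morphisms.FlatDescent
import Mathlib.AlgebraicGeometry.ResidueField
import Mathlib.FieldTheory.SplittingField.Construction
import Mathlib.FieldTheory.IsAlgClosed.AlgebraicClosure
import Mathlib.RingTheory.Unramified.Finite

/-!
Affine schemes etale over a field are split by a finite extension.
-/

universe u

open CategoryTheory CategoryTheory.Limits AlgebraicGeometry

namespace Groth.Agent.AlgSpB

theorem exists_range_le {k : Type u} [Field k] (R : Type u) [CommRing R] [Algebra k R] [Module.Finite k R] :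
    ∃ (K : Type u) (_ : Field K) (_ : Algebra k K), FiniteDimensional k K ∧
      ∀ (Ω : Type u) [Field Ω] [Algebra k Ω] (a : R →ₐ[k] Ω) (b : K →ₐ[k] Ω), a.range ≤ b.range := by
  classical
  obtain ⟨n, s, hs⟩ := Module.Finite.exists_fin (R := k) (M := R)
  let P : Polynomial k := ∏ i, minpoly k (s i)
  have hint : ∀ i, IsIntegral k (s i) := fun i => Algebra.IsIntegral.isIntegral _
  have hP : P ≠ 0 := Finset.prod_ne_zero_iff.2 fun i _ => minpoly.ne_zero (hint i)
  refine ⟨P.SplittingField, inferInstance, inferInstance, inferInstance, fun Ω _ _ a b => ?_⟩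
  have hmem : ∀ i, a (s i) ∈ b.range := by
    intro i
    have hsp : ((minpoly k (s i)).map (algebraMap k P.SplittingField)).Splits :=
      Polynomial.Splits.of_dvd (Polynomial.SplittingField.splits P) (Polynomial.map_ne_zero hP)
        (Polynomial.map_dvd _ (Finset.dvd_prod_of_mem _ (Finset.mem_univ i)))
    have : a (s i) ∈ (minpoly k (s i)).rootSet Ω := by
      rw [Polynomial.mem_rootSet]
      exact ⟨minpoly.ne_zero (hint i), by rw [Polynomial.aeval_algHom_apply, minpoly.aeval, map_zero]⟩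
    rw [← hsp.image_rootSet b] at this
    obtain ⟨z, -, hz⟩ := this
    exact ⟨z, hz⟩
  rintro _ ⟨x, rfl⟩
  have hle : Submodule.span k (Set.range s) ≤ (Subalgebra.toSubmodule b.range).comap a.toLinearMap :=
    Submodule.span_le.2 (by rintro _ ⟨i, rfl⟩; exact hmem i)
  exact hle (hs ▸ Submodule.mem_top : x ∈ Submodule.span k (Set.range s))

theorem exists_splitting_Spec {k : Type u} [Field k] {R : CommRingCat.{u}} (φ : CommRingCat.of k ⟶ R)
    [Etale (Spec.map φ)] :
    ∃ (K : Type u) (_ : Field K) (b : Spec (CommRingCat.of K) ⟶ Spec (CommRingCat.of k)),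
      Flat b ∧ Surjective b ∧ LocallyOfFinitePresentation b ∧
      ∀ w : ↑(pullback (Spec.map φ) b), ∃ σ : Spec (CommRingCat.of K) ⟶ pullback (Spec.map φ) b,
        σ ≫ pullback.snd (Spec.map φ) b = 𝟙 _ ∧ w ∈ Set.range σ := by
  have het : φ.hom.Etale := (HasRingHomProperty.Spec_iff (P := @Etale)).1 ‹_›
  algebraize [φ.hom]
  have : Module.Finite k R := Algebra.FormallyUnramified.finite_of_free k R
  obtain ⟨K, _, _, hfin, hK⟩ := exists_range_le (k := k) R
  let ι : CommRingCat.of k ⟶ CommRingCat.of K := CommRingCat.ofHom (algebraMap k K)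
  have hfl : Flat (Spec.map ι) := inferInstance
  have hlfp : LocallyOfFinitePresentation (Spec.map ι) :=
    (HasRingHomProperty.Spec_iff (P := @LocallyOfFinitePresentation)).2
      (RingHom.finitePresentation_algebraMap.2 (Algebra.FinitePresentation.of_finiteType.1 inferInstance))
  have hsurj : Surjective (Spec.map ι) :=
    ⟨fun y => ⟨(default : PrimeSpectrum K), (inferInstance : Subsingleton (PrimeSpectrum k)).elim _ _⟩⟩
  refine ⟨K, inferInstance, Spec.map ι, hfl, hsurj, hlfp, fun w => ?_⟩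
  let W := pullback (Spec.map φ) (Spec.map ι)
  let Ω := AlgebraicClosure (W.residueField w)
  let γ : Spec (CommRingCat.of Ω) ⟶ W :=
    Spec.map (CommRingCat.ofHom (algebraMap (W.residueField w) Ω)) ≫ W.fromSpecResidueField w
  have hγ : ∀ x, γ x = w := fun x => by
    have : γ x ∈ Set.range (W.fromSpecResidueField w) := ⟨_, rfl⟩
    rwa [Scheme.range_fromSpecResidueField] at this
  obtain ⟨a, ha⟩ := Spec.map_surjective (γ ≫ pullback.fst (Spec.map φ) (Spec.map ι))
  obtain ⟨b, hb⟩ := Spec.map_surjective (γ ≫ pullback.snd (Spec.map φ) (Spec.map ι))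
  have hab : φ ≫ a = ι ≫ b := Spec.map_injective (by
    rw [Spec.map_comp, Spec.map_comp, ha, hb, Category.assoc, Category.assoc]
    exact congrArg (γ ≫ ·) pullback.condition)
  let _ : Algebra k Ω := (φ ≫ a).hom.toAlgebra
  let a' : R →ₐ[k] Ω := ⟨a.hom, fun x => rfl⟩
  let b' : K →ₐ[k] Ω := ⟨b.hom, fun x => by
    change _ = (φ ≫ a).hom x
    rw [hab]; rfl⟩
  let c : R →ₐ[k] K := (AlgEquiv.ofInjective b' b'.toRingHom.injective).symm.toAlgHom.comp
    (a'.codRestrict b'.range fun x => hK Ω a' b' ⟨x, rfl⟩)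
  have hc : ∀ x, b' (c x) = a' x := fun x => by
    have := (AlgEquiv.ofInjective b' b'.toRingHom.injective).apply_symm_apply
      (a'.codRestrict b'.range (fun x => hK Ω a' b' ⟨x, rfl⟩) x)
    exact congrArg Subtype.val this
  have hφc : φ ≫ CommRingCat.ofHom c.toRingHom = ι := CommRingCat.hom_ext (RingHom.ext fun x => c.commutes x)
  let σ : Spec (CommRingCat.of K) ⟶ W := pullback.lift (Spec.map (CommRingCat.ofHom c.toRingHom)) (𝟙 _)
    (by rw [← Spec.map_comp, hφc, Category.id_comp])
  have hγσ : γ = Spec.map b ≫ σ := by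
    apply pullback.hom_ext
    · simp only [Category.assoc, σ, pullback.lift_fst, ← Spec.map_comp]
      rw [← ha]
      congr 1
      exact CommRingCat.hom_ext (RingHom.ext fun x => (hc x).symm)
    · simp only [Category.assoc, σ, pullback.lift_snd, Category.comp_id]
      exact hb.symm
  refine ⟨σ, pullback.lift_snd _ _ _, ?_⟩
  have hx := hγ (default : PrimeSpectrum Ω)
  rw [hγσ] at hx
  exact ⟨_, hx⟩

theorem exists_splitting {k : Type u} [Field k] {A : Scheme.{u}} [IsAffine A]
    (a : A ⟶ Spec (CommRingCat.of k)) [Etale a] :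
    ∃ (K : Type u) (_ : Field K) (b : Spec (CommRingCat.of K) ⟶ Spec (CommRingCat.of k)),
      Flat b ∧ Surjective b ∧ LocallyOfFinitePresentation b ∧
      ∀ w : ↑(pullback a b), ∃ σ : Spec (CommRingCat.of K) ⟶ pullback a b,
        σ ≫ pullback.snd a b = 𝟙 _ ∧ w ∈ Set.range σ := by
  obtain ⟨φ, hφ⟩ := Spec.map_surjective (A.isoSpec.inv ≫ a)
  have : Etale (Spec.map φ) := hφ ▸ inferInstance
  obtain ⟨K, _, b, h1, h2, h3, h4⟩ := exists_splitting_Spec φ
  refine ⟨K, inferInstance, b, h1, h2, h3, fun w => ?_⟩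
  let e : pullback (Spec.map φ) b ⟶ pullback a b :=
    pullback.map _ _ _ _ A.isoSpec.inv (𝟙 _) (𝟙 _) (by rw [hφ, Category.comp_id]) (by simp)
  have : IsIso e := inferInstanceAs (IsIso (pullback.map _ _ _ _ _ _ _ _ _))
  obtain ⟨σ, hσ, hw⟩ := h4 (inv e w)
  refine ⟨σ ≫ e, ?_, ?_⟩
  · rw [Category.assoc]
    refine Eq.trans (congrArg (σ ≫ ·) ?_) hσ
    exact (pullback.lift_snd _ _ _).trans (Category.comp_id _)
  · obtain ⟨x, hx⟩ := hw
    exact ⟨x, by rw [Scheme.Hom.comp_apply, hx, ← Scheme.Hom.comp_apply, IsIso.inv_hom_id]; rfl⟩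

end Groth.Agent.AlgSpB
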