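import Groth.Prelude.Def_AlgSp3
import Groth.Prelude.Def_AlgSp4
import Groth.Prelude.Def_AlgSpGpd
import Mathlib.CategoryTheory.Monoidal.Cartesian.Grp
import Groth.Agent.AlgSp.Diag
import Groth.Agent.AlgSp.QCMor
import Groth.Agent.AlgSpB.Gpd

/-!
Separation of a morphism with a section versus the section.
-/

set_option backward.isDefEq.respectTransparency false
set_option backward.isDefEq.respectTransparency.types false

universe u

open CategoryTheory CategoryTheory.Limits AlgebraicGeometry MonObj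

namespace Groth.Agent.AlgSpB

open _root_.AlgSp

variable {S : Scheme.{u}}

/-- The unit of a group object pulls back to the diagonal along the difference map. -/
theorem exists_isPullback_unit {B : Sp S} (G : Over B) [GrpObj G] :
    ∃ δ : pullback G.hom G.hom ⟶ G.left,
      IsPullback G.hom (pullback.diagonal G.hom) (MonObj.one (X := G)).left δ := by
  let P : Over B := Over.mk (pullback.fst G.hom G.hom ≫ G.hom)
  let p₁ : P ⟶ G := Over.homMk (pullback.fst G.hom G.hom) rfl
  let p₂ : P ⟶ G := Over.homMk (pullback.snd G.hom G.hom) pullback.condition.symm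
  have hη : (MonObj.one (X := G)).left ≫ G.hom = 𝟙 B := Over.w (MonObj.one (X := G))
  have hone : ∀ T : Over B, (1 : T ⟶ G).left = T.hom ≫ (MonObj.one (X := G)).left := by
    intro T
    rw [Hom.one_def, Over.comp_left]
    congr 1
  refine ⟨(p₁ * p₂⁻¹).left, ?_⟩
  have key : ∀ {T : Over B} (f : T ⟶ P),
      (f ≫ (p₁ * p₂⁻¹) = 1 ↔ f ≫ p₁ = f ≫ p₂) := by
    intro T f
    rw [MonObj.comp_mul, GrpObj.comp_inv, mul_inv_eq_one]
  have w : G.hom ≫ (MonObj.one (X := G)).left = pullback.diagonal G.hom ≫ (p₁ * p₂⁻¹).left := by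
    let d : G ⟶ P := Over.homMk (pullback.diagonal G.hom) (by simp [P])
    have hd : d ≫ p₁ = d ≫ p₂ := by ext; simp [d, p₁, p₂]
    have := congrArg Over.Hom.left ((key d).2 hd)
    rw [hone, Over.comp_left] at this
    exact this.symm
  have key' : ∀ c : PullbackCone (MonObj.one (X := G)).left (p₁ * p₂⁻¹).left,
      c.snd ≫ pullback.fst G.hom G.hom = c.snd ≫ pullback.snd G.hom G.hom ∧
        c.fst = c.snd ≫ pullback.fst G.hom G.hom ≫ G.hom := by
    intro c
    have h1 : c.fst = c.snd ≫ pullback.fst G.hom G.hom ≫ G.hom := by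
      have e : (p₁ * p₂⁻¹).left ≫ G.hom = pullback.fst G.hom G.hom ≫ G.hom := Over.w (p₁ * p₂⁻¹)
      have := congrArg (· ≫ G.hom) c.condition
      simp only [Category.assoc] at this
      rw [hη, e] at this
      exact (Category.comp_id _).symm.trans this
    refine ⟨?_, h1⟩
    let f : Over.mk c.fst ⟶ P := Over.homMk c.snd h1.symm
    have hf : f ≫ (p₁ * p₂⁻¹) = 1 := by
      apply Over.OverMorphism.ext
      rw [hone, Over.comp_left]
      exact c.condition.symm
    exact congrArg Over.Hom.left ((key f).1 hf)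
  refine IsPullback.of_isLimit' ⟨w⟩ (PullbackCone.IsLimit.mk _
    (fun c => c.snd ≫ pullback.fst G.hom G.hom) (fun c => ?_) (fun c => ?_) (fun c m _ hm => ?_))
  · rw [Category.assoc]; exact (key' c).2.symm
  · apply pullback.hom_ext
    · simp
    · simpa using (key' c).1
  · rw [← hm]; simp

/-- A property stable under base change holds for the diagonal iff for the unit. -/
theorem diagonal_iff_unit (Q : MorphismProperty (Sp S)) [Q.IsStableUnderBaseChange] {B : Sp S}
    (G : Over B) [GrpObj G] :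
    Q (pullback.diagonal G.hom) ↔ Q (MonObj.one (X := G)).left := by
  obtain ⟨δ, sq⟩ := exists_isPullback_unit G
  exact ⟨fun h => Groth.Agent.AlgSp.section_mem_of_diagonal Q G.hom _ (Over.w (MonObj.one (X := G))) h,
    fun h => Q.of_isPullback sq h⟩

/-- The unit of the stabilizer pulls back to the diagonal of `j`. -/
theorem exists_isPullback_stabilizer_unit {B : Sp S} (G : GroupoidSp B) (eG : G.U ⟶ G.stabilizer)
    (heG : eG ≫ G.stabilizerι = G.e) :
    eG ≫ G.stabilizerToU = 𝟙 G.U ∧ ∃ δ : pullback G.j G.j ⟶ G.stabilizer,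
      IsPullback G.t (pullback.diagonal G.j) eG δ := by
  have hsec : eG ≫ G.stabilizerToU = 𝟙 G.U := by
    have h : eG ≫ G.stabilizerι ≫ G.j = eG ≫ G.stabilizerToU ≫ G.diag :=
      congrArg (eG ≫ ·) (pullback.condition (f := G.j) (g := G.diag))
    have := congrArg (· ≫ pullback.snd G.pU G.pU) h
    simpa [GroupoidSp.diag, reassoc_of% heG, G.e_s] using this.symm
  refine ⟨hsec, ?_⟩
  let α := pullback.fst G.j G.j
  let β := pullback.snd G.j G.j
  have hs : α ≫ G.s = β ≫ G.s := by
    simpa [α, β] using congrArg (· ≫ pullback.snd G.pU G.pU) (pullback.condition (f := G.j) (g := G.j))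
  have ht : α ≫ G.t = β ≫ G.t := by
    simpa [α, β] using congrArg (· ≫ pullback.fst G.pU G.pU) (pullback.condition (f := G.j) (g := G.j))
  have hab : α ≫ G.s = (β ≫ G.i) ≫ G.t := by rw [Category.assoc, G.i_t, hs]
  let δ : pullback G.j G.j ⟶ G.stabilizer := pullback.lift (Gpd.comp α (β ≫ G.i) hab) (α ≫ G.t) (by
    apply pullback.hom_ext
    · rw [Category.assoc, G.j_fst, Gpd.comp_t]; simp [GroupoidSp.diag]
    · rw [Category.assoc, G.j_snd, Gpd.comp_s]; simp [GroupoidSp.diag, G.i_s, ht])
  have hδ₁ : δ ≫ G.stabilizerι = Gpd.comp α (β ≫ G.i) hab := pullback.lift_fst _ _ _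
  have hδ₂ : δ ≫ G.stabilizerToU = α ≫ G.t := pullback.lift_snd _ _ _
  refine ⟨δ, IsPullback.of_isLimit' ⟨?_⟩ (PullbackCone.IsLimit.mk _
    (fun c => c.snd ≫ α) (fun c => ?_) (fun c => ?_) (fun c m _ hm => ?_))⟩
  · apply pullback.hom_ext
    · change (G.t ≫ eG) ≫ G.stabilizerι = (pullback.diagonal G.j ≫ δ) ≫ G.stabilizerι
      rw [Category.assoc, heG, Category.assoc, hδ₁, Gpd.map_comp]
      refine ((Gpd.comp_congr (α' := 𝟙 G.R) (β' := 𝟙 G.R ≫ G.i) ?_ ?_).trans
        ((G.comp_i (𝟙 G.R)).trans ?_)).symm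
      · simp [α]
      · simp [β]
      · simp
    · change (G.t ≫ eG) ≫ G.stabilizerToU = (pullback.diagonal G.j ≫ δ) ≫ G.stabilizerToU
      rw [Category.assoc, hsec, Category.assoc, hδ₂]
      simp [α]
  · have := congrArg (· ≫ G.stabilizerToU) c.condition
    simp only [Category.assoc, hsec, hδ₂] at this
    rw [Category.assoc]
    exact (this.symm.trans (Category.comp_id _))
  · have h1 := congrArg (· ≫ G.stabilizerToU) c.condition
    have h2 := congrArg (· ≫ G.stabilizerι) c.condition
    simp only [Category.assoc, hsec, hδ₂, Category.comp_id] at h1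
    simp only [Category.assoc, heG, hδ₁, Gpd.map_comp] at h2
    have h2' : Gpd.comp (c.snd ≫ α) (c.snd ≫ β ≫ G.i) (by simp [hs, G.i_t]) =
        (c.snd ≫ β) ≫ G.t ≫ G.e := by
      refine h2.symm.trans ?_
      simp only [h1, Category.assoc, reassoc_of% ht]
    have key : c.snd ≫ α = c.snd ≫ β := by
      have e := Gpd.inv_right_cancel (c.snd ≫ α) (c.snd ≫ β) (by rw [Category.assoc, hs, Category.assoc])
      rw [← e]
      refine (Gpd.comp_congr (h := _) ?_ rfl).trans (G.e_comp (c.snd ≫ β))
      refine Eq.trans (Gpd.comp_congr (h := _) rfl (Category.assoc _ _ _)) h2'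
    apply pullback.hom_ext
    · simp [α]
    · simpa [α, β] using key
  · rw [← hm]; simp [α]

theorem diagonal_j_iff {Q : MorphismProperty (Sp S)} [Q.IsStableUnderBaseChange] {B : Sp S}
    (G : GroupoidSp B) (eG : G.U ⟶ G.stabilizer) (heG : eG ≫ G.stabilizerι = G.e) :
    (Q (pullback.diagonal G.j) ↔ Q (pullback.diagonal G.stabilizerToU)) ∧
      (Q (pullback.diagonal G.j) ↔ Q eG) := by
  obtain ⟨hsec, δ, sq⟩ := exists_isPullback_stabilizer_unit G eG heG
  have h1 : Q (pullback.diagonal G.j) → Q (pullback.diagonal G.stabilizerToU) := fun h =>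
    MorphismProperty.of_isPullback (P := Q.diagonal) (IsPullback.of_hasPullback G.j G.diag) h
  have h2 : Q (pullback.diagonal G.stabilizerToU) → Q eG :=
    Groth.Agent.AlgSp.section_mem_of_diagonal Q G.stabilizerToU eG hsec
  have h3 : Q eG → Q (pullback.diagonal G.j) := Q.of_isPullback sq
  exact ⟨⟨h1, fun h => h3 (h2 h)⟩, ⟨fun h => h2 (h1 h), h3⟩⟩

end Groth.Agent.AlgSpB
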